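import Groth.Agent.Books.AffBridge
import Groth.Agent.Sga3B.AffTest
import Groth.Prelude.Def_GmPts
import Groth.Agent.CGrpSh.K731.Full
import Groth.Prelude.Def_CGrpSh2
import Mathlib.RingTheory.HopfAlgebra.GroupLike

/-! Characters of affine group schemes are group-like elements of the coordinate ring. -/

set_option autoImplicit false
universe u
open CategoryTheory MonoidalCategory CartesianMonoidalCategory MonObj GrpObj AlgebraicGeometry
open TensorProduct Opposite

noncomputable section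

namespace K778.CharDict

open Groth.Agent.Books.AffBridge

variable {k : Type u} [CommRing k]

/-- The base. -/
abbrev Bs (k : Type u) [CommRing k] : Scheme.{u} := Spec (CommRingCat.of k)

variable {A B : Type u} [CommRing A] [CommRing B]

/-- Points of `𝔾_m` with values in `Spec A` are units of `A`. -/
def gmE [Algebra k A] : (SpecOver k A ⟶ Red.Gm (Bs k)) ≃* Aˣ :=
  (GmPts.equiv (SpecOver k A)).trans
    (Units.mapEquiv (Scheme.ΓSpecIso (CommRingCat.of A)).commRingCatIsoToRingEquiv.toMulEquiv)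

theorem gmE_val [Algebra k A] (x : SpecOver k A ⟶ Red.Gm (Bs k)) :
    (gmE x : A) = (Scheme.ΓSpecIso (CommRingCat.of A)).hom (Red.gmFn x) := rfl

theorem gmE_nat [Algebra k A] [Algebra k B] (f : A →ₐ[k] B) (x : SpecOver k A ⟶ Red.Gm (Bs k)) :
    (gmE (specMap k f ≫ x) : B) = f (gmE x : A) := by
  rw [gmE_val, gmE_val]
  have h1 := GmPts.gmFn_comp (specMap k f) x
  have h2 := ConcreteCategory.congr_hom (Scheme.ΓSpecIso_naturality (CommRingCat.ofHom f.toRingHom)) (Red.gmFn x)
  rw [h1]
  exact h2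

theorem gmE_ext [Algebra k A] {x y : SpecOver k A ⟶ Red.Gm (Bs k)} (h : (gmE x : A) = gmE y) : x = y :=
  gmE.injective (Units.ext h)

theorem isGroupLike_of_isMonHom [Bialgebra k A] (χ : SpecOver k A ⟶ Red.Gm (Bs k)) [IsMonHom χ] :
    IsGroupLikeElem k (gmE χ : A) where
  counit_eq_one := by
    have h1 : specMap k (1 : WithConv (A →ₐ[k] k)).ofConv ≫ χ = 1 := by
      rw [specMap_one]
      exact MonObj.one_comp χ
    have h2 := gmE_nat (1 : WithConv (A →ₐ[k] k)).ofConv χ
    rw [h1, map_one] at h2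
    exact h2.symm
  comul_eq_tmul_self := by
    let x : WithConv (A →ₐ[k] A ⊗[k] A) := WithConv.toConv Algebra.TensorProduct.includeLeft
    let y : WithConv (A →ₐ[k] A ⊗[k] A) := WithConv.toConv Algebra.TensorProduct.includeRight
    have h0 : ∀ a : A, (x * y).ofConv a = Coalgebra.comul (R := k) a := by
      intro a
      rw [AlgHom.convMul_apply]
      have : ∀ z : A ⊗[k] A, Algebra.TensorProduct.lift (x.ofConv) (y.ofConv) (fun _ _ => .all _ _) z = z := by
        intro z
        induction z with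
        | zero => rw [map_zero]
        | add a b ha hb => rw [map_add, ha, hb]
        | tmul a b =>
          rw [Algebra.TensorProduct.lift_tmul]
          change (a ⊗ₜ[k] (1 : A)) * ((1 : A) ⊗ₜ[k] b) = _
          rw [Algebra.TensorProduct.tmul_mul_tmul, _root_.one_mul, _root_.mul_one]
      exact this _
    have h1 : specMap k (x * y).ofConv ≫ χ = (specMap k x.ofConv ≫ χ) * (specMap k y.ofConv ≫ χ) := by
      rw [specMap_mul]
      exact MonObj.mul_comp _ _ χ
    have h2 := congrArg (fun q => (gmE q : A ⊗[k] A)) h1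
    simp only [map_mul, Units.val_mul, gmE_nat] at h2
    rw [h0] at h2
    refine h2.trans ?_
    change ((gmE χ : A) ⊗ₜ[k] (1 : A)) * ((1 : A) ⊗ₜ[k] (gmE χ : A)) = _
    rw [Algebra.TensorProduct.tmul_mul_tmul, _root_.one_mul, _root_.mul_one]

instance isAffine_specOver [Algebra k A] : IsAffine (SpecOver k A).left :=
  (inferInstance : IsAffine (Spec (CommRingCat.of A)))

theorem isMonHom_of_isGroupLike [HopfAlgebra k A] (χ : SpecOver k A ⟶ Red.Gm (Bs k))
    (h : IsGroupLikeElem k (gmE χ : A)) : IsMonHom χ := by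
  refine Groth.Agent.Sga3B.AffTest.isMonHom_of_pts χ fun T _ _ a b => ?_
  obtain ⟨f, rfl⟩ := (specEquiv k).surjective a
  obtain ⟨g, rfl⟩ := (specEquiv k).surjective b
  change (specMap k (WithConv.toConv f).ofConv * specMap k (WithConv.toConv g).ofConv) ≫ χ = (specMap k f ≫ χ) * (specMap k g ≫ χ)
  rw [← specMap_mul]
  apply gmE_ext
  rw [map_mul, Units.val_mul, gmE_nat, gmE_nat, gmE_nat, AlgHom.convMul_apply, h.comul_eq_tmul_self]
  rfl

/-- Commutative groups have cocommutative coordinate rings. -/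
theorem isCocomm_of_isCommMonObj [HopfAlgebra k A] [IsCommMonObj (SpecOver k A)] : Coalgebra.IsCocomm k A where
  comm_comp_comul := by
    let x : WithConv (A →ₐ[k] A ⊗[k] A) := WithConv.toConv Algebra.TensorProduct.includeLeft
    let y : WithConv (A →ₐ[k] A ⊗[k] A) := WithConv.toConv Algebra.TensorProduct.includeRight
    have h0 : ∀ z : A ⊗[k] A, Algebra.TensorProduct.lift (x.ofConv) (y.ofConv) (fun _ _ => .all _ _) z = z := by
      intro z
      induction z with
      | zero => rw [map_zero]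
      | add a b ha hb => rw [map_add, ha, hb]
      | tmul a b =>
        rw [Algebra.TensorProduct.lift_tmul]
        change (a ⊗ₜ[k] (1 : A)) * ((1 : A) ⊗ₜ[k] b) = _
        rw [Algebra.TensorProduct.tmul_mul_tmul, _root_.one_mul, _root_.mul_one]
    have h1 : ∀ z : A ⊗[k] A, Algebra.TensorProduct.lift (y.ofConv) (x.ofConv) (fun _ _ => .all _ _) z =
        TensorProduct.comm k A A z := by
      intro z
      induction z with
      | zero => rw [map_zero, map_zero]
      | add a b ha hb => rw [map_add, map_add, ha, hb]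
      | tmul a b =>
        rw [Algebra.TensorProduct.lift_tmul]
        change ((1 : A) ⊗ₜ[k] a) * (b ⊗ₜ[k] (1 : A)) = _
        rw [Algebra.TensorProduct.tmul_mul_tmul, _root_.one_mul, _root_.mul_one]
        rfl
    have h2 : specMap k (x * y).ofConv = specMap k (y * x).ofConv := by
      rw [specMap_mul, specMap_mul]
      exact _root_.mul_comm (specMap k x.ofConv) (specMap k y.ofConv)
    have h3 := specMap_injective k h2
    ext a
    have h4 := AlgHom.congr_fun h3 a
    have h5 := AlgHom.convMul_apply x y a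
    have h6 := AlgHom.convMul_apply y x a
    change (x * y) a = (y * x) a at h4
    rw [h5, h6, h0, h1] at h4
    exact h4.symm

section Sheaf

variable (K : Precoverage Scheme.{u}) [(QuotSh.J K (Bs k)).Subcanonical]

theorem hom_add {G : Over (Bs k)} [GrpObj G] [IsCommMonObj G] (χ ψ : CGrpSh.pts K G ⟶ CGrpSh2.Gm K (Bs k)) :
    K731.Full.hom (χ + ψ) = K731.Full.hom χ * K731.Full.hom ψ := rfl

variable {K}

variable {G H : Over (Bs k)} [GrpObj G] [IsCommMonObj G] [GrpObj H] [IsCommMonObj H]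

/-- The group-like element of a character. -/
def toGL [HopfAlgebra k A] (e : G ≅ SpecOver k A) [IsMonHom e.hom] :
    (CGrpSh.pts K G ⟶ CGrpSh2.Gm K (Bs k)) →+ Additive (GroupLike k A) where
  toFun χ := Additive.ofMul ⟨gmE (e.inv ≫ K731.Full.hom χ), isGroupLike_of_isMonHom (e.inv ≫ K731.Full.hom χ)⟩
  map_zero' := by
    apply Additive.toMul.injective
    apply GroupLike.val_injective
    change (gmE (e.inv ≫ K731.Full.hom (0 : CGrpSh.pts K G ⟶ CGrpSh2.Gm K (Bs k))) : A) = 1
    have h1 : K731.Full.hom (0 : CGrpSh.pts K G ⟶ CGrpSh2.Gm K (Bs k)) = 1 := rfl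
    have h2 : e.inv ≫ (1 : G ⟶ Red.Gm (Bs k)) = 1 := MonObj.comp_one _
    rw [h1, h2, map_one, Units.val_one]
  map_add' χ ψ := by
    apply Additive.toMul.injective
    apply GroupLike.val_injective
    change (gmE (e.inv ≫ K731.Full.hom (χ + ψ)) : A) =
      (gmE (e.inv ≫ K731.Full.hom χ) : A) * (gmE (e.inv ≫ K731.Full.hom ψ) : A)
    rw [hom_add, MonObj.comp_mul, map_mul, Units.val_mul]

theorem toGL_val [HopfAlgebra k A] (e : G ≅ SpecOver k A) [IsMonHom e.hom]
    (χ : CGrpSh.pts K G ⟶ CGrpSh2.Gm K (Bs k)) :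
    (toGL e χ).toMul.val = (gmE (e.inv ≫ K731.Full.hom χ) : A) := rfl

theorem toGL_injective [HopfAlgebra k A] (e : G ≅ SpecOver k A) [IsMonHom e.hom] :
    Function.Injective (toGL (K := K) e) := by
  intro χ ψ h
  have h1 : (gmE (e.inv ≫ K731.Full.hom χ) : A) = gmE (e.inv ≫ K731.Full.hom ψ) :=
    congrArg (fun q => q.toMul.val) h
  have h2 := gmE_ext h1
  rw [cancel_epi] at h2
  rw [← K731.Full.ptsMap_hom χ, ← K731.Full.ptsMap_hom ψ]
  congr 1

theorem toGL_surjective [HopfAlgebra k A] (e : G ≅ SpecOver k A) [IsMonHom e.hom] :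
    Function.Surjective (toGL (K := K) e) := by
  intro g
  let y : SpecOver k A ⟶ Red.Gm (Bs k) := gmE.symm (GroupLike.toUnits (R := k) (A := A) g.toMul)
  have hy : (gmE y : A) = g.toMul.val := by
    rw [MulEquiv.apply_symm_apply]
    rfl
  have : IsMonHom y := isMonHom_of_isGroupLike y (by rw [hy]; exact g.toMul.2)
  refine ⟨CGrpSh.ptsMap K (e.hom ≫ y), ?_⟩
  apply Additive.toMul.injective
  apply GroupLike.val_injective
  rw [toGL_val, K731.Full.hom_ptsMap, Iso.inv_hom_id_assoc, hy]

theorem toGL_nat [HopfAlgebra k A] [HopfAlgebra k B] (eG : G ≅ SpecOver k A) [IsMonHom eG.hom]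
    (eH : H ≅ SpecOver k B) [IsMonHom eH.hom] (i : H ⟶ G) [IsMonHom i] (φ : A →ₐc[k] B)
    (hφ : specMap k (φ : A →ₐ[k] B) = eH.inv ≫ i ≫ eG.hom) (χ : CGrpSh.pts K G ⟶ CGrpSh2.Gm K (Bs k)) :
    (toGL eH (CGrpSh.ptsMap K i ≫ χ)).toMul.val = φ ((toGL eG χ).toMul.val) := by
  rw [toGL_val, toGL_val, K731.Full.hom_comp, K731.Full.hom_ptsMap]
  have h1 : eH.inv ≫ i ≫ K731.Full.hom χ = specMap k (φ : A →ₐ[k] B) ≫ eG.inv ≫ K731.Full.hom χ := by
    rw [hφ]
    simp
  rw [h1, gmE_nat]
  rfl

end Sheaf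

theorem surjective_of_isClosedImmersion [Algebra k A] [Algebra k B] (φ : A →ₐ[k] B)
    [h : IsClosedImmersion (specMap k φ).left] : Function.Surjective φ := by
  have h1 : IsClosedImmersion (Spec.map (CommRingCat.ofHom φ.toRingHom)) := h
  obtain ⟨-, h2⟩ := IsClosedImmersion.isAffine_surjective_of_isAffine (Spec.map (CommRingCat.ofHom φ.toRingHom))
  intro b
  obtain ⟨c, hc⟩ := h2 ((Scheme.ΓSpecIso (CommRingCat.of B)).inv b)
  refine ⟨(Scheme.ΓSpecIso (CommRingCat.of A)).hom c, ?_⟩
  have h3 := ConcreteCategory.congr_hom (Scheme.ΓSpecIso_naturality (CommRingCat.ofHom φ.toRingHom)) c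
  have h4 := congrArg (Scheme.ΓSpecIso (CommRingCat.of B)).hom hc
  refine h3.symm.trans (h4.trans ?_)
  exact ConcreteCategory.congr_hom (Scheme.ΓSpecIso (CommRingCat.of B)).inv_hom_id b

theorem finiteType_of_iso {G : Over (Bs k)} [LocallyOfFiniteType G.hom] [Algebra k A] (e : G ≅ SpecOver k A) :
    Algebra.FiniteType k A := by
  have h1 : (SpecOver k A).hom = e.inv.left ≫ G.hom := (Over.w e.inv).symm
  have a1 : IsIso e.inv.left := inferInstanceAs (IsIso ((Over.forget _).map e.inv))
  have h2 : LocallyOfFiniteType (SpecOver k A).hom := by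
    rw [h1]
    infer_instance
  have h3 : LocallyOfFiniteType (Spec.map (CommRingCat.ofHom (algebraMap k A))) := h2
  rw [HasRingHomProperty.Spec_iff (P := @LocallyOfFiniteType)] at h3
  exact RingHom.finiteType_algebraMap.1 h3

theorem isCommMonObj_of_mono {D : Type*} [Category D] [CartesianMonoidalCategory D]
    [BraidedCategory D] {G G' : D} [MonObj G] [MonObj G'] [IsCommMonObj G] (i : G' ⟶ G)
    [IsMonHom i] [Mono i] : IsCommMonObj G' := by
  refine ⟨?_⟩
  rw [← cancel_mono i, Category.assoc, IsMonHom.mul_hom,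
    ← BraidedCategory.braiding_naturality_assoc, IsCommMonObj.mul_comm]

/-- Homomorphisms of affine groups as bialgebra maps. -/
theorem exists_chart (G H : Over (Bs k)) [GrpObj G] [IsCommMonObj G] [GrpObj H] [IsCommMonObj H] [IsAffine G.left]
    [IsAffine H.left] (i : H ⟶ G) [IsMonHom i] :
    ∃ (A B : Type u) (_ : CommRing A) (_ : CommRing B) (_ : HopfAlgebra k A) (_ : HopfAlgebra k B)
      (eG : G ≅ SpecOver k A) (_ : IsMonHom eG.hom) (eH : H ≅ SpecOver k B) (_ : IsMonHom eH.hom) (φ : A →ₐc[k] B),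
      specMap k (φ : A →ₐ[k] B) = eH.inv ≫ i ≫ eG.hom ∧ Coalgebra.IsCocomm k A ∧ Coalgebra.IsCocomm k B := by
  obtain ⟨A, iA, jA, eG, hG⟩ := exists_hopf k G
  obtain ⟨B, iB, jB, eH, hH⟩ := exists_hopf k H
  obtain ⟨φ, hφ⟩ := exists_bialgHom_of_isMonHom k (eH.inv ≫ i ≫ eG.hom)
  have hcG : IsCommMonObj (SpecOver k A) := isCommMonObj_of_mono eG.inv
  have hcH : IsCommMonObj (SpecOver k B) := isCommMonObj_of_mono eH.inv
  exact ⟨A, B, iA, iB, jA, jB, eG, hG, eH, hH, φ, hφ, isCocomm_of_isCommMonObj, isCocomm_of_isCommMonObj⟩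

end K778.CharDict
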