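import Mathlib.RingTheory.Coalgebra.GroupLike
import Mathlib.RingTheory.Coalgebra.Convolution
import Mathlib.RingTheory.Bialgebra.GroupLike
import Mathlib.RingTheory.Ideal.GoingUp
import Mathlib.FieldTheory.IsAlgClosed.Basic
import Mathlib.LinearAlgebra.Dual.Lemmas
import Mathlib.LinearAlgebra.TensorProduct.Basis
import Mathlib.RingTheory.TensorProduct.Free
import Mathlib.RingTheory.Norm.Basic
import Mathlib.RingTheory.Bialgebra.TensorProduct

/-! Group-like elements lift, up to a power, along surjective maps of cocommutative bialgebras. -/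

set_option autoImplicit false

open TensorProduct Coalgebra WithConv

namespace K778.GroupLift

section Norm

variable {k : Type*} [Field k] {K : Type*} [CommRing K] [Algebra k K] [Module.Finite k K]
variable {A A' : Type*} [CommRing A] [Algebra k A] [CommRing A'] [Algebra k A']

theorem norm_map (ψ : A →ₐ[k] A') (x : A ⊗[k] K) :
    Algebra.norm A' (Algebra.TensorProduct.map ψ (AlgHom.id k K) x) = ψ (Algebra.norm A x) := by
  classical
  let b := Module.finBasis k K
  rw [Algebra.norm_eq_matrix_det (b.baseChange A'), Algebra.norm_eq_matrix_det (b.baseChange A)]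
  have h : Algebra.leftMulMatrix (b.baseChange A') (Algebra.TensorProduct.map ψ (AlgHom.id k K) x) =
      (Algebra.leftMulMatrix (b.baseChange A) x).map ψ := by
    ext i j
    rw [Matrix.map_apply, Algebra.leftMulMatrix_eq_repr_mul, Algebra.leftMulMatrix_eq_repr_mul]
    induction x with
    | zero => simp
    | add x y hx hy => rw [map_add, add_mul, map_add, Finsupp.add_apply, hx, hy, add_mul, map_add, Finsupp.add_apply, map_add]
    | tmul a c =>
      rw [Algebra.TensorProduct.map_tmul, Module.Basis.baseChange_apply, Module.Basis.baseChange_apply,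
        Algebra.TensorProduct.tmul_mul_tmul, Algebra.TensorProduct.tmul_mul_tmul, Module.Basis.baseChange_repr_tmul,
        Module.Basis.baseChange_repr_tmul]
      simp
  rw [h]
  exact ((ψ : A →+* A').map_det _).symm

end Norm

section Sep

variable {k : Type*} [Field k] {K : Type*} [CommRing K] [Algebra k K]
variable {V : Type*} [AddCommGroup V] [Module k V]

/-- Evaluation of a functional, with coefficients. -/
noncomputable def ev (K : Type*) [CommRing K] [Algebra k K] (f : V →ₗ[k] k) : V ⊗[k] K →ₗ[k] K :=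
  (TensorProduct.lid k K).toLinearMap ∘ₗ f.rTensor K

theorem ev_tmul (f : V →ₗ[k] k) (v : V) (c : K) : ev K f (v ⊗ₜ[k] c) = f v • c := by simp [ev]

theorem sep {ι : Type*} (b : Module.Basis ι k V) (z w : V ⊗[k] K) (h : ∀ i, ev K (b.coord i) z = ev K (b.coord i) w) :
    z = w := by
  classical
  apply (TensorProduct.equivFinsuppOfBasisLeft (N := K) b).injective
  ext i
  rw [TensorProduct.equivFinsuppOfBasisLeft_apply, TensorProduct.equivFinsuppOfBasisLeft_apply]
  exact h i

theorem sep' (z w : V ⊗[k] K) (h : ∀ f : V →ₗ[k] k, ev K f z = ev K f w) : z = w :=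
  sep (Module.Basis.ofVectorSpace k V) z w fun _ => h _

/-- The product of two functionals. -/
noncomputable def prodFun (f g : V →ₗ[k] k) : V ⊗[k] V →ₗ[k] k := LinearMap.mul' k k ∘ₗ TensorProduct.map f g

theorem prodFun_tmul (f g : V →ₗ[k] k) (v w : V) : prodFun f g (v ⊗ₜ[k] w) = f v * g w := by simp [prodFun]

theorem sep₂ (z w : (V ⊗[k] V) ⊗[k] K) (h : ∀ f g : V →ₗ[k] k, ev K (prodFun f g) z = ev K (prodFun f g) w) :
    z = w := by
  refine sep ((Module.Basis.ofVectorSpace k V).tensorProduct (Module.Basis.ofVectorSpace k V)) z w fun i => ?_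
  obtain ⟨i, j⟩ := i
  have : ((Module.Basis.ofVectorSpace k V).tensorProduct (Module.Basis.ofVectorSpace k V)).coord (i, j) =
      prodFun ((Module.Basis.ofVectorSpace k V).coord i) ((Module.Basis.ofVectorSpace k V).coord j) := by
    ext a b
    simp [prodFun, mul_comm]
  rw [this]
  exact h _ _

theorem sep₂' (z w : V ⊗[k] V) (h : ∀ f g : V →ₗ[k] k, prodFun f g z = prodFun f g w) : z = w := by
  have := sep₂ (K := k) (z ⊗ₜ 1) (w ⊗ₜ 1) (fun f g => by rw [ev_tmul, ev_tmul, h])
  simpa using congrArg (TensorProduct.rid k (V ⊗[k] V)) this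

end Sep

section Lift

variable {k : Type*} [Field k] {A : Type*} [AddCommGroup A] [Module k A] [Coalgebra k A]

theorem conv_apply (f g : WithConv (A →ₗ[k] k)) (a : A) : (f * g) a = prodFun f.ofConv g.ofConv (comul a) := rfl

/-- A functional on the dual which is continuous is an evaluation. -/
theorem exists_ev {K : Type*} [CommRing K] [Algebra k K] (a : A) (χ : (WithConv (A →ₗ[k] k)) →ₗ[k] K)
    (h : ∀ f : WithConv (A →ₗ[k] k), (∀ g : WithConv (A →ₗ[k] k), (g * f) a = 0) → χ f = 0) :
    ∃ z : A ⊗[k] K, ∀ f : WithConv (A →ₗ[k] k), χ f = ev K f.ofConv z := by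
  classical
  let 𝓡 := ℛ k a
  let L : WithConv (A →ₗ[k] k) →ₗ[k] (𝓡.index → k) :=
    { toFun := fun f i => f.ofConv (𝓡.right i)
      map_add' := fun f g => rfl
      map_smul' := fun c f => rfl }
  have h1 : LinearMap.ker L ≤ LinearMap.ker χ := by
    intro f hf
    refine h f fun g => ?_
    rw [𝓡.convMul_apply]
    refine Finset.sum_eq_zero fun i hi => ?_
    have : f.ofConv (𝓡.right i) = 0 := congrFun hf ⟨i, hi⟩
    exact (congrArg _ this).trans (mul_zero _)
  obtain ⟨C, hC⟩ : ∃ C : (𝓡.index → k) →ₗ[k] K, C ∘ₗ L = χ := by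
    obtain ⟨s, hs⟩ := (L.rangeRestrict).exists_rightInverse_of_surjective (LinearMap.range_rangeRestrict L)
    obtain ⟨C, hC⟩ := LinearMap.exists_extend (χ ∘ₗ s)
    refine ⟨C, LinearMap.ext fun f => ?_⟩
    have h2 := LinearMap.congr_fun hC (L.rangeRestrict f)
    have h3 : χ (s (L.rangeRestrict f)) = χ f := by
      rw [← sub_eq_zero, ← map_sub]
      apply h1
      have := LinearMap.congr_fun hs (L.rangeRestrict f)
      rw [LinearMap.mem_ker, map_sub, sub_eq_zero]
      exact congrArg Subtype.val this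
    exact h2.trans h3
  refine ⟨∑ i : 𝓡.index, (𝓡.right i) ⊗ₜ C (fun j => if i = j then 1 else 0), fun f => ?_⟩
  rw [← hC, map_sum]
  simp only [ev_tmul, LinearMap.comp_apply]
  conv_lhs => rw [LinearMap.pi_apply_eq_sum_univ C (L f)]
  rfl

variable [Coalgebra.IsCocomm k A]

/-- The largest ideal on which evaluation at `a` vanishes. -/
def annih (a : A) : Ideal (WithConv (A →ₗ[k] k)) where
  carrier := {f | ∀ g : WithConv (A →ₗ[k] k), (g * f) a = 0}
  add_mem' := fun {f f'} hf hf' g => by
    rw [mul_add]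
    exact (congrArg₂ (· + ·) (hf g) (hf' g)).trans (add_zero _)
  zero_mem' := fun g => by rw [mul_zero]; rfl
  smul_mem' := fun c f hf g => by
    rw [smul_eq_mul, ← mul_assoc]
    exact hf _

theorem finite_quot (a : A) : Module.Finite k (WithConv (A →ₗ[k] k) ⧸ annih (k := k) a) := by
  classical
  let 𝓡 := ℛ k a
  let L : WithConv (A →ₗ[k] k) →ₗ[k] (𝓡.index → k) :=
    { toFun := fun f i => f.ofConv (𝓡.right i)
      map_add' := fun f g => rfl
      map_smul' := fun c f => rfl }
  have h1 : LinearMap.ker L ≤ (annih (k := k) a).restrictScalars k := by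
    intro f hf g
    rw [𝓡.convMul_apply]
    refine Finset.sum_eq_zero fun i hi => ?_
    have : f.ofConv (𝓡.right i) = 0 := congrFun hf ⟨i, hi⟩
    exact (congrArg _ this).trans (mul_zero _)
  have h2 : Module.Finite k (WithConv (A →ₗ[k] k) ⧸ LinearMap.ker L) :=
    Module.Finite.equiv L.quotKerEquivRange.symm
  let q : (WithConv (A →ₗ[k] k) ⧸ LinearMap.ker L) →ₗ[k] (WithConv (A →ₗ[k] k) ⧸ annih (k := k) a) :=
    (LinearMap.ker L).liftQ ((Ideal.Quotient.mkₐ k (annih (k := k) a)).toLinearMap) (by
      intro f hf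
      exact Ideal.Quotient.eq_zero_iff_mem.mpr (h1 hf))
  refine Module.Finite.of_surjective q fun y => ?_
  obtain ⟨f, rfl⟩ := Ideal.Quotient.mk_surjective y
  exact ⟨Submodule.Quotient.mk f, rfl⟩

end Lift

section Main

universe u

variable {k : Type u} [Field k] {A B : Type u} [CommRing A] [Bialgebra k A] [Coalgebra.IsCocomm k A]
  [CommRing B] [Bialgebra k B] [Coalgebra.IsCocomm k B]

/-- Pull back of functionals. -/
noncomputable def pb (φ : A →ₐc[k] B) : WithConv (B →ₗ[k] k) →ₐ[k] WithConv (A →ₗ[k] k) where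
  toFun f := toConv (f.ofConv ∘ₗ (φ : A →ₗc[k] B).toLinearMap)
  map_one' := by
    apply WithConv.ext
    ext a
    change algebraMap k k (counit (R := k) (φ a)) = algebraMap k k (counit (R := k) a)
    rw [CoalgHomClass.counit_comp_apply]
  map_mul' f g := by
    apply WithConv.ext
    exact LinearMap.convMul_comp_coalgHom_distrib f g (φ : A →ₗc[k] B)
  map_zero' := rfl
  map_add' f g := rfl
  commutes' r := by
    apply WithConv.ext
    ext a
    change r • algebraMap k k (counit (R := k) (φ a)) = r • algebraMap k k (counit (R := k) a)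
    rw [CoalgHomClass.counit_comp_apply]

omit [Coalgebra.IsCocomm k A] [Coalgebra.IsCocomm k B] in
theorem pb_apply (φ : A →ₐc[k] B) (f : WithConv (B →ₗ[k] k)) (a : A) : (pb φ f).ofConv a = f.ofConv (φ a) := rfl

/-- Evaluation at a group-like element. -/
noncomputable def evG {h : B} (hh : IsGroupLikeElem k h) : WithConv (B →ₗ[k] k) →ₐ[k] k where
  toFun f := f.ofConv h
  map_one' := by
    change algebraMap k k (counit (R := k) h) = 1
    rw [hh.counit_eq_one, map_one]
  map_mul' f g := by
    change (f * g) h = _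
    rw [conv_apply, hh.comul_eq_tmul_self, prodFun_tmul]
  map_zero' := rfl
  map_add' f g := rfl
  commutes' r := by
    change r • algebraMap k k (counit (R := k) h) = _
    rw [hh.counit_eq_one, map_one]
    simp

theorem exists_ext {k E D : Type u} [Field k] [CommRing E] [CommRing D] [Algebra k E] [Algebra k D]
    (p : E →ₐ[k] D) (J : Ideal D) [hfin : Module.Finite k (D ⧸ J)] (ε : E →ₐ[k] k) (h : ∀ f, p f ∈ J → ε f = 0) :
    ∃ (K : Type u) (_ : Field K) (_ : Algebra k K) (_ : Module.Finite k K) (χ : D →ₐ[k] K),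
      (∀ f ∈ J, χ f = 0) ∧ ∀ f, χ (p f) = algebraMap k K (ε f) := by
  let π : E →ₐ[k] D ⧸ J := (Ideal.Quotient.mkₐ k J).comp p
  let : Algebra E (D ⧸ J) := π.toRingHom.toAlgebra
  have : IsScalarTower k E (D ⧸ J) := IsScalarTower.of_algebraMap_eq fun r => (π.commutes r).symm
  have : Algebra.IsIntegral E (D ⧸ J) := by
    have : Algebra.IsIntegral k (D ⧸ J) := inferInstance
    exact Algebra.IsIntegral.tower_top k
  let P : Ideal E := RingHom.ker ε
  have hP : P.IsPrime := RingHom.ker_isPrime _
  have hle : (⊥ : Ideal (D ⧸ J)).comap (algebraMap E (D ⧸ J)) ≤ P := by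
    intro f hf
    have h1 : p f ∈ J := Ideal.Quotient.eq_zero_iff_mem.mp hf
    exact h f h1
  obtain ⟨M, -, hM, hMP⟩ := Ideal.exists_ideal_over_prime_of_isIntegral P ⊥ hle
  have hfin' : Module.Finite k ((D ⧸ J) ⧸ M) := Module.Finite.of_surjective (Ideal.Quotient.mkₐ k M).toLinearMap
    (Ideal.Quotient.mkₐ_surjective k M)
  have hdom : IsDomain ((D ⧸ J) ⧸ M) := Ideal.Quotient.isDomain M
  have hfield : IsField ((D ⧸ J) ⧸ M) := isField_of_isIntegral_of_isField' (Field.toIsField k)
  let : Field ((D ⧸ J) ⧸ M) := hfield.toField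
  refine ⟨(D ⧸ J) ⧸ M, inferInstance, inferInstance, hfin',
    (Ideal.Quotient.mkₐ k M).comp (Ideal.Quotient.mkₐ k J), fun f hf => ?_, fun f => ?_⟩
  · have : Ideal.Quotient.mkₐ k J f = 0 := Ideal.Quotient.eq_zero_iff_mem.mpr hf
    rw [AlgHom.comp_apply, this, map_zero]
  · have h1 : f - algebraMap k E (ε f) ∈ P := by
      change ε (f - algebraMap k E (ε f)) = 0
      rw [map_sub, AlgHom.commutes]
      exact sub_self _
    rw [← hMP] at h1
    have h2 : (Ideal.Quotient.mkₐ k M) (π (f - algebraMap k E (ε f))) = 0 :=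
      Ideal.Quotient.eq_zero_iff_mem.mpr h1
    rw [map_sub, map_sub, sub_eq_zero, AlgHom.commutes, AlgHom.commutes] at h2
    exact h2

/-- Extension of the character of the dual algebra given by a group-like element. -/
theorem exists_char (φ : A →ₐc[k] B) (hφ : Function.Surjective φ) {h : B} (hh : IsGroupLikeElem k h) :
    ∃ (K : Type u) (_ : Field K) (_ : Algebra k K) (_ : Module.Finite k K) (χ : WithConv (A →ₗ[k] k) →ₐ[k] K) (a : A),
      (∀ f ∈ annih (k := k) a, χ f = 0) ∧ ∀ f : WithConv (B →ₗ[k] k), χ (pb φ f) = algebraMap k K (f.ofConv h) := by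
  obtain ⟨a, ha⟩ := hφ h
  have hfin := finite_quot (k := k) a
  obtain ⟨K, i1, i2, i3, χ, h1, h2⟩ := exists_ext (pb φ) (annih (k := k) a) (evG hh) (fun f hf => by
    have h2 := hf 1
    rw [one_mul] at h2
    change f.ofConv h = 0
    rw [← ha]
    exact h2)
  exact ⟨K, i1, i2, i3, χ, a, h1, h2⟩

omit [Coalgebra.IsCocomm k A] [Coalgebra.IsCocomm k B] in
theorem ev_map {A' : Type*} [CommRing A'] [Algebra k A'] {K : Type*} [CommRing K] [Algebra k K] (ψ : A →ₐ[k] A')
    (f : A' →ₗ[k] k) (z : A ⊗[k] K) :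
    ev K f (Algebra.TensorProduct.map ψ (AlgHom.id k K) z) = ev K (f ∘ₗ ψ.toLinearMap) z := by
  induction z with
  | zero => rw [map_zero, map_zero, map_zero]
  | add x y hx hy => rw [map_add, map_add, map_add, hx, hy]
  | tmul a c =>
    rw [Algebra.TensorProduct.map_tmul, ev_tmul, ev_tmul]
    rfl

omit [Coalgebra.IsCocomm k A] in
theorem ev_mul {K : Type*} [CommRing K] [Algebra k K] (f g : A →ₗ[k] k) (x y : A ⊗[k] K) :
    ev K (prodFun f g)
      (Algebra.TensorProduct.map (Algebra.TensorProduct.includeLeft : A →ₐ[k] A ⊗[k] A) (AlgHom.id k K) x *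
        Algebra.TensorProduct.map (Algebra.TensorProduct.includeRight : A →ₐ[k] A ⊗[k] A) (AlgHom.id k K) y) =
      ev K f x * ev K g y := by
  induction x with
  | zero => rw [map_zero, zero_mul, map_zero, map_zero, zero_mul]
  | add x y hx hy => rw [map_add, add_mul, map_add, map_add, hx, hy, add_mul]
  | tmul a c =>
    induction y with
    | zero => rw [map_zero, mul_zero, map_zero, map_zero, mul_zero]
    | add x y hx hy => rw [map_add, mul_add, map_add, map_add, hx, hy, mul_add]
    | tmul b d =>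
      rw [Algebra.TensorProduct.map_tmul, Algebra.TensorProduct.map_tmul, Algebra.TensorProduct.tmul_mul_tmul,
        Algebra.TensorProduct.includeLeft_apply, Algebra.TensorProduct.includeRight_apply,
        Algebra.TensorProduct.tmul_mul_tmul, ev_tmul, ev_tmul, ev_tmul, prodFun_tmul, mul_one, one_mul,
        smul_mul_smul_comm]
      rfl

/-- Some positive power of a group-like element lifts. -/
theorem exists_pow_lift (φ : A →ₐc[k] B) (hφ : Function.Surjective φ) {h : B} (hh : IsGroupLikeElem k h) :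
    ∃ (K : Type u) (_ : Field K) (_ : Algebra k K) (_ : Module.Finite k K) (g : A),
      IsGroupLikeElem k g ∧ φ g = h ^ Module.finrank k K := by
  obtain ⟨K, i1, i2, i3, χ, a, h1, h2⟩ := exists_char φ hφ hh
  obtain ⟨z, hz⟩ := exists_ev a χ.toLinearMap (fun f hf => h1 f hf)
  have hz' : ∀ f : A →ₗ[k] k, χ (toConv f) = ev K f z := fun f => hz (toConv f)
  refine ⟨K, i1, i2, i3, Algebra.norm A z, ⟨?_, ?_⟩, ?_⟩
  · have e1 : Algebra.TensorProduct.map (Bialgebra.counitAlgHom k A) (AlgHom.id k K) z = 1 := by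
      refine sep' _ _ fun f => ?_
      rw [ev_map]
      have e3 : f ∘ₗ (Bialgebra.counitAlgHom k A).toLinearMap = f 1 • counit (R := k) (A := A) := by
        ext x
        change f (counit (R := k) x) = f 1 * counit (R := k) x
        rw [← smul_eq_mul (f 1), smul_eq_mul, mul_comm, ← smul_eq_mul, ← map_smul, smul_eq_mul, mul_one]
      have e4 : toConv (counit (R := k) (A := A)) = 1 := rfl
      have e5 : ev K (f 1 • counit (R := k) (A := A)) z = f 1 • ev K (counit (R := k) (A := A)) z := by
        rw [← hz', ← hz', toConv_smul, map_smul]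
      have e6 : ev K (counit (R := k) (A := A)) z = 1 := by
        rw [← hz', e4]
        exact map_one χ
      rw [e3, e5, e6, Algebra.TensorProduct.one_def, ev_tmul]
    have e2 := norm_map (Bialgebra.counitAlgHom k A) z
    rw [e1, map_one] at e2
    exact e2.symm
  · have e1 : Algebra.TensorProduct.map (Bialgebra.comulAlgHom k A) (AlgHom.id k K) z =
        Algebra.TensorProduct.map (Algebra.TensorProduct.includeLeft : A →ₐ[k] A ⊗[k] A) (AlgHom.id k K) z *
        Algebra.TensorProduct.map (Algebra.TensorProduct.includeRight : A →ₐ[k] A ⊗[k] A) (AlgHom.id k K) z := by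
      refine sep₂ _ _ fun f g => ?_
      rw [ev_mul, ev_map, ← hz', ← hz' f, ← hz' g, ← map_mul]
      rfl
    have e2 := norm_map (Bialgebra.comulAlgHom k A) z
    rw [e1, map_mul, norm_map, norm_map] at e2
    refine e2.symm.trans ?_
    change (_ ⊗ₜ[k] (1 : A)) * ((1 : A) ⊗ₜ[k] _) = _
    rw [Algebra.TensorProduct.tmul_mul_tmul, one_mul, mul_one]
  · have e1 : Algebra.TensorProduct.map (φ : A →ₐ[k] B) (AlgHom.id k K) z = algebraMap B (B ⊗[k] K) h := by
      refine sep' _ _ fun f => ?_
      rw [ev_map]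
      change _ = ev K f (h ⊗ₜ 1)
      rw [ev_tmul]
      refine ((hz' _).symm.trans (h2 (toConv f))).trans ?_
      exact Algebra.algebraMap_eq_smul_one _
    have e2 := norm_map (φ : A →ₐ[k] B) z
    rw [e1] at e2
    refine e2.symm.trans ?_
    have hn : Nontrivial B := ⟨h, 0, hh.ne_zero⟩
    rw [Algebra.norm_algebraMap, Module.finrank_baseChange]

/-- Over an algebraically closed field group-like elements lift. -/
theorem exists_lift [IsAlgClosed k] (φ : A →ₐc[k] B) (hφ : Function.Surjective φ) {h : B} (hh : IsGroupLikeElem k h) :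
    ∃ g : A, IsGroupLikeElem k g ∧ φ g = h := by
  obtain ⟨K, i1, i2, i3, g, hg, hgh⟩ := exists_pow_lift φ hφ hh
  have h1 : Function.Bijective (algebraMap k K) := IsAlgClosed.algebraMap_bijective_of_isIntegral
  have h2 : Module.finrank k K = 1 := by
    rw [← (LinearEquiv.ofBijective (Algebra.linearMap k K) h1).finrank_eq, Module.finrank_self]
  rw [h2, pow_one] at hgh
  exact ⟨g, hg, hgh⟩

end Main

end K778.GroupLift
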