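import Groth.Agent.AbSch.K453.ExtShLES

/-! The dual of a short exact sequence and double duality of extensions. -/

set_option autoImplicit false
universe u

open CategoryTheory CategoryTheory.Limits Opposite

namespace K778.DblSeq

open K453.SheafEx K453.HomShEx K453.ExtShLES HomSh

variable {C : Type (u + 1)} [Category.{u} C] (J : GrothendieckTopology C)
  [HasInjectiveResolutions (Sheaf J AddCommGrpCat.{u + 1})]

theorem bidual_natural {F F' : Sheaf J AddCommGrpCat.{u + 1}} (α : F ⟶ F') (M : Sheaf J AddCommGrpCat.{u + 1}) :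
    α ≫ bidualMap J F' M = bidualMap J F M ≫ homShMap J (homShMap J α (𝟙 M)) (𝟙 M) := by
  refine Sheaf.hom_ext (NatTrans.ext (funext fun X => AddCommGrpCat.ext fun s => ?_))
  refine Sheaf.hom_ext (NatTrans.ext (funext fun U => AddCommGrpCat.ext fun φ => ?_))
  change ev J φ (F'.obj.map (unop U).hom.op (α.hom.app X s)) =
    ev J ((homShMap J α (𝟙 M)).hom.app (op (unop U).left) φ) (F.obj.map (unop U).hom.op s)
  have h1 := ConcreteCategory.congr_hom (α.hom.naturality (unop U).hom.op) s
  exact congrArg (ev J φ) h1.symm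

/-- The dual of a short exact sequence is short exact if `𝓔xt¹` of the quotient vanishes. -/
theorem shortExact_dual (M : Sheaf J AddCommGrpCat.{u + 1}) {S : ShortComplex (Sheaf J AddCommGrpCat.{u + 1})}
    (hS : S.ShortExact) (hE : IsZero ((extSh J S.X₃ 1).obj M)) :
    (ShortComplex.mk (homShMap J S.g (𝟙 M)) (homShMap J S.f (𝟙 M)) (homShMap_zero_comp _ _ S.zero)).ShortExact where
  exact := by
    have := hS.epi_g
    exact exact_homSh_left M S hS.exact
  mono_f := by
    have := hS.epi_g
    exact mono_homShMap_left M S.g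
  epi_g := (left_exact₃ J M hS).epi_f (hE.eq_of_tgt _ _)

theorem shortExact_op_map (M : Sheaf J AddCommGrpCat.{u + 1}) {S : ShortComplex (Sheaf J AddCommGrpCat.{u + 1})}
    (hS : S.ShortExact) (hE : IsZero ((extSh J S.X₃ 1).obj M)) :
    (S.op.map ((homShBi J).flip.obj M)).ShortExact :=
  shortExact_dual J M hS hE

/-- Double duality of an extension. -/
theorem isIso_bidual (M : Sheaf J AddCommGrpCat.{u + 1}) {S : ShortComplex (Sheaf J AddCommGrpCat.{u + 1})}
    (hS : S.ShortExact) (hE : IsZero ((extSh J S.X₃ 1).obj M))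
    (h₁ : IsIso (bidualMap J S.X₁ M)) (h₃ : IsIso (bidualMap J S.X₃ M)) : IsIso (bidualMap J S.X₂ M) := by
  have hD := shortExact_dual J M hS hE
  set D : ShortComplex (Sheaf J AddCommGrpCat.{u + 1}) :=
    ShortComplex.mk (homShMap J S.g (𝟙 M)) (homShMap J S.f (𝟙 M)) (homShMap_zero_comp _ _ S.zero) with hDdef
  let DD : ShortComplex (Sheaf J AddCommGrpCat.{u + 1}) :=
    ShortComplex.mk (homShMap J D.g (𝟙 M)) (homShMap J D.f (𝟙 M)) (homShMap_zero_comp _ _ D.zero)
  let φ : S ⟶ DD :=
    { τ₁ := bidualMap J S.X₁ M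
      τ₂ := bidualMap J S.X₂ M
      τ₃ := bidualMap J S.X₃ M
      comm₁₂ := (bidual_natural J S.f M).symm
      comm₂₃ := (bidual_natural J S.g M).symm }
  have hepi : Epi DD.g := by
    have h2 : Epi (φ.τ₂ ≫ DD.g) := by
      rw [φ.comm₂₃]
      have := hS.epi_g
      exact epi_comp S.g (bidualMap J S.X₃ M)
    exact epi_of_epi φ.τ₂ DD.g
  have hDD : DD.ShortExact :=
    { exact := by
        have := hD.epi_g
        exact exact_homSh_left M D hD.exact
      mono_f := by
        have := hD.epi_g
        exact mono_homShMap_left M D.g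
      epi_g := hepi }
  have h1 : IsIso φ.τ₁ := h₁
  have h3 : IsIso φ.τ₃ := h₃
  exact ShortComplex.isIso₂_of_shortExact_of_isIso₁₃ φ hS hDD

end K778.DblSeq
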