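import Groth.Agent.CGrpSh.K731.Basic

/-! Sheaves on the big fppf site and finite (or arbitrary) disjoint open decompositions. -/

set_option autoImplicit false
universe v u
open CategoryTheory CategoryTheory.Limits AlgebraicGeometry Opposite

namespace K778.DisjSh

variable {S : Scheme.{u}}

theorem mem_J {Y : Over S} {ι : Type v} (Yi : ι → Over S) (c : ∀ i, Yi i ⟶ Y)
    [∀ i, Flat (c i).left] [∀ i, LocallyOfFinitePresentation (c i).left]
    (hc : ∀ y, ∃ i, y ∈ Set.range (c i).left) :
    Sieve.generate (Presieve.ofArrows Yi c) ∈ QuotSh.J Scheme.fppfPrecoverage S Y := by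
  have h : Presieve.ofArrows (fun i => (Yi i).left) (fun i => (c i).left) ∈ Scheme.fppfPrecoverage Y.left := by
    rw [Scheme.fppfPrecoverage, Scheme.ofArrows_mem_precoverage_iff]
    exact ⟨hc, fun i => ⟨inferInstance, inferInstance⟩⟩
  refine (QuotSh.J Scheme.fppfPrecoverage S).superset_covering ?_ (K731.Basic.mem_J_of_mem h)
  rintro Z g ⟨_, a, b, ⟨i⟩, hab⟩
  change Z.left ⟶ (Yi i).left at a
  change a ≫ (c i).left = g.left at hab
  refine ⟨Yi i, Over.homMk a ?_, c i, ⟨i⟩, ?_⟩
  · rw [← Over.w (c i), ← Over.w g, ← Category.assoc, hab]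
  · ext1
    exact hab

theorem bot_mem (Z : Over S) [IsEmpty Z.left] : ⊥ ∈ QuotSh.J Scheme.fppfPrecoverage S Z := by
  have h := mem_J (Y := Z) (fun i : PEmpty.{1} => (i.elim : Over S)) (fun i => i.elim) (fun y => isEmptyElim y)
  refine (QuotSh.J Scheme.fppfPrecoverage S).superset_covering ?_ h
  rintro W g ⟨V, a, b, ⟨i⟩, _⟩
  exact i.elim

theorem subsingleton_sections (H : BigSite.Ab Scheme.fppfPrecoverage S) (Z : Over S) [IsEmpty Z.left] :
    Subsingleton (H.obj.obj (op Z)) := by
  have h := H.isTerminalOfBotCover Z (bot_mem Z)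
  have : IsZero (H.obj.obj (op Z)) := (isZero_zero _).of_iso (h.uniqueUpToIso (HasZeroObject.zeroIsTerminal))
  exact (AddCommGrpCat.subsingleton_of_isZero this)

theorem isSheafFor_arrows (H : BigSite.Ab Scheme.fppfPrecoverage S) {Y : Over S} {ι : Type v} (Yi : ι → Over S)
    (c : ∀ i, Yi i ⟶ Y) [∀ i, Flat (c i).left] [∀ i, LocallyOfFinitePresentation (c i).left]
    (hc : ∀ y, ∃ i, y ∈ Set.range (c i).left) (x : ∀ i, H.obj.obj (op (Yi i)))
    (hx : ∀ i j (Z : Over S) (a : Z ⟶ Yi i) (b : Z ⟶ Yi j), a ≫ c i = b ≫ c j →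
      H.obj.map a.op (x i) = H.obj.map b.op (x j)) : ∃! t : H.obj.obj (op Y), ∀ i, H.obj.map (c i).op t = x i := by
  have h1 := ((isSheaf_iff_isSheaf_of_type _ _).mp
    ((sheafCompose (QuotSh.J Scheme.fppfPrecoverage S) (forget AddCommGrpCat.{u + 1})).obj H).property)
    _ (mem_J Yi c hc)
  rw [← Presieve.isSheafFor_iff_generate, Presieve.isSheafFor_arrows_iff] at h1
  exact h1 x hx

theorem ext_of_cover (H : BigSite.Ab Scheme.fppfPrecoverage S) {Y : Over S} {ι : Type v} (Yi : ι → Over S)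
    (c : ∀ i, Yi i ⟶ Y) [∀ i, Flat (c i).left] [∀ i, LocallyOfFinitePresentation (c i).left]
    (hc : ∀ y, ∃ i, y ∈ Set.range (c i).left) (s t : H.obj.obj (op Y))
    (h : ∀ i, H.obj.map (c i).op s = H.obj.map (c i).op t) : s = t := by
  obtain ⟨z, -, hz⟩ := isSheafFor_arrows H Yi c hc (fun i => H.obj.map (c i).op s) (fun i j Z a b hab => by
    rw [← ConcreteCategory.comp_apply, ← ConcreteCategory.comp_apply, ← H.obj.map_comp, ← H.obj.map_comp,
      ← op_comp, ← op_comp, hab])
  exact (hz s fun i => rfl).trans (hz t fun i => (h i).symm).symm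

/-- Disjoint open decomposition: sections are families. -/
theorem existsUnique_of_disjoint (H : BigSite.Ab Scheme.fppfPrecoverage S) {Y : Over S} {ι : Type v}
    (Yi : ι → Over S) (c : ∀ i, Yi i ⟶ Y) [∀ i, IsOpenImmersion (c i).left]
    (hc : ∀ y, ∃ i, y ∈ Set.range (c i).left)
    (hd : ∀ i j, i ≠ j → Disjoint (Set.range (c i).left) (Set.range (c j).left)) (x : ∀ i, H.obj.obj (op (Yi i))) :
    ∃! t : H.obj.obj (op Y), ∀ i, H.obj.map (c i).op t = x i := by
  refine isSheafFor_arrows H Yi c hc x fun i j Z a b hab => ?_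
  by_cases hij : i = j
  · subst hij
    have : Mono (c i).left := inferInstance
    have hm : Mono (c i) := (Over.forget S).mono_of_mono_map this
    rw [(cancel_mono (c i)).mp hab]
  · have : IsEmpty Z.left := ⟨fun z => Set.disjoint_left.mp (hd i j hij) ⟨a.left z, rfl⟩ ⟨b.left z, by
      have := congrArg (fun q => q.left z) hab
      exact this.symm⟩⟩
    have := subsingleton_sections H Z
    exact Subsingleton.elim _ _

end K778.DisjSh
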