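import Groth.Agent.GmDual.K778.DualNorm

/-! The norm map on dual sheaves of a finite étale morphism is an isomorphism. -/

set_option autoImplicit false
universe u
open CategoryTheory CategoryTheory.Limits AlgebraicGeometry TopologicalSpace Opposite MonObj MonoidalCategory
  CartesianMonoidalCategory

namespace K778.DualIso

open K778.NormAlg K778.NormSch K778.NormSplit K778.ShSec K778.DualNorm CGrpSh3 Groth.Agent.Etbase.FinEtSplit
  Groth.Agent.Etbase.FinEtPush

local notation "K" => Scheme.fppfPrecoverage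

variable {X X' : Scheme.{u}} {f : X' ⟶ X} [IsFinite f] [Etale f]
variable [IsLocallyNoetherian X] (N : pushGm K f ⟶ CGrpSh2.Gm K X) (hN : IsNormMap K f N) (F' : BigSite.Ab K X')

/-- the piece of `Y → T ×_X X'` over a section -/
noncomputable abbrev piece {T : Over X} (Y : Over ((Over.pullback f).obj T)) {σ : T.left ⟶ X'}
    (hσ : σ ≫ f = T.hom) : Scheme.{u} :=
  pullback Y.hom.left (cc hσ).left

/-- the projection of a piece to the base -/
noncomputable abbrev pieceT {T : Over X} (Y : Over ((Over.pullback f).obj T)) {σ : T.left ⟶ X'}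
    (hσ : σ ≫ f = T.hom) : piece Y hσ ⟶ T.left :=
  pullback.snd Y.hom.left (cc hσ).left

omit [IsFinite f] [Etale f] [IsLocallyNoetherian X] in
theorem piece_w {T : Over X} (Y : Over ((Over.pullback f).obj T)) {σ : T.left ⟶ X'}
    (hσ : σ ≫ f = T.hom) : pullback.fst Y.hom.left (cc hσ).left ≫ Y.left.hom = pieceT Y hσ ≫ σ := by
  have h1 : (cc hσ).left ≫ ((Over.pullback f).obj T).hom = σ := Over.w (cc hσ)
  have h2 : Y.hom.left ≫ ((Over.pullback f).obj T).hom = Y.left.hom := Over.w Y.hom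
  rw [← h2, ← Category.assoc, pullback.condition, Category.assoc, h1]

/-- the inclusion of a piece -/
noncomputable def pieceC {T : Over X} (Y : Over ((Over.pullback f).obj T)) {σ : T.left ⟶ X'}
    (hσ : σ ≫ f = T.hom) : Over.mk (pieceT Y hσ ≫ σ) ⟶ Y.left :=
  Over.homMk (pullback.fst _ _) (piece_w Y hσ)

include hN in
/-- Injectivity over a split base. -/
theorem inj_split {T : Over X} {n : ℕ} {s : Fin n → (T.left ⟶ X')} (h : IsSplit f T.hom s)
    (χ : F'.over ((Over.pullback f).obj T) ⟶ (CGrpSh2.Gm K X').over ((Over.pullback f).obj T))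
    (h0 : (dualNormMap K f N F').hom.app (op T) χ = 0) : χ = 0 := by
  ext Yo x
  obtain ⟨Y⟩ := Yo
  change χ.hom.app (op Y) x = 0
  have him := fun i => isOpenImmersion_cc (h.w i)
  have hof : ∀ i, IsOpenImmersion (pieceC Y (h.w i)).left := fun i =>
    (inferInstance : IsOpenImmersion (pullback.fst Y.hom.left (cc (h.w i)).left))
  refine DisjSh.ext_of_cover (CGrpSh2.Gm K X') (fun i => Over.mk (pieceT Y (h.w i) ≫ s i))
    (fun i => pieceC Y (h.w i)) (fun y => ?_) _ _ fun i => ?_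
  · obtain ⟨i, p, hp⟩ := cc_surj h (Y.hom.left y)
    obtain ⟨z, hz1, hz2⟩ := Scheme.Pullback.exists_preimage_pullback
      (f := Y.hom.left) (g := (cc (h.w i)).left) y p hp.symm
    exact ⟨i, z, hz1⟩
  · have h1 := nat_apply χ (Over.homMk (pieceC Y (h.w i)) : Over.mk (pieceC Y (h.w i) ≫ Y.hom) ⟶ Y) x
    have h' : IsSplit f (Over.mk (pieceT Y (h.w i) ≫ T.hom)).hom (fun j => pieceT Y (h.w i) ≫ s j) := h.comp _
    have h2 := inj_key N hN F' χ h0 (V := Over.mk (pieceT Y (h.w i) ≫ T.hom)) (Over.homMk (pieceT Y (h.w i))) h' i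
      (F'.obj.map (pieceC Y (h.w i)).op x)
    have h3 : pieceC Y (h.w i) ≫ Y.hom = cc (h'.w i) ≫ (Over.pullback f).map
        (Over.homMk (pieceT Y (h.w i)) : Over.mk (pieceT Y (h.w i) ≫ T.hom) ⟶ T) := by
      refine Eq.trans ?_ (cc_nat (Over.homMk (pieceT Y (h.w i)) : Over.mk (pieceT Y (h.w i) ≫ T.hom) ⟶ T)
        (h.w i) (h'.w i)).symm
      ext1
      exact pullback.condition
    have h4 := HomSh.app_over_mk_congr _ χ h3 (F'.obj.map (pieceC Y (h.w i)).op x)
    exact (h1.trans (h4.trans h2)).trans (map_zero ((CGrpSh2.Gm K X').obj.map (pieceC Y (h.w i)).op).hom).symm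

section Surj

variable {T : Over X}

/-- the structure map to `T` of an object over `T ×_X X'`. -/
noncomputable def gY (Y : Over ((Over.pullback f).obj T)) : Over.mk (Y.left.hom ≫ f) ⟶ T :=
  Over.homMk (Y.hom.left ≫ pr f T) (by
    have h2 : Y.hom.left ≫ ((Over.pullback f).obj T).hom = Y.left.hom := Over.w Y.hom
    have h3 : pr f T ≫ T.hom = ((Over.pullback f).obj T).hom ≫ f := pullback.condition
    rw [Category.assoc, h3, ← Category.assoc, h2]
    rfl)

omit [IsFinite f] [Etale f] [IsLocallyNoetherian X] in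
theorem gY_nat {Y' Y : Over ((Over.pullback f).obj T)} (u : Y' ⟶ Y) :
    (Over.homMk u.left.left (by
      change u.left.left ≫ Y.left.hom ≫ f = Y'.left.hom ≫ f
      rw [← Over.w u.left, Category.assoc]) : Over.mk (Y'.left.hom ≫ f) ⟶ Over.mk (Y.left.hom ≫ f)) ≫ gY Y =
      gY Y' := by
  ext1
  change u.left.left ≫ Y.hom.left ≫ pr f T = Y'.hom.left ≫ pr f T
  rw [← Over.w u, Over.comp_left, Category.assoc]

/-- the value of the inverse -/
noncomputable def psiApp (ψ : ((BigSite.pushBig K f AddCommGrpCat.{u + 1}).obj F').over T ⟶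
      (CGrpSh2.Gm K X).over T) (Y : Over ((Over.pullback f).obj T)) :
    F'.obj.obj (op Y.left) →+ (CGrpSh2.Gm K X').obj.obj (op Y.left) :=
  (kap (Over.mk (Y.left.hom ≫ f)) Y.left.hom).symm.toAddMonoidHom.comp
    ((ψ.hom.app (op (Over.mk (gY Y)))).hom.comp
      (sh F' (V := Over.mk (Y.left.hom ≫ f)) (τ := Y.left.hom) rfl))

theorem psiApp_nat (ψ : ((BigSite.pushBig K f AddCommGrpCat.{u + 1}).obj F').over T ⟶
      (CGrpSh2.Gm K X).over T) {Y' Y : Over ((Over.pullback f).obj T)} (u : Y' ⟶ Y)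
      (x : F'.obj.obj (op Y.left)) :
    (CGrpSh2.Gm K X').obj.map u.left.op (psiApp F' ψ Y x) = psiApp F' ψ Y' (F'.obj.map u.left.op x) := by
  have e : u.left.left ≫ Y.left.hom = Y'.left.hom := Over.w u.left
  let k : Over.mk (Y'.left.hom ≫ f) ⟶ Over.mk (Y.left.hom ≫ f) := Over.homMk u.left.left (by
      change u.left.left ≫ Y.left.hom ≫ f = Y'.left.hom ≫ f
      rw [← Over.w u.left, Category.assoc])
  have h1 := kap_symm_nat (X := X) (X' := X') k (τ := Y.left.hom) (τ' := Y'.left.hom) e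
    (ψ.hom.app (op (Over.mk (gY Y))) (sh F' (V := Over.mk (Y.left.hom ≫ f)) (τ := Y.left.hom) rfl x))
  have h2 := nat_apply' ψ k (gY Y) (sh F' (V := Over.mk (Y.left.hom ≫ f)) (τ := Y.left.hom) rfl x)
  have h3 := sh_nat F' k (τ := Y.left.hom) (τ' := Y'.left.hom) rfl rfl e x
  have h4 := HomSh.app_over_mk_congr _ ψ (gY_nat u)
    (F'.obj.map ((Over.pullback f).map k).op (sh F' (V := Over.mk (Y.left.hom ≫ f)) (τ := Y.left.hom) rfl x))
  refine h1.trans (congrArg _ ?_)
  refine h2.trans ?_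
  refine h4.trans ?_
  exact congrArg _ h3

/-- the inverse -/
noncomputable def psi (ψ : ((BigSite.pushBig K f AddCommGrpCat.{u + 1}).obj F').over T ⟶
      (CGrpSh2.Gm K X).over T) :
    F'.over ((Over.pullback f).obj T) ⟶ (CGrpSh2.Gm K X').over ((Over.pullback f).obj T) :=
  ⟨{ app := fun Y => AddCommGrpCat.ofHom (psiApp F' ψ Y.unop)
     naturality := fun Y Y' u => by
      ext x
      exact (psiApp_nat F' ψ u.unop x).symm }⟩

omit [IsFinite f] [Etale f] [IsLocallyNoetherian X] in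
theorem gY_cc (V : Scheme.{u}) (τ : V ⟶ X') (g : Over.mk (τ ≫ f) ⟶ T) :
    gY (Over.mk (cc (T := Over.mk (τ ≫ f)) (σ := τ) rfl ≫ (Over.pullback f).map g)) = g := by
  ext1
  change ((cc (T := Over.mk (τ ≫ f)) (σ := τ) rfl).left ≫ ((Over.pullback f).map g).left) ≫ pr f T = g.left
  have h1 := map_left_fst (f := f) g
  have h2 := cc_pr (f := f) (T := Over.mk (τ ≫ f)) (σ := τ) rfl
  refine (Category.assoc _ _ _).trans ((congrArg _ h1).trans ?_)
  refine (Category.assoc _ _ _).symm.trans ((congrArg (· ≫ g.left) h2).trans ?_)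
  exact Category.id_comp _

theorem psi_apply' (ψ : ((BigSite.pushBig K f AddCommGrpCat.{u + 1}).obj F').over T ⟶
      (CGrpSh2.Gm K X).over T) (V : Scheme.{u}) (τ : V ⟶ X') (g : Over.mk (τ ≫ f) ⟶ T)
    (z : F'.obj.obj (op (Over.mk τ))) :
    (psi F' ψ).hom.app (op (Over.mk (cc (T := Over.mk (τ ≫ f)) (σ := τ) rfl ≫ (Over.pullback f).map g))) z =
      (kap (Over.mk (τ ≫ f)) τ).symm (ψ.hom.app (op (Over.mk g)) (sh F' (V := Over.mk (τ ≫ f)) (τ := τ) rfl z)) := by
  have h0 : (psi F' ψ).hom.app (op (Over.mk (cc (T := Over.mk (τ ≫ f)) (σ := τ) rfl ≫ (Over.pullback f).map g))) z =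
      (kap (Over.mk (τ ≫ f)) τ).symm (ψ.hom.app (op (Over.mk
        (gY (Over.mk (cc (T := Over.mk (τ ≫ f)) (σ := τ) rfl ≫ (Over.pullback f).map g)))))
        (sh F' (V := Over.mk (τ ≫ f)) (τ := τ) rfl z)) := rfl
  refine h0.trans ?_
  have h1 := HomSh.app_over_mk_congr _ ψ (gY_cc V τ g) (sh F' (V := Over.mk (τ ≫ f)) (τ := τ) rfl z)
  exact congrArg (kap (Over.mk (τ ≫ f)) τ).symm h1

theorem psi_apply (ψ : ((BigSite.pushBig K f AddCommGrpCat.{u + 1}).obj F').over T ⟶
      (CGrpSh2.Gm K X).over T) {V : Over X} (g : V ⟶ T) {τ : V.left ⟶ X'} (hτ : τ ≫ f = V.hom)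
    (z : F'.obj.obj (op (Over.mk τ))) :
    (psi F' ψ).hom.app (op (Over.mk (cc hτ ≫ (Over.pullback f).map g))) z =
      (kap V τ).symm (ψ.hom.app (op (Over.mk g)) (sh F' hτ z)) := by
  obtain ⟨V, ⟨⟨⟩⟩, v⟩ := V
  change V ⟶ X' at τ
  change τ ≫ f = v at hτ
  subst hτ
  exact psi_apply' F' ψ V τ g z

include hN in
/-- Surjectivity over a split base. -/
theorem surj_split {n : ℕ} {s : Fin n → (T.left ⟶ X')} (h : IsSplit f T.hom s)
    (ψ : ((BigSite.pushBig K f AddCommGrpCat.{u + 1}).obj F').over T ⟶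
      (CGrpSh2.Gm K X).over T) : (dualNormMap K f N F').hom.app (op T) (psi F' ψ) = ψ := by
  refine ObjectProperty.hom_ext _ (NatTrans.ext (funext fun Yo => AddCommGrpCat.hom_ext (AddMonoidHom.ext fun y => ?_)))
  obtain ⟨Y⟩ := Yo
  obtain ⟨V, ⟨⟨⟩⟩, g⟩ := Y
  change F'.obj.obj (op ((Over.pullback f).obj V)) at y
  change V ⟶ T at g
  change ((dualNormMap K f N F').hom.app (op T) (psi F' ψ)).hom.app (op (Over.mk g)) y =
    ψ.hom.app (op (Over.mk g)) y
  have h' : IsSplit f V.hom (fun j => g.left ≫ s j) := by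
    rw [← Over.w g]; exact h.comp g.left
  rw [dual_split N hN F' (psi F' ψ) g h' y]
  have h1 : ∀ i, kap V (g.left ≫ s i) ((psi F' ψ).hom.app (op (Over.mk (cc (h'.w i) ≫ (Over.pullback f).map g)))
      (F'.obj.map (cc (h'.w i)).op y)) =
      ψ.hom.app (op (Over.mk g)) (sh F' (h'.w i) (F'.obj.map (cc (h'.w i)).op y)) := by
    intro i
    refine (congrArg (kap V (g.left ≫ s i)) (psi_apply F' ψ g (h'.w i) _)).trans ?_
    exact (kap V (g.left ≫ s i)).apply_symm_apply _
  refine (Finset.sum_congr rfl fun i _ => h1 i).trans ?_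
  refine (map_sum (ψ.hom.app (op (Over.mk g))).hom _ _).symm.trans ?_
  exact congrArg _ (sum_sh h' y)

end Surj

omit [IsLocallyNoetherian X] in
variable (f) in
/-- Every object is covered by split ones. -/
theorem exists_split_cover (T : Over X) : ∃ (I : Type (u + 1)) (V : I → Over X) (g : ∀ i, V i ⟶ T),
    (∀ i, Etale (g i).left) ∧ (∀ t, ∃ i, t ∈ Set.range (g i).left) ∧
      ∀ i, ∃ (n : ℕ) (s : Fin n → ((V i).left ⟶ X')), IsSplit f (V i).hom s := by
  refine ⟨{V : Over T.left // Etale V.hom ∧ ∃ (n : ℕ) (s : Fin n → (V.left ⟶ X')), IsSplit f (V.hom ≫ T.hom) s},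
    fun V => Over.mk (V.1.hom ≫ T.hom), fun V => Over.homMk V.1.hom, fun V => V.2.1, fun t => ?_,
    fun V => V.2.2⟩
  obtain ⟨Ω, _, _, ξ, hξ⟩ := Groth.Agent.EtpbcA.Germ.exists_geomPt_aux T.left t
  obtain ⟨V, g, hg, v, hv, n, s, hs⟩ := exists_isSplit f (ξ ≫ T.hom)
  refine ⟨⟨Over.mk (pullback.fst T.hom g), (inferInstance : Etale (pullback.fst T.hom g)), n, fun i => pullback.snd T.hom g ≫ s i, ?_⟩, ?_⟩
  · have := hs.comp (pullback.snd T.hom g)
    rw [← pullback.condition] at this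
    exact this
  · refine ⟨pullback.lift ξ v hv.symm default, ?_⟩
    change (pullback.lift ξ v hv.symm ≫ pullback.fst T.hom g) default = t
    rw [pullback.lift_fst]
    exact hξ

include hN in
theorem isIso_dualNormMap : IsIso (dualNormMap K f N F') := by
  have hinj : ∀ (T : (Over X)ᵒᵖ), Function.Injective ((dualNormMap K f N F').hom.app T) := by
    rintro ⟨T⟩
    rw [injective_iff_map_eq_zero]
    intro χ hχ
    obtain ⟨I, V, g, hg, hgs, hs⟩ := exists_split_cover f T
    refine DisjSh.ext_of_cover ((BigSite.pushBig K f AddCommGrpCat.{u + 1}).obj (CGrpSh2.dualSh K F')) V g hgs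
      χ 0 fun i => ?_
    obtain ⟨n, s, hs⟩ := hs i
    rw [map_zero]
    refine inj_split N hN F' hs _ ?_
    have h1 := ConcreteCategory.congr_hom ((dualNormMap K f N F').hom.naturality (g i).op) χ
    refine h1.trans ?_
    exact (congrArg _ hχ).trans (map_zero ((CGrpSh2.dualSh K
      ((BigSite.pushBig K f AddCommGrpCat.{u + 1}).obj F')).obj.map (g i).op).hom)
  have hmono : Mono (dualNormMap K f N F') := K731.Basic.mono_of_injective _ hinj
  have hepi : Epi (dualNormMap K f N F') := by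
    refine K731.Basic.epi_of_exists_lift _ fun T b => ?_
    obtain ⟨I, V, g, hg, hgs, hs⟩ := exists_split_cover f T
    refine ⟨_, DisjSh.mem_J V g hgs, ?_⟩
    intro W q hq
    obtain ⟨Z, a, c, hc, rfl⟩ := hq
    obtain ⟨i⟩ := hc
    obtain ⟨n, s, hs⟩ := hs i
    have h' : IsSplit f W.hom (fun j => a.left ≫ s j) := by
      rw [← Over.w a]; exact hs.comp a.left
    exact ⟨_, surj_split N hN F' h' ((CGrpSh2.dualSh K ((BigSite.pushBig K f AddCommGrpCat.{u + 1}).obj F')).obj.map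
      (a ≫ g i).op b)⟩
  exact isIso_of_mono_of_epi _

end K778.DualIso
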