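import Groth.Agent.GmDual.K778.ShSec

/-! The norm map on dual sheaves of a finite étale morphism is an isomorphism. -/

set_option autoImplicit false
universe u
open CategoryTheory CategoryTheory.Limits AlgebraicGeometry TopologicalSpace Opposite MonObj MonoidalCategory
  CartesianMonoidalCategory

namespace K778.DualNorm

open K778.NormAlg K778.NormSch K778.NormSplit K778.ShSec CGrpSh3 Groth.Agent.Etbase.FinEtSplit
  Groth.Agent.Etbase.FinEtPush

local notation "K" => Scheme.fppfPrecoverage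

variable {X X' : Scheme.{u}}

/-- The function of a section of the multiplicative group. -/
noncomputable def fn {S : Scheme.{u}} {T : Over S} (x : (CGrpSh2.Gm K S).obj.obj (op T)) : Γ(T.left, ⊤) :=
  Red.gmFn x.down.toMul

theorem fn_injective {S : Scheme.{u}} {T : Over S} : Function.Injective (fn (S := S) (T := T)) := by
  intro x y h
  exact ULift.ext _ _ (GmPts.gmFn_injective h)

theorem fn_add {S : Scheme.{u}} {T : Over S} (x y : (CGrpSh2.Gm K S).obj.obj (op T)) :
    fn (x + y) = fn x * fn y := GmPts.gmFn_mul _ _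

theorem fn_zero {S : Scheme.{u}} {T : Over S} : fn (0 : (CGrpSh2.Gm K S).obj.obj (op T)) = 1 := GmPts.gmFn_one

theorem fn_sum {S : Scheme.{u}} {T : Over S} {I : Type*} (s : Finset I) (x : I → (CGrpSh2.Gm K S).obj.obj (op T)) :
    fn (∑ i ∈ s, x i) = ∏ i ∈ s, fn (x i) := by
  classical
  induction s using Finset.induction_on with
  | empty => simp [fn_zero]
  | insert i s hi ih => rw [Finset.sum_insert hi, Finset.prod_insert hi, fn_add, ih]

theorem fn_map {S : Scheme.{u}} {T V : Over S} (g : V ⟶ T) (x : (CGrpSh2.Gm K S).obj.obj (op T)) :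
    fn ((CGrpSh2.Gm K S).obj.map g.op x) = g.left.appTop (fn x) := GmPts.gmFn_comp _ _

/-- Points of the multiplicative group over `X'` and over `X` of the same scheme. -/
noncomputable def kapE (V : Over X) (τ : V.left ⟶ X') : (Over.mk τ ⟶ Red.Gm X') ≃* (V ⟶ Red.Gm X) :=
  MulEquiv.trans (N := (Γ(V.left, ⊤))ˣ) (GmPts.equiv (S := X') (Over.mk τ)) (GmPts.equiv (S := X) V).symm

theorem gmFn_kapE (V : Over X) (τ : V.left ⟶ X') (x : Over.mk τ ⟶ Red.Gm X') :
    Red.gmFn (kapE V τ x) = Red.gmFn x := GmPts.gmFn_ptOfUnit _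

theorem gmFn_kapE_symm (V : Over X) (τ : V.left ⟶ X') (x : V ⟶ Red.Gm X) :
    Red.gmFn ((kapE V τ).symm x) = Red.gmFn x := GmPts.gmFn_ptOfUnit _

/-- Sections of the multiplicative group over `X'` and over `X` of the same scheme. -/
noncomputable def kap (V : Over X) (τ : V.left ⟶ X') :
    (CGrpSh2.Gm K X').obj.obj (op (Over.mk τ)) ≃+ (CGrpSh2.Gm K X).obj.obj (op V) :=
  (AddEquiv.ulift (α := Additive (Over.mk τ ⟶ Red.Gm X'))).trans
    ((MulEquiv.toAdditive (kapE V τ)).trans (AddEquiv.ulift (α := Additive (V ⟶ Red.Gm X))).symm)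

theorem fn_kap (V : Over X) (τ : V.left ⟶ X') (x : (CGrpSh2.Gm K X').obj.obj (op (Over.mk τ))) :
    fn (kap V τ x) = fn x := gmFn_kapE V τ _

theorem fn_kap_symm (V : Over X) (τ : V.left ⟶ X') (x : (CGrpSh2.Gm K X).obj.obj (op V)) :
    fn ((kap V τ).symm x) = fn x := gmFn_kapE_symm V τ _

theorem kap_symm_nat {V V' : Over X} (k : V' ⟶ V) {τ : V.left ⟶ X'} {τ' : V'.left ⟶ X'}
    (e : k.left ≫ τ = τ') (x : (CGrpSh2.Gm K X).obj.obj (op V)) :
    (CGrpSh2.Gm K X').obj.map (Over.homMk k.left e : Over.mk τ' ⟶ Over.mk τ).op ((kap V τ).symm x) =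
      (kap V' τ').symm ((CGrpSh2.Gm K X).obj.map k.op x) := by
  apply fn_injective
  rw [fn_map, fn_kap_symm, fn_kap_symm, fn_map]
  rfl

variable {f : X' ⟶ X} [IsFinite f] [Etale f]

theorem isNm_prod {T : Over X} {n : ℕ} {s : Fin n → (T.left ⟶ X')} (h : IsSplit f T.hom s)
    (b : Γ(((Over.pullback f).obj T).left, ⊤)) : IsNm f T b (∏ i, (cc (h.w i)).left.appTop b) := by
  intro V g hV
  have h' : IsSplit f V.hom (fun j => g.left ≫ s j) := by
    rw [← Over.w g]; exact h.comp g.left
  have hVa := hV.1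
  rw [nm_eq_prod (pr f V).appTop.hom (fun i => (cc (h'.w i)).left.appTop.hom) (fun i a => by
    have := comp_appTop_apply (cc (h'.w i)).left (pr f V) a
    rw [cc_pr] at this
    exact this.symm) (bijective_cc h'), map_prod]
  refine Finset.prod_congr rfl fun i _ => ?_
  have h1 := congrArg (fun q => q.left.appTop b) (cc_nat g (h.w i) (h'.w i))
  simp only [Over.comp_left] at h1
  rw [comp_appTop_apply] at h1
  exact ((comp_appTop_apply g.left (cc (h.w i)).left b).symm.trans h1.symm)

variable [IsLocallyNoetherian X] (N : pushGm K f ⟶ CGrpSh2.Gm K X) (hN : IsNormMap K f N)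

include hN in
theorem norm_split {T : Over X} {n : ℕ} {s : Fin n → (T.left ⟶ X')} (h : IsSplit f T.hom s)
    (w : (CGrpSh2.Gm K X').obj.obj (op ((Over.pullback f).obj T))) :
    N.hom.app (op T) w = ∑ i, kap T (s i) ((CGrpSh2.Gm K X').obj.map (cc (h.w i)).op w) := by
  apply fn_injective
  have h1 : fn (N.hom.app (op T) w) = ∏ i, (cc (h.w i)).left.appTop (fn w) :=
    IsNm.unique f (NormMap.isNm_of_isNormMap K f N hN T w.down.toMul) (isNm_prod h _)
  rw [h1, fn_sum]
  refine Finset.prod_congr rfl fun i _ => ?_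
  rw [fn_kap, fn_map]

variable (F' : BigSite.Ab K X')

theorem dual_apply {T : Over X}
    (χ : F'.over ((Over.pullback f).obj T) ⟶ (CGrpSh2.Gm K X').over ((Over.pullback f).obj T))
    {V : Over X} (g : V ⟶ T) (y : F'.obj.obj (op ((Over.pullback f).obj V))) :
    ((dualNormMap K f N F').hom.app (op T) χ).hom.app (op (Over.mk g)) y =
      N.hom.app (op V) (χ.hom.app (op (Over.mk ((Over.pullback f).map g))) y) := rfl

theorem nat_apply {S : Scheme.{u}} {F M : BigSite.Ab K S} {Y : Over S} (χ : F.over Y ⟶ M.over Y) {A B : Over Y}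
    (u : A ⟶ B) (x : F.obj.obj (op B.left)) :
    M.obj.map u.left.op (χ.hom.app (op B) x) = χ.hom.app (op A) (F.obj.map u.left.op x) := by
  have h := χ.hom.naturality u.op
  exact (ConcreteCategory.congr_hom h x).symm

theorem nat_apply' {S : Scheme.{u}} {F M : BigSite.Ab K S} {Y A B : Over S} (χ : F.over Y ⟶ M.over Y)
    (u : A ⟶ B) (q : B ⟶ Y) (x : F.obj.obj (op B)) :
    M.obj.map u.op (χ.hom.app (op (Over.mk q)) x) = χ.hom.app (op (Over.mk (u ≫ q))) (F.obj.map u.op x) :=
  nat_apply χ (Over.homMk u : Over.mk (u ≫ q) ⟶ Over.mk q) x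

include hN in
theorem dual_split {T : Over X}
    (χ : F'.over ((Over.pullback f).obj T) ⟶ (CGrpSh2.Gm K X').over ((Over.pullback f).obj T))
    {V : Over X} (g : V ⟶ T) {n : ℕ} {s : Fin n → (V.left ⟶ X')} (h : IsSplit f V.hom s)
    (y : F'.obj.obj (op ((Over.pullback f).obj V))) :
    ((dualNormMap K f N F').hom.app (op T) χ).hom.app (op (Over.mk g)) y =
      ∑ i, kap V (s i) (χ.hom.app (op (Over.mk (cc (h.w i) ≫ (Over.pullback f).map g)))
        (F'.obj.map (cc (h.w i)).op y)) :=
  (norm_split N hN h (χ.hom.app (op (Over.mk ((Over.pullback f).map g))) y)).trans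
    (Finset.sum_congr rfl fun i _ =>
      congrArg (kap V (s i)) (nat_apply' χ (cc (h.w i)) ((Over.pullback f).map g) y))

include hN in
theorem inj_key {T : Over X}
    (χ : F'.over ((Over.pullback f).obj T) ⟶ (CGrpSh2.Gm K X').over ((Over.pullback f).obj T))
    (h0 : (dualNormMap K f N F').hom.app (op T) χ = 0)
    {V : Over X} (g : V ⟶ T) {n : ℕ} {s : Fin n → (V.left ⟶ X')} (h : IsSplit f V.hom s) (i : Fin n)
    (z : F'.obj.obj (op (Over.mk (s i)))) :
    χ.hom.app (op (Over.mk (cc (h.w i) ≫ (Over.pullback f).map g))) z = 0 := by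
  classical
  have h1 := dual_split N hN F' χ g h (sh F' (h.w i) z)
  have h2 : ∀ j, j ≠ i → kap V (s j) (χ.hom.app (op (Over.mk (cc (h.w j) ≫ (Over.pullback f).map g)))
      (F'.obj.map (cc (h.w j)).op (sh F' (h.w i) z))) = 0 := by
    intro j hj
    have h3 := map_cc_sh h j i hj z
    have h4 : χ.hom.app (op (Over.mk (cc (h.w j) ≫ (Over.pullback f).map g)))
        (F'.obj.map (cc (h.w j)).op (sh F' (h.w i) z)) = 0 :=
      (congrArg (χ.hom.app (op (Over.mk (cc (h.w j) ≫ (Over.pullback f).map g)))) h3).trans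
        (map_zero (χ.hom.app (op (Over.mk (cc (h.w j) ≫ (Over.pullback f).map g)))).hom)
    exact (congrArg (kap V (s j)) h4).trans (map_zero _)
  have h5 := h1.trans (Finset.sum_eq_single i (fun j _ hj => h2 j hj)
    (fun hi => absurd (Finset.mem_univ i) hi))
  have h6 : ((dualNormMap K f N F').hom.app (op T) χ).hom.app (op (Over.mk g)) (sh F' (h.w i) z) = 0 := by
    rw [h0]; rfl
  have h7 := congrArg (χ.hom.app (op (Over.mk (cc (h.w i) ≫ (Over.pullback f).map g))))
    (map_cc_sh_self h i z)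
  have h8 := h6.symm.trans h5
  exact (kap V (s i)).injective ((congrArg (kap V (s i)) h7).symm.trans (h8.symm.trans (map_zero _).symm))

end K778.DualNorm
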