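import Mathlib.RingTheory.Etale.QuasiFinite
import Mathlib.RingTheory.Spectrum.Prime.Topology
import Mathlib.RingTheory.Etale.Basic

/-! Étale-locally on the base, neighbourhoods of the points of a fibre of a finite morphism refine to a finite disjoint
open cover. -/

set_option autoImplicit false
universe u

open TensorProduct TopologicalSpace

namespace K778.EtDisj

theorem exists_refine (R A : Type u) [CommRing R] [CommRing A] [Algebra R A] [Module.Finite R A] (p : PrimeSpectrum R) :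
    ∃ (R' : Type u) (_ : CommRing R') (_ : Algebra R R') (_ : Algebra.Etale R R') (P : PrimeSpectrum R')
      (n : ℕ) (q : Fin n → PrimeSpectrum (R' ⊗[R] A)), PrimeSpectrum.comap (algebraMap R R') P = p ∧
      ∀ U : Fin n → Opens (PrimeSpectrum (R' ⊗[R] A)), (∀ i, q i ∈ U i) →
        ∃ (f : R') (V : Fin n → Opens (PrimeSpectrum (R' ⊗[R] A))), f ∉ P.asIdeal ∧ (∀ i, V i ≤ U i) ∧
          (∀ i j, i ≠ j → Disjoint (V i) (V j)) ∧
          ∀ y : PrimeSpectrum (R' ⊗[R] A), f ∉ (PrimeSpectrum.comap (algebraMap R' (R' ⊗[R] A)) y).asIdeal →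
            ∃ i, y ∈ V i := by
  obtain ⟨R', _, _, _, P, hP, hPp, n, e, he, P', hP', hP'P, -, heP, H⟩ :=
    Algebra.exists_etale_completeOrthogonalIdempotents_forall_liesOver_eq (R := R) (S := A) p.asIdeal
  refine ⟨R', inferInstance, inferInstance, inferInstance, ⟨P, hP⟩, n, fun i => ⟨P' i, hP' i⟩, ?_, fun U hU => ?_⟩
  · ext1
    exact hPp.over.symm
  let V : Fin n → Opens (PrimeSpectrum (R' ⊗[R] A)) := fun i => U i ⊓ PrimeSpectrum.basicOpen (e i.castSucc)
  let Z : Set (PrimeSpectrum (R' ⊗[R] A)) := {y | ∀ i, y ∉ V i}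
  have hZ : IsClosed Z := by
    have : Z = ⋂ i, ((V i : Set (PrimeSpectrum (R' ⊗[R] A))))ᶜ := by
      ext y
      simp [Z]
    rw [this]
    exact isClosed_iInter fun i => (V i).isOpen.isClosed_compl
  have hcl : IsClosed (PrimeSpectrum.comap (algebraMap R' (R' ⊗[R] A)) '' Z) :=
    PrimeSpectrum.isClosedMap_comap_of_isIntegral _ (algebraMap_isIntegral_iff.2 inferInstance) _ hZ
  have hPZ : (⟨P, hP⟩ : PrimeSpectrum R') ∉ PrimeSpectrum.comap (algebraMap R' (R' ⊗[R] A)) '' Z := by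
    rintro ⟨y, hy, hyP⟩
    have hl : y.asIdeal.LiesOver P := ⟨(congrArg PrimeSpectrum.asIdeal hyP).symm⟩
    obtain ⟨h1, h2⟩ := H y.asIdeal y.2 hl
    obtain ⟨j, hj⟩ : ∃ j, e j ∉ y.asIdeal := by
      by_contra hc
      push_neg at hc
      refine y.2.ne_top ((Ideal.eq_top_iff_one _).2 ?_)
      rw [← he.complete]
      exact Ideal.sum_mem _ fun j _ => hc j
    rcases Fin.eq_castSucc_or_eq_last j with ⟨i, rfl⟩ | rfl
    · have h3 := h2 i hj
      refine hy i ⟨?_, hj⟩
      have : y = ⟨P' i, hP' i⟩ := PrimeSpectrum.ext h3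
      rw [this]
      exact hU i
    · exact hj h1
  obtain ⟨W, hW, hPW, hWZ⟩ := PrimeSpectrum.isTopologicalBasis_basic_opens.exists_subset_of_mem_open
    (show (⟨P, hP⟩ : PrimeSpectrum R') ∈ (PrimeSpectrum.comap (algebraMap R' (R' ⊗[R] A)) '' Z)ᶜ from hPZ) hcl.isOpen_compl
  obtain ⟨f, rfl⟩ := hW
  refine ⟨f, V, hPW, fun i => inf_le_left, fun i j hij => ?_, fun y hy => ?_⟩
  · rw [disjoint_iff_inf_le]
    rintro y ⟨⟨-, hi⟩, ⟨-, hj⟩⟩
    have h1 : e i.castSucc * e j.castSucc = 0 := he.ortho (fun h => hij (Fin.castSucc_injective _ h))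
    rcases y.2.mem_or_mem (show e i.castSucc * e j.castSucc ∈ y.asIdeal by rw [h1]; exact zero_mem _) with h | h
    · exact hi h
    · exact hj h
  · by_contra hc
    push_neg at hc
    exact hWZ (show _ ∈ _ from hy) ⟨y, hc, rfl⟩

end K778.EtDisj
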