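import Groth.Agent.GmDual.K778.UnitSec
import Groth.Agent.GmDual.K778.EtDisj
import Groth.Agent.GmDual.K778.DisjSh
import Groth.Agent.GaDual.K771.ZarH90
import Groth.Agent.Etdl.H494.Opn

/-! Sections of a quotient by `𝔾_m` over a finite scheme lift étale-locally on the base. -/

set_option autoImplicit false
universe u
open CategoryTheory MonoidalCategory CartesianMonoidalCategory MonObj GrpObj AlgebraicGeometry
open TensorProduct Opposite TopologicalSpace

noncomputable section

namespace K778.EtLift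

open Groth.Agent.Books.AffBridge Groth.Agent.Etdl.H432.Sec K778.CharDict K778.UnitSec Groth.Agent.Etdl.H494

variable {R : Type u} [CommRing R] {A : Type u} [CommRing A] [Algebra R A] {S : ShortComplex (EtFppf.AbF (Bs R))}

/-- The map of spectra. -/
theorem exists_etale_lift [Module.Finite R A] (hS : S.ShortExact) (e₁ : S.X₁ ≅ GM (Bs R))
    (u : Γs S.X₃ (SpecOver R A)) (p : PrimeSpectrum R) :
    ∃ (R' : Type u) (_ : CommRing R') (_ : Algebra R R') (_ : Algebra.Etale R R') (P : PrimeSpectrum R'),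
      PrimeSpectrum.comap (algebraMap R R') P = p ∧ ∃ a : Γs S.X₂ (SpecOver R (R' ⊗[R] A)),
        m S.g _ a = r S.X₃ (specMap R Algebra.TensorProduct.includeRight) u := by
  obtain ⟨R', iR', jR', hR', P, n, q, hP, H⟩ := K778.EtDisj.exists_refine R A p
  let M : Over (Bs R) := SpecOver R (R' ⊗[R] A)
  let u' : Γs S.X₃ M := r S.X₃ (specMap R Algebra.TensorProduct.includeRight) u
  have h1 : ∀ i, ∃ U : M.left.Opens, (q i : PrimeSpectrum (R' ⊗[R] A)) ∈ U ∧ ∃ a : Γs S.X₂ (opn M U), m S.g _ a = r _ (opnι M U) u' :=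
    fun i => K771.ZarH90.exists_zar_lift hS e₁ u' (q i)
  choose U hqU a ha using h1
  obtain ⟨f, V, hf, hVU, hd, hV⟩ := H U hqU
  let R₁ := Localization.Away f
  have : Algebra.Etale R' R₁ := Algebra.Etale.of_isLocalizationAway f
  have : Algebra.Etale R R₁ := Algebra.Etale.comp R R' R₁
  obtain ⟨P₁, hP₁⟩ : ∃ P₁ : PrimeSpectrum R₁, PrimeSpectrum.comap (algebraMap R' R₁) P₁ = P := by
    have h2 : P ∈ Set.range (PrimeSpectrum.comap (algebraMap R' R₁)) := by
      rw [PrimeSpectrum.localization_away_comap_range R₁ f]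
      exact hf
    exact h2
  let w : R' ⊗[R] A →ₐ[R] R₁ ⊗[R] A := Algebra.TensorProduct.map (IsScalarTower.toAlgHom R R' R₁) (AlgHom.id R A)
  let Y : Over (Bs R) := SpecOver R (R₁ ⊗[R] A)
  let k : Y ⟶ M := specMap R w
  have hk : ∀ y : Y.left, ∃ i, k.left y ∈ (V i : M.left.Opens) := by
    intro y
    refine hV _ fun hy => ?_
    have h3 : w (algebraMap R' (R' ⊗[R] A) f) ∈ (show PrimeSpectrum (R₁ ⊗[R] A) from y).asIdeal := hy
    have h4 : w (algebraMap R' (R' ⊗[R] A) f) = algebraMap R₁ (R₁ ⊗[R] A) (algebraMap R' R₁ f) := by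
      rw [Algebra.TensorProduct.algebraMap_apply, Algebra.TensorProduct.algebraMap_apply,
        Algebra.TensorProduct.map_tmul, map_one]
      rfl
    have h5 : IsUnit (algebraMap R₁ (R₁ ⊗[R] A) (algebraMap R' R₁ f)) :=
      (IsLocalization.Away.algebraMap_isUnit f).map _
    rw [h4] at h3
    exact (show PrimeSpectrum (R₁ ⊗[R] A) from y).2.ne_top (Ideal.eq_top_of_isUnit_mem _ h3 h5)
  let V' : Fin n → Y.left.Opens := fun i => k.left ⁻¹ᵁ (V i : M.left.Opens)
  have hVV : ∀ i, V' i ≤ k.left ⁻¹ᵁ (U i) := fun i y hy => hVU i hy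
  have hrange : ∀ i, Set.range (opnι Y (V' i)).left = (V' i : Set Y.left) := fun i => Scheme.Opens.range_ι _
  have hoi : ∀ i, IsOpenImmersion (opnι Y (V' i)).left := fun i => inferInstanceAs (IsOpenImmersion (V' i).ι)
  have hc : ∀ y : Y.left, ∃ i, y ∈ Set.range (opnι Y (V' i)).left := by
    intro y
    obtain ⟨i, hi⟩ := hk y
    exact ⟨i, by rw [hrange]; exact hi⟩
  obtain ⟨t, ht, -⟩ := K778.DisjSh.existsUnique_of_disjoint S.X₂ (fun i => opn Y (V' i)) (fun i => opnι Y (V' i)) hc
    (fun i j hij => by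
      rw [hrange, hrange, Set.disjoint_left]
      intro y h6 h7
      have h8 := (hd i j hij).le_bot (show k.left y ∈ (V i ⊓ V j : Opens _) from ⟨h6, h7⟩)
      exact h8)
    (fun i => r S.X₂ (opnMap k (U i) (V' i) (hVV i)) (a i))
  refine ⟨R₁, inferInstance, inferInstance, inferInstance, P₁, ?_, t, ?_⟩
  · rw [← hP, ← hP₁, ← PrimeSpectrum.comap_comp_apply, ← IsScalarTower.algebraMap_eq]
  · refine K778.DisjSh.ext_of_cover S.X₃ (fun i => opn Y (V' i)) (fun i => opnι Y (V' i)) hc _ _ fun i => ?_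
    change r S.X₃ (opnι Y (V' i)) (m S.g Y t) = r S.X₃ (opnι Y (V' i)) _
    have h9 : r S.X₂ (opnι Y (V' i)) t = _ := ht i
    rw [← m_r, h9, m_r, ha, r_r, opnMap_opnι]
    simp only [u']
    rw [r_r, r_r, Category.assoc]
    congr 2
    rw [← specMap_comp]
    have h10 : w.comp Algebra.TensorProduct.includeRight = Algebra.TensorProduct.includeRight := by
      ext x
      simp [w]
    rw [h10]

end K778.EtLift
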