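import Groth.Agent.GmDual.K778.TwCoalg

/-! The convolution algebra of the twisted coalgebra trivialises the cocycle. -/

set_option autoImplicit false
universe u

open TensorProduct Coalgebra WithConv

namespace K778.TwDual

open K778.TwCoalg

variable {R : Type u} [CommRing R] {A : Type u} [CommRing A]

section Val

variable [Algebra R A]

/-- The value of `v` at a pair of points. -/
noncomputable def val {D B : Type u} [CommRing D] [Algebra R D] [CommRing B] [Algebra R B] (f : A →ₐ[R] B)
    (t : D →ₐ[R] B) : A ⊗[R] D →ₐ[R] B := Algebra.TensorProduct.lift f t (fun _ _ => .all _ _)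

theorem val_tmul {D B : Type u} [CommRing D] [Algebra R D] [CommRing B] [Algebra R B] (f : A →ₐ[R] B)
    (t : D →ₐ[R] B) (x : A) (y : D) : val f t (x ⊗ₜ[R] y) = f x * t y := Algebra.TensorProduct.lift_tmul _ _ _ _ _

theorem val_inl {D B : Type u} [CommRing D] [Algebra R D] [CommRing B] [Algebra R B] (f g : A →ₐ[R] B)
    (t : D →ₐ[R] B) (z : A ⊗[R] D) : val (val₂ f g) t (inl₂ z) = val f t z := by
  induction z with
  | zero => simp
  | add x y hx hy => rw [map_add, map_add, hx, hy, map_add]
  | tmul a b =>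
    rw [inl₂, Algebra.TensorProduct.map_tmul, val_tmul, val_tmul, Algebra.TensorProduct.includeLeft_apply,
      val₂, Algebra.TensorProduct.lift_tmul, map_one, mul_one]
    rfl

theorem val_inr {D B : Type u} [CommRing D] [Algebra R D] [CommRing B] [Algebra R B] (f g : A →ₐ[R] B)
    (t : D →ₐ[R] B) (z : A ⊗[R] D) : val (val₂ f g) t (inr₂ z) = val g t z := by
  induction z with
  | zero => simp
  | add x y hx hy => rw [map_add, map_add, hx, hy, map_add]
  | tmul a b =>
    rw [inr₂, Algebra.TensorProduct.map_tmul, val_tmul, val_tmul, Algebra.TensorProduct.includeRight_apply,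
      val₂, Algebra.TensorProduct.lift_tmul, map_one, one_mul]
    rfl

end Val

theorem val_twComul [Bialgebra R A] (c : A ⊗[R] A) {D B : Type u} [CommRing D] [Algebra R D] [CommRing B] [Algebra R B] (f g : WithConv (A →ₐ[R] B))
    (t : D →ₐ[R] B) (z : A ⊗[R] D) : val (val₂ f.ofConv g.ofConv) t ((twComul c).rTensor D z) =
      val₂ f.ofConv g.ofConv c * val (f * g).ofConv t z := by
  induction z with
  | zero => simp
  | add x y hx hy => rw [map_add, map_add, hx, hy, map_add, mul_add]
  | tmul a b =>
    rw [LinearMap.rTensor_tmul, val_tmul, val_tmul, twComul_apply, map_mul, conv_eq, mul_assoc]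

/-- `v` trivialises `c`. -/
structure IsTriv [Bialgebra R A] (c : A ⊗[R] A) {D : Type u} [CommRing D] [Algebra R D] (v : A ⊗[R] D) : Prop where
  one : ∀ (B : Type u) [CommRing B] [Algebra R B] (t : D →ₐ[R] B), val (1 : WithConv (A →ₐ[R] B)).ofConv t v = 1
  mul : ∀ (B : Type u) [CommRing B] [Algebra R B] (f g : WithConv (A →ₐ[R] B)) (t : D →ₐ[R] B),
    val₂ f.ofConv g.ofConv c * val (f * g).ofConv t v = val f.ofConv t v * val g.ofConv t v

theorem inv_mul [HopfAlgebra R A] {B : Type u} [CommRing B] [Algebra R B] (f : A →ₐ[R] B) :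
    (toConv (f.comp (HopfAlgebra.antipodeAlgHom R A)) * toConv f : WithConv (A →ₐ[R] B)) = 1 := by
  have h1 := AlgHom.comp_convMul_distrib f (toConv (HopfAlgebra.antipodeAlgHom R A)) (toConv (AlgHom.id R A))
  rw [AlgHom.antipode_id_cancel] at h1
  apply WithConv.ofConv_injective
  refine h1.symm.trans ?_
  ext x
  change f (algebraMap R A (counit (R := R) x)) = algebraMap R B (counit (R := R) x)
  exact f.commutes _

theorem IsTriv.isUnit [HopfAlgebra R A] [IsCocomm R A] {c : A ⊗[R] A} {D : Type u} [CommRing D] [Algebra R D]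
    {v : A ⊗[R] D} (h : IsTriv c v) (hu : IsUnit c) : IsUnit v := by
  let i : WithConv (A →ₐ[R] A ⊗[R] D) := toConv Algebra.TensorProduct.includeLeft
  let t : D →ₐ[R] A ⊗[R] D := Algebra.TensorProduct.includeRight
  have h1 := h.mul _ (toConv (i.ofConv.comp (HopfAlgebra.antipodeAlgHom R A))) i t
  rw [show (toConv (i.ofConv.comp (HopfAlgebra.antipodeAlgHom R A)) * i : WithConv (A →ₐ[R] A ⊗[R] D)) = 1 from
    inv_mul _, h.one, mul_one] at h1
  have h2 : ∀ z : A ⊗[R] D, val i.ofConv t z = z := by
    intro z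
    induction z with
    | zero => simp
    | add x y hx hy => rw [map_add, hx, hy]
    | tmul a b =>
      rw [val_tmul]
      change (a ⊗ₜ[R] (1 : D)) * ((1 : A) ⊗ₜ[R] b) = _
      simp
  rw [h2] at h1
  exact isUnit_of_mul_isUnit_right (h1 ▸ hu.map (val₂ _ i.ofConv))

section Alg

variable [Bialgebra R A] [IsCocomm R A] (c : A ⊗[R] A) [hc : Fact (IsCoc c)]

/-- The algebra of functions on the scheme of trivialisations of `c`. -/
abbrev D : Type u := WithConv (Tw c →ₗ[R] R)

/-- The underlying functional. -/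
noncomputable def un (f : D c) : A →ₗ[R] R := f.ofConv

/-- The functional as a function. -/
noncomputable def mk (f : A →ₗ[R] R) : D c := toConv (show Tw c →ₗ[R] R from f)

theorem mk_mul (f g : A →ₗ[R] R) : mk c f * mk c g = mk c (prodFun f g ∘ₗ twComul c) := rfl

theorem mk_counit : mk c (counit (R := R) (A := A)) = 1 := rfl

theorem mk_add (f g : A →ₗ[R] R) : mk c (f + g) = mk c f + mk c g := rfl

theorem mk_smul (r : R) (f : A →ₗ[R] R) : mk c (r • f) = r • mk c f := rfl

theorem algebraMap_injective : Function.Injective (algebraMap R (D c)) := by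
  intro r s hrs
  have h1 := DFunLike.congr_fun (congrArg (un c) hrs) (1 : A)
  change r • (algebraMap R R) (counit (R := R) (1 : A)) = s • (algebraMap R R) (counit (R := R) (1 : A)) at h1
  simpa using h1

variable {n : ℕ} {a : Fin n → A} {φ : Fin n → A →ₗ[R] R} (hb : ∀ x, ∑ i, φ i x • a i = x)

/-- The universal element. -/
noncomputable def uni (a : Fin n → A) (φ : Fin n → A →ₗ[R] R) : A ⊗[R] D c := ∑ i, a i ⊗ₜ[R] mk c (φ i)

include hb in
theorem ev_uni (f : A →ₗ[R] R) : ev (D c) f (uni c a φ) = mk c f := by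
  rw [uni, map_sum]
  simp only [ev_tmul]
  have h1 : f = ∑ i, f (a i) • φ i := by
    ext x
    conv_lhs => rw [← hb x, map_sum]
    simp only [LinearMap.sum_apply, LinearMap.smul_apply, map_smul, smul_eq_mul, mul_comm]
  have h2 : ∀ s : Finset (Fin n), mk c (∑ i ∈ s, f (a i) • φ i) = ∑ i ∈ s, f (a i) • mk c (φ i) := by
    intro s
    classical
    induction s using Finset.induction_on with
    | empty => rfl
    | insert i s hi ih => rw [Finset.sum_insert hi, Finset.sum_insert hi, mk_add, ih, mk_smul]
  conv_rhs => rw [h1]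
  rw [h2]

include hb in
theorem uni_mul : (twComul c).rTensor (D c) (uni c a φ) = inl₂ (uni c a φ) * inr₂ (uni c a φ) := by
  apply eq_of_ev hb
  intro i j
  rw [ev_rTensor, ev_uni c hb, ev_mul, ev_uni c hb, ev_uni c hb, mk_mul]

include hb in
theorem val_uni {B : Type u} [CommRing B] [Algebra R B] (f g : WithConv (A →ₐ[R] B)) (t : D c →ₐ[R] B) :
    val₂ f.ofConv g.ofConv c * val (f * g).ofConv t (uni c a φ) =
      val f.ofConv t (uni c a φ) * val g.ofConv t (uni c a φ) := by
  rw [← val_twComul, uni_mul c hb, map_mul, val_inl, val_inr]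

include hb in
theorem val_one {B : Type u} [CommRing B] [Algebra R B] (t : D c →ₐ[R] B) :
    val (1 : WithConv (A →ₐ[R] B)).ofConv t (uni c a φ) = 1 := by
  have h1 : ∀ z : A ⊗[R] D c, val (1 : WithConv (A →ₐ[R] B)).ofConv t z = t (ev (D c) (counit (R := R) (A := A)) z) := by
    intro z
    induction z with
    | zero => simp
    | add x y hx hy => rw [map_add, map_add, hx, hy, map_add]
    | tmul a b =>
      rw [val_tmul, ev_tmul, map_smul, Algebra.smul_def]
      rfl
  rw [h1, ev_uni c hb, mk_counit, map_one]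

end Alg

theorem exists_triv [HopfAlgebra R A] [IsCocomm R A] [Module.Finite R A] [Module.Projective R A] (c : A ⊗[R] A)
    (hc : IsCoc c) : ∃ (D : Type u) (_ : CommRing D) (_ : Algebra R D), Module.Finite R D ∧
      Module.Projective R D ∧ Function.Injective (algebraMap R D) ∧ ∃ v : A ⊗[R] D, IsTriv c v := by
  obtain ⟨n, a, φ, hb⟩ := exists_dualBasis R A
  have : Fact (IsCoc c) := ⟨hc⟩
  have e : (A →ₗ[R] R) ≃ₗ[R] D c := (WithConv.linearEquiv R (Tw c →ₗ[R] R)).symm
  exact ⟨D c, inferInstance, inferInstance, Module.Finite.equiv e, Module.Projective.of_equiv e,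
    algebraMap_injective c, uni c a φ, fun B _ _ t => val_one c hb t, fun B _ _ f g t => val_uni c hb f g t⟩

end K778.TwDual
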