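import Groth.Agent.GmDual.K778.UnitSec
import Groth.Agent.GmDual.K778.TwDual

/-! Homomorphisms from a finite locally free group to a quotient by `𝔾_m` lift over a finite locally free extension,
if the universal point lifts. -/

set_option autoImplicit false
universe u
open CategoryTheory MonoidalCategory CartesianMonoidalCategory MonObj GrpObj AlgebraicGeometry
open TensorProduct Opposite WithConv

noncomputable section

namespace K778.FinLift

open Groth.Agent.Books.AffBridge Groth.Agent.Etdl.H432.Sec K778.CharDict K778.UnitSec K778.TwCoalg K778.TwDual K771.HomEv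

variable {R : Type u} [CommRing R] {A : Type u} [CommRing A] [HopfAlgebra R A]
  [IsCommMonObj (SpecOver R A)] {S : ShortComplex (EtFppf.AbF (Bs R))}

section loc

variable (a : Γs S.X₂ (SpecOver R A))

/-- The normalised lift at a point. -/
def gg {W : Over (Bs R)} (x : W ⟶ SpecOver R A) : Γs S.X₂ W := r S.X₂ x a - r S.X₂ (1 : W ⟶ SpecOver R A) a

theorem r_gg {W W' : Over (Bs R)} (k : W' ⟶ W) (x : W ⟶ SpecOver R A) :
    r S.X₂ k (gg a x) = gg a (k ≫ x) := by
  rw [gg, gg, map_sub, r_r, r_r, MonObj.comp_one]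

theorem gg_one (W : Over (Bs R)) : gg a (1 : W ⟶ SpecOver R A) = 0 := sub_self _

/-- The value at an algebra map. -/
def ga {B : Type u} [CommRing B] [Algebra R B] (f : WithConv (A →ₐ[R] B)) : Γs S.X₂ (SpecOver R B) :=
  gg a (specMap R f.ofConv)

theorem r_ga {B C : Type u} [CommRing B] [Algebra R B] [CommRing C] [Algebra R C] (h : B →ₐ[R] C)
    (f : WithConv (A →ₐ[R] B)) : r S.X₂ (specMap R h) (ga a f) = ga a (toConv (h.comp f.ofConv)) := by
  rw [ga, ga, r_gg, ← specMap_comp, ofConv_toConv]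

/-- The cocycle. -/
def co {B : Type u} [CommRing B] [Algebra R B] (f g : WithConv (A →ₐ[R] B)) : Γs S.X₂ (SpecOver R B) :=
  ga a (f * g) - ga a f - ga a g

theorem r_co {B C : Type u} [CommRing B] [Algebra R B] [CommRing C] [Algebra R C] (h : B →ₐ[R] C)
    (f g : WithConv (A →ₐ[R] B)) : r S.X₂ (specMap R h) (co a f g) =
      co a (toConv (h.comp f.ofConv)) (toConv (h.comp g.ofConv)) := by
  rw [co, co, map_sub, map_sub, r_ga, r_ga, r_ga]
  congr 4
  exact AlgHom.comp_convMul_distrib h f g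

variable (φ : PT (SpecOver R A) ⟶ S.X₃) (ha : m S.g _ a = m φ _ (ps (𝟙 _)))

include ha in
theorem m_gg {W : Over (Bs R)} (x : W ⟶ SpecOver R A) : m S.g W (gg a x) = m φ W (ps x) := by
  have h1 : ∀ y : W ⟶ SpecOver R A, m S.g W (r S.X₂ y a) = m φ W (ps y) := fun y => by
    rw [m_r, ha, ← m_r, r_ps, Category.comp_id]
  rw [gg, map_sub, h1, h1, ps_one, map_zero, sub_zero]

include ha in
theorem m_co {B : Type u} [CommRing B] [Algebra R B] (f g : WithConv (A →ₐ[R] B)) : m S.g _ (co a f g) = 0 := by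
  rw [co, ga, ga, ga, map_sub, map_sub, m_gg a φ ha, m_gg a φ ha, m_gg a φ ha, specMap_mul, ps_mul, map_add]
  abel

/-- Units in `S.X₂`. -/
def ua (e : GM (Bs R) ⟶ S.X₁) {B : Type u} [CommRing B] [Algebra R B] (b : Bˣ) : Γs S.X₂ (SpecOver R B) :=
  m (e ≫ S.f) _ (us b)

omit [HopfAlgebra R A] [IsCommMonObj (SpecOver R A)] [CommRing A]

theorem ua_mul (e : GM (Bs R) ⟶ S.X₁) {B : Type u} [CommRing B] [Algebra R B] (b b' : Bˣ) :
    ua e (b * b') = ua e b + ua e b' := by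
  rw [ua, us_mul, map_add]
  rfl

theorem r_ua (e : GM (Bs R) ⟶ S.X₁) {B C : Type u} [CommRing B] [Algebra R B] [CommRing C] [Algebra R C]
    (h : B →ₐ[R] C) (b : Bˣ) : r S.X₂ (specMap R h) (ua e b) = ua e (Units.map h.toMonoidHom b) := by
  rw [ua, ua, ← m_r, r_us]

theorem m_ua (e : GM (Bs R) ⟶ S.X₁) {B : Type u} [CommRing B] [Algebra R B] (b : Bˣ) : m S.g _ (ua e b) = 0 := by
  rw [ua, ← m_comp, Category.assoc, S.zero, Limits.comp_zero, m_zero]

theorem ua_injective (e : GM (Bs R) ⟶ S.X₁) [IsIso e] [Mono S.f] {B : Type u} [CommRing B] [Algebra R B] :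
    Function.Injective (ua (S := S) e (B := B)) := fun _ _ h =>
  us_injective (K731.Basic.injective_of_mono (K := Scheme.fppfPrecoverage) (e ≫ S.f) _ h)

theorem exists_ua (e : GM (Bs R) ⟶ S.X₁) [IsIso e] (hS : S.ShortExact) {B : Type u} [CommRing B] [Algebra R B]
    (t : Γs S.X₂ (SpecOver R B)) (ht : m S.g _ t = 0) : ∃ b : Bˣ, ua e b = t := by
  have := hS.mono_f
  obtain ⟨s, hs⟩ : ∃ s, m S.f _ s = t :=
    K731.Basic.exists_of_exact_of_mono (K := Scheme.fppfPrecoverage) S hS.exact _ ht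
  obtain ⟨b, hb⟩ := us_surjective (m (inv e) _ s)
  refine ⟨b, ?_⟩
  rw [ua, hb, ← m_comp, IsIso.inv_hom_id_assoc, hs]

end loc

section coc

variable (a : Γs S.X₂ (SpecOver R A)) (φ : PT (SpecOver R A) ⟶ S.X₃) (ha : m S.g _ a = m φ _ (ps (𝟙 _)))
  (hS : S.ShortExact) (e : GM (Bs R) ⟶ S.X₁) [IsIso e]

include ha hS in
theorem exists_cocycle : ∃ c : (A ⊗[R] A)ˣ, ∀ (B : Type u) [CommRing B] [Algebra R B] (f g : WithConv (A →ₐ[R] B)),
    co a f g = ua e (Units.map (val₂ f.ofConv g.ofConv).toMonoidHom c) := by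
  obtain ⟨c, hc⟩ := exists_ua e hS _ (m_co a φ ha (toConv (Algebra.TensorProduct.includeLeft : A →ₐ[R] A ⊗[R] A))
    (toConv Algebra.TensorProduct.includeRight))
  refine ⟨c, fun B _ _ f g => ?_⟩
  rw [← r_ua, hc, r_co]
  congr 2
  · ext x
    change f.ofConv x = val₂ f.ofConv g.ofConv (x ⊗ₜ[R] (1 : A))
    rw [val₂_tmul, map_one, _root_.mul_one]
  · ext x
    change g.ofConv x = val₂ f.ofConv g.ofConv ((1 : A) ⊗ₜ[R] x)
    rw [val₂_tmul, map_one, _root_.one_mul]

theorem isCoc_of [Mono S.f] [Coalgebra.IsCocomm R A] {c : (A ⊗[R] A)ˣ}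
    (hc : ∀ (B : Type u) [CommRing B] [Algebra R B] (f g : WithConv (A →ₐ[R] B)),
    co a f g = ua e (Units.map (val₂ f.ofConv g.ofConv).toMonoidHom c)) : IsCoc (c : A ⊗[R] A) where
  assoc B _ _ f g h := by
    have h1 : ua (S := S) e (Units.map (val₂ (f * g).ofConv h.ofConv).toMonoidHom c *
        Units.map (val₂ f.ofConv g.ofConv).toMonoidHom c) = ua e (Units.map (val₂ f.ofConv (g * h).ofConv).toMonoidHom c *
        Units.map (val₂ g.ofConv h.ofConv).toMonoidHom c) := by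
      rw [ua_mul, ua_mul, ← hc, ← hc, ← hc, ← hc, co, co, co, co, _root_.mul_assoc]
      abel
    have h2 := congrArg Units.val (ua_injective e h1)
    exact h2
  symm B _ _ f g := by
    have h1 : ua (S := S) e (Units.map (val₂ f g).toMonoidHom c) = ua e (Units.map (val₂ g f).toMonoidHom c) := by
      have h2 := hc B (toConv f) (toConv g)
      have h3 := hc B (toConv g) (toConv f)
      refine h2.symm.trans (Eq.trans ?_ h3)
      rw [co, co, _root_.mul_comm (toConv f)]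
      abel
    exact congrArg Units.val (ua_injective e h1)
  norm B _ _ f := by
    have h1 : ua (S := S) e (Units.map (val₂ (1 : WithConv (A →ₐ[R] B)).ofConv f).toMonoidHom c) = ua e 1 := by
      have h2 := hc B 1 (toConv f)
      refine h2.symm.trans ?_
      have h3 : ua (S := S) (R := R) (B := B) e 1 = 0 := by
        have h4 := ua_mul (S := S) (R := R) (B := B) e 1 1
        rw [_root_.mul_one] at h4
        exact left_eq_add.1 h4
      rw [h3, co, _root_.one_mul]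
      have h5 : ga a (1 : WithConv (A →ₐ[R] B)) = 0 := by
        rw [ga, specMap_one, gg_one]
      rw [h5]
      abel
    exact congrArg Units.val (ua_injective e h1)

end coc

/-- The corrected lift. -/
def EE (a : Γs S.X₂ (SpecOver R A)) (e : GM (Bs R) ⟶ S.X₁) {D : Type u} [CommRing D] [Algebra R D] (v : (A ⊗[R] D)ˣ)
    {W : Over (Bs R)} (h : W ⟶ SpecOver R D) (x : W ⟶ SpecOver R A) : Γs S.X₂ W :=
  gg a x + r S.X₂ (CartesianMonoidalCategory.lift x h ≫ θ A D) (ua e v)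

theorem r_EE (a : Γs S.X₂ (SpecOver R A)) (e : GM (Bs R) ⟶ S.X₁) {D : Type u} [CommRing D] [Algebra R D]
    (v : (A ⊗[R] D)ˣ) {W W' : Over (Bs R)} (h : W ⟶ SpecOver R D) (k : W' ⟶ W) (x : W ⟶ SpecOver R A) :
    r S.X₂ k (EE a e v h x) = EE a e v (k ≫ h) (k ≫ x) := by
  rw [EE, EE, map_add, r_gg, r_r, ← Category.assoc, comp_lift]

theorem EE_spec (a : Γs S.X₂ (SpecOver R A)) (e : GM (Bs R) ⟶ S.X₁) {D : Type u} [CommRing D] [Algebra R D]
    (v : (A ⊗[R] D)ˣ) {B : Type u} [CommRing B] [Algebra R B] (t : D →ₐ[R] B) (f : WithConv (A →ₐ[R] B)) :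
    EE a e v (specMap R t) (specMap R f.ofConv) = ga a f + ua e (Units.map (val f.ofConv t).toMonoidHom v) := by
  rw [EE, lift_θ, r_ua]
  rfl

theorem EE_add_spec (a : Γs S.X₂ (SpecOver R A)) (e : GM (Bs R) ⟶ S.X₁) {D : Type u} [CommRing D] [Algebra R D]
    {c : (A ⊗[R] A)ˣ} {v : (A ⊗[R] D)ˣ} (hv : IsTriv (c : A ⊗[R] A) (v : A ⊗[R] D))
    (hc : ∀ (B : Type u) [CommRing B] [Algebra R B] (f g : WithConv (A →ₐ[R] B)),
    co a f g = ua e (Units.map (val₂ f.ofConv g.ofConv).toMonoidHom c))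
    {B : Type u} [CommRing B] [Algebra R B] (t : D →ₐ[R] B) (f g : WithConv (A →ₐ[R] B)) :
    EE a e v (specMap R t) (specMap R (f * g).ofConv) = EE a e v (specMap R t) (specMap R f.ofConv) +
      EE a e v (specMap R t) (specMap R g.ofConv) := by
  rw [EE_spec, EE_spec, EE_spec]
  have h6 : Units.map (val₂ f.ofConv g.ofConv).toMonoidHom c * Units.map (val (f * g).ofConv t).toMonoidHom v =
      Units.map (val f.ofConv t).toMonoidHom v * Units.map (val g.ofConv t).toMonoidHom v :=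
    Units.ext (hv.mul B f g t)
  have h8 := congrArg (ua (S := S) e) h6
  rw [ua_mul, ua_mul, ← hc, co, ← sub_eq_zero] at h8
  rw [← sub_eq_zero, ← h8]
  abel

theorem EE_add (a : Γs S.X₂ (SpecOver R A)) (e : GM (Bs R) ⟶ S.X₁) {D : Type u} [CommRing D] [Algebra R D]
    {c : (A ⊗[R] A)ˣ} {v : (A ⊗[R] D)ˣ} (hv : IsTriv (c : A ⊗[R] A) (v : A ⊗[R] D))
    (hc : ∀ (B : Type u) [CommRing B] [Algebra R B] (f g : WithConv (A →ₐ[R] B)),
    co a f g = ua e (Units.map (val₂ f.ofConv g.ofConv).toMonoidHom c))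
    (W : Over (Bs R)) (h : W ⟶ SpecOver R D) (x y : W ⟶ SpecOver R A) :
    EE a e v h (x * y) = EE a e v h x + EE a e v h y := by
  apply eq_of_spec
  intro B _ _ k
  rw [map_add, r_EE, r_EE, r_EE, MonObj.comp_mul]
  obtain ⟨f, hf⟩ := (specEquiv R).surjective (k ≫ x)
  obtain ⟨g, hg⟩ := (specEquiv R).surjective (k ≫ y)
  obtain ⟨t, ht⟩ := (specEquiv R).surjective (k ≫ h)
  change specMap R (toConv f).ofConv = _ at hf
  change specMap R (toConv g).ofConv = _ at hg
  change specMap R t = _ at ht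
  rw [← hf, ← hg, ← ht, ← specMap_mul, EE_add_spec a e hv hc]

/-- Sections of the internal Hom out of points. -/
def mkPt {G : Over (Bs R)} [GrpObj G] [IsCommMonObj G] {H : EtFppf.AbF (Bs R)} {T : Over (Bs R)}
    (E : ∀ (W : Over (Bs R)) (_ : W ⟶ T) (_ : W ⟶ G), Γs H W)
    (hadd : ∀ (W : Over (Bs R)) (h : W ⟶ T) (x y : W ⟶ G), E W h (x * y) = E W h x + E W h y)
    (hr : ∀ (W W' : Over (Bs R)) (h : W ⟶ T) (k : W' ⟶ W) (x : W ⟶ G), r H k (E W h x) = E W' (k ≫ h) (k ≫ x)) :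
    Γs (hom (PT G) H) T :=
  mk (fun W h => AddMonoidHom.mk' (fun x => E W h (sp x)) (fun x y => by rw [sp_add]; exact hadd W h (sp x) (sp y)))
    (fun W W' h k x => hr W W' h k (sp x))

theorem ev_mkPt {G : Over (Bs R)} [GrpObj G] [IsCommMonObj G] {H : EtFppf.AbF (Bs R)} {T : Over (Bs R)}
    (E : ∀ (W : Over (Bs R)) (_ : W ⟶ T) (_ : W ⟶ G), Γs H W)
    (hadd : ∀ (W : Over (Bs R)) (h : W ⟶ T) (x y : W ⟶ G), E W h (x * y) = E W h x + E W h y)
    (hr : ∀ (W W' : Over (Bs R)) (h : W ⟶ T) (k : W' ⟶ W) (x : W ⟶ G), r H k (E W h x) = E W' (k ≫ h) (k ≫ x))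
    (W : Over (Bs R)) (h : W ⟶ T) (x : Γs (PT G) W) : ev (mkPt E hadd hr) h x = E W h (sp x) := rfl

theorem m_EE (a : Γs S.X₂ (SpecOver R A)) (e : GM (Bs R) ⟶ S.X₁) {D : Type u} [CommRing D] [Algebra R D]
    (v : (A ⊗[R] D)ˣ) (φ : PT (SpecOver R A) ⟶ S.X₃) (ha : m S.g _ a = m φ _ (ps (𝟙 _)))
    {W : Over (Bs R)} (h : W ⟶ SpecOver R D) (x : W ⟶ SpecOver R A) : m S.g W (EE a e v h x) = m φ W (ps x) := by
  rw [EE, map_add, m_gg a φ ha, m_r, m_ua, map_zero, add_zero]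

/-- **The lift over a finite locally free extension.** -/
theorem exists_lift_of_universal [Coalgebra.IsCocomm R A] [Module.Finite R A] [Module.Projective R A]
    (hS : S.ShortExact) (e : GM (Bs R) ⟶ S.X₁) [IsIso e] (φ : PT (SpecOver R A) ⟶ S.X₃)
    (a : Γs S.X₂ (SpecOver R A)) (ha : m S.g _ a = m φ _ (ps (𝟙 _))) :
    ∃ (D : Type u) (_ : CommRing D) (_ : Algebra R D), Module.Finite R D ∧ Module.Projective R D ∧
      Function.Injective (algebraMap R D) ∧ ∃ ψ : Γs (hom (PT (SpecOver R A)) S.X₂) (SpecOver R D),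
        ∀ (W : Over (Bs R)) (h : W ⟶ SpecOver R D) (x : Γs (PT (SpecOver R A)) W),
          m S.g W (ev ψ h x) = m φ W x := by
  have := hS.mono_f
  obtain ⟨c, hc⟩ := exists_cocycle a φ ha hS e
  obtain ⟨D, iD, jD, h1, h2, h3, v, hv⟩ := exists_triv (c : A ⊗[R] A) (isCoc_of a e hc)
  obtain ⟨v', rfl⟩ := hv.isUnit c.isUnit
  refine ⟨D, iD, jD, h1, h2, h3, mkPt (fun W h x => EE a e v' h x) (EE_add a e hv hc)
    (fun _ _ h k x => r_EE a e v' h k x), fun W h x => ?_⟩
  rw [ev_mkPt, m_EE a e v' φ ha, ps_sp]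

end K778.FinLift
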