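import Groth.Agent.GmDual.K778.LocLift
import Groth.Agent.GmDual.K778.FinLift
import Groth.Agent.GmDual.K778.EtLift
import Mathlib.RingTheory.Finiteness.ModuleFinitePresentation
import Mathlib.RingTheory.Flat.EquationalCriterion

/-! `𝓔xt¹(N, 𝔾_m) = 0` for a finite locally free commutative group scheme `N` over any base. -/

set_option autoImplicit false
universe u
open CategoryTheory MonoidalCategory CartesianMonoidalCategory MonObj GrpObj Limits AlgebraicGeometry Opposite
open TensorProduct

noncomputable section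

namespace K778.FinExt

open Groth.Agent.Etdl.H432.Sec K771.HomEv K453.Slice K778.HomSlice K778.UnitSec K778.LocLift K778.CharDict
open Groth.Agent.Books.AffBridge K771.Pts K771.RedExt

section gm

variable {X : Scheme.{u}} (Y : Over X)

/-- `𝔾_m` restricts to `𝔾_m`. -/
def gmRs : rs Y (GM X) ⟶ GM Y.left :=
  mkH (fun W => AddMonoidHom.mk' (fun s => gms (isUnit_gm (ty (GM X) W s)).unit) (fun s t => by
    apply gm_injective
    rw [gm_add, gm_gms, gm_gms, gm_gms, IsUnit.unit_spec, IsUnit.unit_spec, IsUnit.unit_spec, map_add, gm_add]))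
    (fun W W' k s => by
      apply gm_injective
      change gm (r (GM Y.left) k (gms _)) = gm (gms _)
      rw [gm_r, gm_gms, gm_gms, IsUnit.unit_spec, IsUnit.unit_spec, ty_r, gm_r]
      rfl)

theorem gm_gmRs {W : Over Y.left} (s : Γs (rs Y (GM X)) W) : gm (m (gmRs Y) W s) = gm (ty (GM X) W s) := by
  rw [gmRs, m_mkH]
  exact gm_gms _

instance isIso_gmRs : IsIso (gmRs Y) := by
  refine K771.AffLocal.isIso_of_bijective _ fun W => ⟨fun s t h => ?_, fun t => ?_⟩
  · have h1 : gm (ty (GM X) W s) = gm (ty (GM X) W t) := by rw [← gm_gmRs, h, gm_gmRs]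
    have h2 := gm_injective h1
    have h3 := congrArg (tx (GM X) W) h2
    rwa [tx_ty, tx_ty] at h3
  · obtain ⟨s, hs⟩ := exists_gm (U := dn W) (isUnit_gm t)
    refine ⟨tx (GM X) W s, gm_injective ?_⟩
    rw [gm_gmRs, ty_tx, hs]

end gm

/-- the case where the universal point lifts -/
theorem llg_of_universal {R : Type u} [CommRing R] {A : Type u} [CommRing A] [HopfAlgebra R A]
    [IsCommMonObj (SpecOver R A)] [Coalgebra.IsCocomm R A] [Module.Finite R A] [Module.Projective R A]
    {S : ShortComplex (EtFppf.AbF (Bs R))} (hS : S.ShortExact) (e : GM (Bs R) ⟶ S.X₁) [IsIso e]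
    (φ : PT (SpecOver R A) ⟶ S.X₃) (a : Γs S.X₂ (SpecOver R A)) (ha : m S.g _ a = m φ _ (ps (𝟙 _)))
    (x : Bs R) : LLg S φ x := by
  obtain ⟨D, iD, jD, h1, h2, h3, ψ, hψ⟩ := K778.FinLift.exists_lift_of_universal hS e φ a ha
  have h4 : Flat (SpecOver R D).hom := by
    change Flat (Spec.map (CommRingCat.ofHom (algebraMap R D)))
    rw [HasRingHomProperty.Spec_iff (P := @Flat)]
    exact RingHom.flat_algebraMap_iff.2 inferInstance
  have h5 : LocallyOfFinitePresentation (SpecOver R D).hom := by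
    change LocallyOfFinitePresentation (Spec.map (CommRingCat.ofHom (algebraMap R D)))
    rw [HasRingHomProperty.Spec_iff (P := @LocallyOfFinitePresentation)]
    have : Module.FinitePresentation R D := Module.finitePresentation_of_projective R D
    exact RingHom.finitePresentation_algebraMap.2 (Algebra.FinitePresentation.of_finitePresentation R D)
  refine ⟨SpecOver R D, h4, h5, ?_, ψ, hψ⟩
  have : FaithfulSMul R D := (faithfulSMul_iff_algebraMap_injective R D).2 h3
  exact Algebra.IsIntegral.comap_surjective (R := R) (S := D) x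

theorem module_of_chart {R : Type u} [CommRing R] {N : Over (Bs R)} [IsFinite N.hom] [Flat N.hom]
    [LocallyOfFinitePresentation N.hom] {A : Type u} [CommRing A] [Algebra R A] (e : N ≅ SpecOver R A) :
    Module.Finite R A ∧ Module.Projective R A := by
  have hw : e.inv.left ≫ N.hom = Spec.map (CommRingCat.ofHom (algebraMap R A)) := Over.w e.inv
  have : IsIso e.inv.left := inferInstanceAs (IsIso ((Over.forget _).map e.inv))
  have h1 : IsFinite (Spec.map (CommRingCat.ofHom (algebraMap R A))) := by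
    rw [← hw]
    exact MorphismProperty.comp_mem _ _ _ inferInstance inferInstance
  have h2 : Flat (Spec.map (CommRingCat.ofHom (algebraMap R A))) := by
    rw [← hw]
    exact MorphismProperty.comp_mem _ _ _ inferInstance inferInstance
  have h3 : LocallyOfFinitePresentation (Spec.map (CommRingCat.ofHom (algebraMap R A))) := by
    rw [← hw]
    exact MorphismProperty.comp_mem _ _ _ inferInstance inferInstance
  rw [IsFinite.SpecMap_iff] at h1
  rw [HasRingHomProperty.Spec_iff (P := @Flat)] at h2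
  rw [HasRingHomProperty.Spec_iff (P := @LocallyOfFinitePresentation)] at h3
  have h4 : Module.Finite R A := RingHom.finite_algebraMap.1 h1
  have h5 : Module.Flat R A := RingHom.flat_algebraMap_iff.1 h2
  have h6 : Algebra.FinitePresentation R A := RingHom.finitePresentation_algebraMap.1 h3
  have h7 : Module.FinitePresentation R A := Module.FinitePresentation.of_finite_of_finitePresentation R A
  exact ⟨h4, Module.Flat.projective_of_finitePresentation⟩

/-- isomorphic groups have isomorphic sheaves of points -/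
def ptIso {X : Scheme.{u}} {G H : Over X} [GrpObj G] [IsCommMonObj G] [GrpObj H] [IsCommMonObj H] (e : G ≅ H)
    [IsMonHom e.hom] : PT G ≅ PT H where
  hom := CGrpSh.ptsMap Scheme.fppfPrecoverage e.hom
  inv := CGrpSh.ptsMap Scheme.fppfPrecoverage e.inv
  hom_inv_id := by
    apply Sheaf.hom_ext
    ext T x
    apply ULift.ext
    change Additive.ofMul ((x.down.toMul ≫ e.hom) ≫ e.inv) = x.down
    rw [Category.assoc, e.hom_inv_id, Category.comp_id]
    rfl
  inv_hom_id := by
    apply Sheaf.hom_ext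
    ext T x
    apply ULift.ext
    change Additive.ofMul ((x.down.toMul ≫ e.inv) ≫ e.hom) = x.down
    rw [Category.assoc, e.inv_hom_id, Category.comp_id]
    rfl

/-- restriction of short complexes -/
abbrev SSg {X : Scheme.{u}} (Y : Over X) (S : ShortComplex (EtFppf.AbF X)) : ShortComplex (EtFppf.AbF Y.left) :=
  S.map (restr Scheme.fppfPrecoverage Y)

/-- `𝔾_m` restricts to `𝔾_m`. -/
def gmIg {X : Scheme.{u}} (Y : Over X) : rs Y (GM X) ≅ GM Y.left := asIso (gmRs Y)

/-- `𝔾_m` in the restricted sequence. -/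
def e₂g {X : Scheme.{u}} (Y : Over X) {S : ShortComplex (EtFppf.AbF X)} (e₁ : S.X₁ ≅ GM X) : (SSg Y S).X₁ ≅ GM Y.left :=
  (restr Scheme.fppfPrecoverage Y).mapIso e₁ ≪≫ gmIg Y

section step

variable (R R' : Type u) [CommRing R] [CommRing R'] [Algebra R R']

/-- restriction to `Spec R'` -/
abbrev rs' (F : EtFppf.AbF (Bs R)) : EtFppf.AbF (Bs R') := rs (SpecOver R R') F

/-- restriction to `Spec R'` -/
abbrev rmap {F G : EtFppf.AbF (Bs R)} (φ : F ⟶ G) : rs' R R' F ⟶ rs' R R' G :=
  (restr Scheme.fppfPrecoverage (SpecOver R R')).map φ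

/-- restriction to `Spec R'` -/
abbrev SS (S : ShortComplex (EtFppf.AbF (Bs R))) : ShortComplex (EtFppf.AbF (Bs R')) :=
  SSg (SpecOver R R') S

/-- objects over `Spec R'` -/
abbrev dn' (W : Over (Bs R')) : Over (Bs R) := dn (Y := SpecOver R R') W

/-- the structure map -/
abbrev dnY' (W : Over (Bs R')) : dn' R R' W ⟶ SpecOver R R' := dnY (Y := SpecOver R R') W

/-- sections -/
def tx' (F : EtFppf.AbF (Bs R)) (W : Over (Bs R')) : Γs F (dn' R R' W) →+ Γs (rs' R R' F) W :=
  tx (Y := SpecOver R R') F W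

/-- sections -/
def ty' (F : EtFppf.AbF (Bs R)) (W : Over (Bs R')) : Γs (rs' R R' F) W →+ Γs F (dn' R R' W) :=
  ty (Y := SpecOver R R') F W

theorem ty_tx' (F : EtFppf.AbF (Bs R)) (W : Over (Bs R')) (x : Γs F (dn' R R' W)) :
    ty' R R' F W (tx' R R' F W x) = x := rfl

theorem ty_injective' (F : EtFppf.AbF (Bs R)) (W : Over (Bs R')) : Function.Injective (ty' R R' F W) :=
  fun _ _ h => h

theorem ty_m' {F G : EtFppf.AbF (Bs R)} (φ : F ⟶ G) {W : Over (Bs R')} (x : Γs (rs' R R' F) W) :
    ty' R R' G W (m (rmap R R' φ) W x) = m φ (dn' R R' W) (ty' R R' F W x) := rfl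

variable (A : Type u) [CommRing A] [HopfAlgebra R A]

/-- The base change of `Spec A` to `R'`. -/
abbrev NN : Over (Bs R') := Red.bc (SpecOver R R').hom (SpecOver R A)

instance : GrpObj (NN R R' A) := inferInstanceAs (GrpObj (Red.bc (SpecOver R R').hom (SpecOver R A)))

variable [IsCommMonObj (SpecOver R A)]

instance : IsCommMonObj (NN R R' A) := inferInstanceAs (IsCommMonObj (Red.bc (SpecOver R R').hom (SpecOver R A)))

/-- points of the base change -/
def ptNN : rs' R R' (PT (SpecOver R A)) ≅ PT (NN R R' A) :=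
  ptsIso Scheme.fppfPrecoverage (SpecOver R R') (SpecOver R A)

variable {R R' A}

theorem llg_step {A' : Type u} [CommRing A'] [HopfAlgebra R' A'] [IsCommMonObj (SpecOver R' A')]
    [Coalgebra.IsCocomm R' A'] [Module.Finite R' A'] [Module.Projective R' A']
    (ε : PT (SpecOver R' A') ≅ rs' R R' (PT (SpecOver R A)))
    {S : ShortComplex (EtFppf.AbF (Bs R))} (hS : S.ShortExact) (e₁ : S.X₁ ≅ GM (Bs R))
    (φ : PT (SpecOver R A) ⟶ S.X₃) (a : Γs S.X₂ (SpecOver R (R' ⊗[R] A)))
    (ha : m S.g _ a = r S.X₃ (specMap R Algebra.TensorProduct.includeRight) (m φ _ (ps (𝟙 _)))) (P : Bs R') :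
    LLg (SS R R' S) (show PT (SpecOver R' A') ⟶ (SS R R' S).X₃ from ε.hom ≫ rmap R R' φ) P := by
  let pr : dn' R R' (SpecOver R' A') ⟶ SpecOver R A := sp (ty' R R' _ _ (m ε.hom _ (ps (𝟙 (SpecOver R' A')))))
  let b : Γs S.X₂ (dn' R R' (SpecOver R' A')) :=
    r S.X₂ (CartesianMonoidalCategory.lift (dnY' R R' (SpecOver R' A')) pr ≫ θ R' A) a
  have h1 : m S.g _ b = m φ _ (ps pr) := by
    simp only [b]
    rw [m_r, ha, r_r, Category.assoc, θ_inr, lift_snd, ← m_r, r_ps, Category.comp_id]
  have e₂ : (SS R R' S).X₁ ≅ GM (Bs R') := e₂g (SpecOver R R') e₁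
  refine llg_of_universal (shortExact_restr _ _ hS) e₂.inv _ (tx' R R' S.X₂ (SpecOver R' A') b) ?_ P
  apply ty_injective'
  refine (ty_m' R R' S.g _).trans ?_
  rw [ty_tx', h1]
  exact (ty_m' R R' φ _).symm

end step

theorem llg_spec {R : Type u} [CommRing R] {A : Type u} [CommRing A] [HopfAlgebra R A]
    [IsCommMonObj (SpecOver R A)] [Module.Finite R A] [IsFinite (SpecOver R A).hom] [Flat (SpecOver R A).hom]
    [LocallyOfFinitePresentation (SpecOver R A).hom]
    {S : ShortComplex (EtFppf.AbF (Bs R))} (hS : S.ShortExact) (e₁ : S.X₁ ≅ GM (Bs R))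
    (φ : PT (SpecOver R A) ⟶ S.X₃) (x : Bs R) : LLg S φ x := by
  obtain ⟨R', iR', jR', hR', P, hP, a, ha⟩ := K778.EtLift.exists_etale_lift hS e₁ (m φ _ (ps (𝟙 _))) x
  have h1 : Etale (Spec.map (CommRingCat.ofHom (algebraMap R R'))) := by
    rw [HasRingHomProperty.Spec_iff (P := @Etale)]
    exact RingHom.etale_algebraMap.2 inferInstance
  have h2 : Flat (SpecOver R R').hom := inferInstanceAs (Flat (Spec.map (CommRingCat.ofHom (algebraMap R R'))))
  have h3 : LocallyOfFinitePresentation (SpecOver R R').hom :=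
    inferInstanceAs (LocallyOfFinitePresentation (Spec.map (CommRingCat.ofHom (algebraMap R R'))))
  have hx : x = (SpecOver R R').hom P := hP.symm
  rw [hx]
  refine LLg.of_slice (SpecOver R R') P ?_
  have h4 : IsFinite (NN R R' A).hom :=
    inferInstanceAs (IsFinite (pullback.snd (SpecOver R A).hom (SpecOver R R').hom))
  have h5 : Flat (NN R R' A).hom := inferInstanceAs (Flat (pullback.snd (SpecOver R A).hom (SpecOver R R').hom))
  have h6 : LocallyOfFinitePresentation (NN R R' A).hom :=
    inferInstanceAs (LocallyOfFinitePresentation (pullback.snd (SpecOver R A).hom (SpecOver R R').hom))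
  have h7 : IsAffine (NN R R' A).left := isAffine_of_isAffineHom (NN R R' A).hom
  obtain ⟨A', iA, jA, e', he'⟩ := exists_hopf R' (NN R R' A)
  obtain ⟨h8, h9⟩ := module_of_chart (R := R') (N := NN R R' A) (A := A') e'
  have h11 : IsCommMonObj (SpecOver R' A') := isCommMonObj_of_mono e'.inv
  have h12 : Coalgebra.IsCocomm R' A' := isCocomm_of_isCommMonObj
  exact LLg.of_iso ((ptIso e').symm ≪≫ (ptNN R R' A).symm) (llg_step _ hS e₁ φ a ha P)

theorem llg_affine {R : Type u} [CommRing R] (N : Over (Bs R)) [GrpObj N] [IsCommMonObj N] [IsFinite N.hom]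
    [Flat N.hom] [LocallyOfFinitePresentation N.hom]
    {S : ShortComplex (EtFppf.AbF (Bs R))} (hS : S.ShortExact) (e₁ : S.X₁ ≅ GM (Bs R))
    (φ : PT N ⟶ S.X₃) (x : Bs R) : LLg S φ x := by
  have h7 : IsAffine N.left := isAffine_of_isAffineHom N.hom
  obtain ⟨A, iA, jA, e', he'⟩ := exists_hopf R N
  obtain ⟨h8, h9⟩ := module_of_chart e'
  have h11 : IsCommMonObj (SpecOver R A) := isCommMonObj_of_mono e'.inv
  refine LLg.of_iso (ptIso e').symm ?_
  have hw : e'.inv.left ≫ N.hom = (SpecOver R A).hom := Over.w e'.inv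
  have : IsIso e'.inv.left := inferInstanceAs (IsIso ((Over.forget _).map e'.inv))
  have h1 : IsFinite (SpecOver R A).hom := by
    rw [← hw]
    exact MorphismProperty.comp_mem _ _ _ inferInstance inferInstance
  have h2 : Flat (SpecOver R A).hom := by
    rw [← hw]
    exact MorphismProperty.comp_mem _ _ _ inferInstance inferInstance
  have h3 : LocallyOfFinitePresentation (SpecOver R A).hom := by
    rw [← hw]
    exact MorphismProperty.comp_mem _ _ _ inferInstance inferInstance
  exact llg_spec hS e₁ _ x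

theorem llg_finite {X : Scheme.{u}} (N : Over X) [GrpObj N] [IsCommMonObj N] [IsFinite N.hom]
    [Flat N.hom] [LocallyOfFinitePresentation N.hom]
    {S : ShortComplex (EtFppf.AbF X)} (hS : S.ShortExact) (e₁ : S.X₁ ≅ GM X)
    (φ : PT N ⟶ S.X₃) (x : X) : LLg S φ x := by
  obtain ⟨U, hU, hxU, -⟩ := exists_isAffineOpen_mem_and_subset (x := x) (U := ⊤) trivial
  obtain ⟨y, hy⟩ : ∃ y, hU.fromSpec y = x := by
    have h1 : x ∈ Set.range hU.fromSpec := by
      rw [hU.range_fromSpec]
      exact hxU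
    exact h1
  have h1 : Flat (Over.mk hU.fromSpec).hom := inferInstanceAs (Flat hU.fromSpec)
  have h2 : LocallyOfFinitePresentation (Over.mk hU.fromSpec).hom :=
    inferInstanceAs (LocallyOfFinitePresentation hU.fromSpec)
  have h4 : IsFinite (Red.bc (Over.mk hU.fromSpec).hom N).hom :=
    inferInstanceAs (IsFinite (pullback.snd N.hom hU.fromSpec))
  have h5 : Flat (Red.bc (Over.mk hU.fromSpec).hom N).hom := inferInstanceAs (Flat (pullback.snd N.hom hU.fromSpec))
  have h6 : LocallyOfFinitePresentation (Red.bc (Over.mk hU.fromSpec).hom N).hom :=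
    inferInstanceAs (LocallyOfFinitePresentation (pullback.snd N.hom hU.fromSpec))
  rw [← hy]
  refine LLg.of_slice (Over.mk hU.fromSpec) y ?_
  refine LLg.of_iso (ptsIso Scheme.fppfPrecoverage (Over.mk hU.fromSpec) N).symm ?_
  exact llg_affine (R := Γ(X, U)) (Red.bc (Over.mk hU.fromSpec).hom N) (shortExact_restr _ _ hS)
    (e₂g (Over.mk hU.fromSpec) e₁) _ y

/-- **`𝓔xt¹(N, 𝔾_m) = 0`** for finite locally free `N`. -/
theorem isZero_extSh_one {X : Scheme.{u}} (N : Over X) [GrpObj N] [IsCommMonObj N] [IsFinite N.hom]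
    [Flat N.hom] [LocallyOfFinitePresentation N.hom] :
    IsZero ((HomSh.extSh (QuotSh.J Scheme.fppfPrecoverage X) (CGrpSh.pts Scheme.fppfPrecoverage N) 1).obj
      (CGrpSh2.Gm Scheme.fppfPrecoverage X)) := by
  refine isZero_of_llg _ _ fun Y S hS ⟨e⟩ φ y => ?_
  have h4 : IsFinite (Red.bc Y.hom N).hom := inferInstanceAs (IsFinite (pullback.snd N.hom Y.hom))
  have h5 : Flat (Red.bc Y.hom N).hom := inferInstanceAs (Flat (pullback.snd N.hom Y.hom))
  have h6 : LocallyOfFinitePresentation (Red.bc Y.hom N).hom :=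
    inferInstanceAs (LocallyOfFinitePresentation (pullback.snd N.hom Y.hom))
  exact LLg.of_iso (ptsIso Scheme.fppfPrecoverage Y N).symm
    (llg_finite (Red.bc Y.hom N) hS (e ≪≫ asIso (gmRs Y)) _ y)

end K778.FinExt
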