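import Groth.Agent.GmDual.K778.LocLift
import Groth.Agent.GmDual.K778.FinExt
import Groth.Agent.GaDual.K771.FieldLine
import Groth.Agent.Sga3B.BcIso
import Groth.Agent.GaDual.K771.HExt
import Groth.Agent.AbSch.K453.ExtLift
import Mathlib.RingTheory.Jacobson.Ring

/-! Over a field: morphisms from an affine commutative group of finite type to a quotient by `𝔾_m` lift locally. -/

set_option autoImplicit false
universe u
open CategoryTheory MonoidalCategory CartesianMonoidalCategory MonObj GrpObj Limits AlgebraicGeometry Opposite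

noncomputable section

namespace K778.FieldLift

open Groth.Agent.Etdl.H432.Sec K771.HomEv K453.Slice K778.HomSlice K778.UnitSec K778.LocLift K778.CharDict K778.FinExt
open Groth.Agent.Books.AffBridge

theorem injective_res {X : Scheme.{u}} (Y : Over X)
    (I : Sheaf ((QuotSh.J Scheme.fppfPrecoverage X).over Y) AddCommGrpCat.{u + 1}) [Injective I] :
    Injective ((res Scheme.fppfPrecoverage Y).obj I) := by
  have := (res Scheme.fppfPrecoverage Y).asEquivalence.symm.toAdjunction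
  exact Adjunction.map_injective this I inferInstance

theorem injective_restr {X : Scheme.{u}} (Y : Over X) (I : EtFppf.AbF X) [Injective I] : Injective (rs Y I) := by
  have h1 : Injective (I.over Y) := K453.HomShEx.injective_over _ Y I
  exact injective_res Y (I.over Y)

theorem LLg.add {X : Scheme.{u}} {S : ShortComplex (EtFppf.AbF X)} {F F' : EtFppf.AbF X} {θ : F' ⟶ S.X₃} {x : X}
    (h : LLg S θ x) (g : F ⟶ F') (χ : F ⟶ S.X₂) : LLg S (g ≫ θ + χ ≫ S.g) x := by
  obtain ⟨Z, h1, h2, h3, ψ, hψ⟩ := h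
  refine ⟨Z, h1, h2, h3, m (HomSh.homShMap (EtFppf.J X) g (𝟙 _)) Z ψ + ofHom χ Z, fun W h y => ?_⟩
  rw [ev_add, map_add, ev_map_left, hψ, ev_ofHom, ← m_comp, ← m_comp]
  rfl

/-- A point with values in a finite extension. -/
theorem exists_point {L : Type u} [Field L] (Z : Over (Bs L)) [LocallyOfFinitePresentation Z.hom] (z : Z.left) :
    ∃ (L' : Type u) (_ : Field L') (q : Bs L' ⟶ Z.left), Flat (q ≫ Z.hom) ∧
      LocallyOfFinitePresentation (q ≫ Z.hom) := by
  obtain ⟨U, hU, hxU, -⟩ := exists_isAffineOpen_mem_and_subset (x := z) (U := ⊤) trivial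
  obtain ⟨φ, hφ⟩ := Spec.map_surjective (hU.fromSpec ≫ Z.hom)
  have hnt : Nontrivial Γ(Z.left, U) := by
    have h1 : z ∈ Set.range hU.fromSpec := by rw [hU.range_fromSpec]; exact hxU
    obtain ⟨w, -⟩ := h1
    exact ⟨⟨0, 1, fun h => by
      have := (show PrimeSpectrum Γ(Z.left, U) from w).2.ne_top
      exact this ((Ideal.eq_top_iff_one _).2 (h ▸ zero_mem _))⟩⟩
  obtain ⟨M, hM⟩ := Ideal.exists_maximal Γ(Z.left, U)
  letI : Field (Γ(Z.left, U) ⧸ M) := Ideal.Quotient.field M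
  letI : Algebra L (Γ(Z.left, U) ⧸ M) := ((Ideal.Quotient.mk M).comp φ.hom).toAlgebra
  have h2 : LocallyOfFiniteType (hU.fromSpec ≫ Z.hom) := inferInstance
  rw [← hφ, HasRingHomProperty.Spec_iff (P := @LocallyOfFiniteType)] at h2
  have h3 : Algebra.FiniteType L (Γ(Z.left, U) ⧸ M) := by
    have h4 : ((Ideal.Quotient.mk M).comp φ.hom).FiniteType :=
      (RingHom.FiniteType.of_surjective _ Ideal.Quotient.mk_surjective).comp h2
    exact h4
  have h4 : Module.Finite L (Γ(Z.left, U) ⧸ M) := finite_of_finite_type_of_isJacobsonRing L _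
  have h5 : (Spec.map (CommRingCat.ofHom (Ideal.Quotient.mk M)) ≫ hU.fromSpec) ≫ Z.hom =
      Spec.map (CommRingCat.ofHom (algebraMap L (Γ(Z.left, U) ⧸ M))) := by
    rw [Category.assoc, ← hφ, ← Spec.map_comp]
    rfl
  refine ⟨Γ(Z.left, U) ⧸ M, inferInstance, Spec.map (CommRingCat.ofHom (Ideal.Quotient.mk M)) ≫ hU.fromSpec, ?_, ?_⟩
  · rw [h5, HasRingHomProperty.Spec_iff (P := @Flat)]
    exact RingHom.flat_algebraMap_iff.2 inferInstance
  · rw [h5, HasRingHomProperty.Spec_iff (P := @LocallyOfFinitePresentation)]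
    have : Module.FinitePresentation L (Γ(Z.left, U) ⧸ M) := Module.finitePresentation_of_projective L _
    exact RingHom.finitePresentation_algebraMap.2 (Algebra.FinitePresentation.of_finitePresentation L _)

/-- Local lifting over all fields over `k`. -/
def PP {k : Type u} [Field k] (G : Over (Bs k)) [GrpObj G] [IsCommMonObj G] : Prop :=
  ∀ (L : Type u) [Field L] (t : Bs L ⟶ Bs k) (S : ShortComplex (EtFppf.AbF (Bs L))), S.ShortExact →
    Injective S.X₂ → Nonempty (S.X₁ ≅ GM (Bs L)) → ∀ (φ : PT (Red.bc t G) ⟶ S.X₃) (y : Bs L), LLg S φ y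

section

variable {k : Type u} [Field k]

theorem PP.iso {G H : Over (Bs k)} [GrpObj G] [IsCommMonObj G] [GrpObj H] [IsCommMonObj H] (e : G ≅ H)
    [IsMonHom e.hom] (h : PP G) : PP H := by
  intro L _ t S hS hI e₁ φ y
  let e' : Red.bc t G ≅ Red.bc t H := (Over.pullback t).mapIso e
  have : IsMonHom e'.hom := inferInstanceAs (IsMonHom ((Over.pullback t).map e.hom))
  exact LLg.of_iso (ptIso e') (h L t S hS hI e₁ _ y)

theorem PP.fin (G : Over (Bs k)) [GrpObj G] [IsCommMonObj G] [IsFinite G.hom] : PP G := by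
  intro L _ t S hS hI ⟨e₁⟩ φ y
  have h4 : IsFinite (Red.bc t G).hom := inferInstanceAs (IsFinite (pullback.snd G.hom t))
  have h7 : IsAffine (Red.bc t G).left := isAffine_of_isAffineHom (Red.bc t G).hom
  obtain ⟨A, iA, jA, e, he⟩ := exists_hopf L (Red.bc t G)
  have hw : e.hom.left ≫ (SpecOver L A).hom = (Red.bc t G).hom := Over.w e.hom
  have hw' : e.inv.left ≫ (Red.bc t G).hom = (SpecOver L A).hom := Over.w e.inv
  have : IsIso e.hom.left := inferInstanceAs (IsIso ((Over.forget _).map e.hom))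
  have : IsIso e.inv.left := inferInstanceAs (IsIso ((Over.forget _).map e.inv))
  have h1 : IsFinite (Spec.map (CommRingCat.ofHom (algebraMap L A))) := by
    change IsFinite (SpecOver L A).hom
    rw [← hw']
    exact MorphismProperty.comp_mem _ _ _ inferInstance inferInstance
  rw [IsFinite.SpecMap_iff] at h1
  have h8 : Module.Finite L A := RingHom.finite_algebraMap.1 h1
  have h2 : Flat (SpecOver L A).hom := by
    change Flat (Spec.map (CommRingCat.ofHom (algebraMap L A)))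
    rw [HasRingHomProperty.Spec_iff (P := @Flat)]
    exact RingHom.flat_algebraMap_iff.2 inferInstance
  have h3 : LocallyOfFinitePresentation (SpecOver L A).hom := by
    change LocallyOfFinitePresentation (Spec.map (CommRingCat.ofHom (algebraMap L A)))
    rw [HasRingHomProperty.Spec_iff (P := @LocallyOfFinitePresentation)]
    have : Module.FinitePresentation L A := Module.finitePresentation_of_projective L _
    exact RingHom.finitePresentation_algebraMap.2 (Algebra.FinitePresentation.of_finitePresentation L _)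
  have h5 : Flat (Red.bc t G).hom := by
    rw [← hw]
    exact MorphismProperty.comp_mem _ _ _ inferInstance inferInstance
  have h6 : LocallyOfFinitePresentation (Red.bc t G).hom := by
    rw [← hw]
    exact MorphismProperty.comp_mem _ _ _ inferInstance inferInstance
  exact llg_finite (Red.bc t G) hS e₁ φ y

theorem LLg.of_hom {X : Scheme.{u}} {S : ShortComplex (EtFppf.AbF X)} {F : EtFppf.AbF X} {φ : F ⟶ S.X₃} (ψ : F ⟶ S.X₂)
    (h : ψ ≫ S.g = φ) (x : X) : LLg S φ x :=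
  ⟨Over.mk (𝟙 X), inferInstanceAs (Flat (𝟙 X)), inferInstanceAs (LocallyOfFinitePresentation (𝟙 X)), ⟨x, rfl⟩,
    ofHom ψ _, fun W k y => by rw [ev_ofHom, ← m_comp, h]⟩

/-- The function of a section. -/
def gaD {X : Scheme.{u}} (Y : Over X) {W : Over Y.left} (s : Γs (rs Y (K771.Pts.Ga X)) W) : O W :=
  K771.Pts.ga (X := X) (U := dn W) (ty (K771.Pts.Ga X) W s)

theorem gaD_add {X : Scheme.{u}} (Y : Over X) {W : Over Y.left} (s t : Γs (rs Y (K771.Pts.Ga X)) W) :
    gaD Y (s + t) = gaD Y s + gaD Y t := by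
  unfold gaD
  rw [map_add]
  exact K771.Pts.ga_add _ _

theorem gaD_r {X : Scheme.{u}} (Y : Over X) {W W' : Over Y.left} (k : W' ⟶ W) (s : Γs (rs Y (K771.Pts.Ga X)) W) :
    gaD Y (r _ k s) = ro k (gaD Y s) := by
  unfold gaD
  rw [ty_r]
  exact K771.Pts.ga_r _ _

theorem gaD_injective {X : Scheme.{u}} (Y : Over X) {W : Over Y.left} {s t : Γs (rs Y (K771.Pts.Ga X)) W}
    (h : gaD Y s = gaD Y t) : s = t := by
  have h2 := K771.Pts.ga_injective (X := X) (U := dn W) h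
  have h3 := congrArg (tx (K771.Pts.Ga X) W) h2
  rwa [tx_ty, tx_ty] at h3

theorem exists_gaD {X : Scheme.{u}} (Y : Over X) {W : Over Y.left} (f : O W) :
    ∃ s : Γs (rs Y (K771.Pts.Ga X)) W, gaD Y s = f :=
  ⟨tx (K771.Pts.Ga X) W (K771.Pts.gas (X := X) (U := dn W) f), K771.Pts.ga_gas (X := X) (U := dn W) f⟩

/-- `𝔾_a` restricts to `𝔾_a`. -/
def gaRs {X : Scheme.{u}} (Y : Over X) : rs Y (K771.Pts.Ga X) ⟶ K771.Pts.Ga Y.left :=
  K771.RedExt.mkH (fun W => AddMonoidHom.mk' (fun s => K771.Pts.gas (gaD Y s))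
    (fun s t => by
      apply K771.Pts.ga_injective
      rw [K771.Pts.ga_add, K771.Pts.ga_gas, K771.Pts.ga_gas, K771.Pts.ga_gas, gaD_add]))
    (fun W W' k s => by
      apply K771.Pts.ga_injective
      change K771.Pts.ga (r (K771.Pts.Ga Y.left) k (K771.Pts.gas _)) = K771.Pts.ga (K771.Pts.gas _)
      rw [K771.Pts.ga_r, K771.Pts.ga_gas, K771.Pts.ga_gas, gaD_r])

theorem ga_gaRs {X : Scheme.{u}} (Y : Over X) {W : Over Y.left} (s : Γs (rs Y (K771.Pts.Ga X)) W) :
    K771.Pts.ga (m (gaRs Y) W s) = gaD Y s := by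
  rw [gaRs, K771.RedExt.m_mkH]
  exact K771.Pts.ga_gas _

theorem isIso_gaRs {X : Scheme.{u}} (Y : Over X) : IsIso (gaRs Y) := by
  refine K771.AffLocal.isIso_of_bijective _ fun W => ⟨fun s t h => ?_, fun t => ?_⟩
  · apply gaD_injective Y
    rw [← ga_gaRs, h, ga_gaRs]
  · obtain ⟨s, hs⟩ := exists_gaD Y (K771.Pts.ga t)
    exact ⟨s, K771.Pts.ga_injective (by rw [ga_gaRs, hs])⟩

/-- `𝔾_a` restricts to `𝔾_a`. -/
def gaI {X : Scheme.{u}} (Y : Over X) : rs Y (K771.Pts.Ga X) ≅ K771.Pts.Ga Y.left :=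
  have := isIso_gaRs Y
  asIso (gaRs Y)

theorem PP.ga : PP (Red.Ga (Bs k)) := by
  intro L _ t S hS hI ⟨e₁⟩ φ y
  let ε : K771.Pts.Ga (Bs L) ≅ PT (Red.bc t (Red.Ga (Bs k))) :=
    (gaI (Over.mk t)).symm ≪≫ ptsIso Scheme.fppfPrecoverage (Over.mk t) (Red.Ga (Bs k))
  refine LLg.of_iso ε ?_
  have h1 : Subsingleton (Abelian.Ext (K771.Pts.Ga (Bs L)) S.X₁ 1) :=
    K771.HExt.sub_of_iso_right e₁.symm 1
  obtain ⟨ψ, hψ⟩ := (K453.ExtLift.conn_eq_zero_iff hS (K771.Pts.Ga (Bs L)) (ε.hom ≫ φ)).1 (Subsingleton.elim _ _)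
  exact LLg.of_hom ψ hψ y

end

/-- transitivity of base change -/
def bcc {S S' S'' : Scheme.{u}} (q : S'' ⟶ S') (t : S' ⟶ S) (G : Over S) [GrpObj G] :
    Red.bc (q ≫ t) G ≅ Red.bc q (Red.bc t G) where
  hom := (Groth.Agent.Sga3B.BcIso.bcCompIso q t G).hom.hom.hom
  inv := (Groth.Agent.Sga3B.BcIso.bcCompIso q t G).inv.hom.hom
  hom_inv_id := congrArg (fun f => f.hom.hom) (Groth.Agent.Sga3B.BcIso.bcCompIso q t G).hom_inv_id
  inv_hom_id := congrArg (fun f => f.hom.hom) (Groth.Agent.Sga3B.BcIso.bcCompIso q t G).inv_hom_id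

instance isMonHom_bcc {S S' S'' : Scheme.{u}} (q : S'' ⟶ S') (t : S' ⟶ S) (G : Over S) [GrpObj G] :
    IsMonHom (bcc q t G).hom :=
  (Groth.Agent.Sga3B.BcIso.bcCompIso q t G).hom.hom.isMonHom_hom

/-- the composite base change -/
def rsComp {S S' S'' : Scheme.{u}} (t : S' ⟶ S) (q : S'' ⟶ S') (G : Over S) [GrpObj G] [IsCommMonObj G] :
    rs (Over.mk q) (rs (Over.mk t) (PT G)) ≅ PT (Red.bc (q ≫ t) G) :=
  (restr Scheme.fppfPrecoverage (Over.mk q)).mapIso (ptsIso Scheme.fppfPrecoverage (Over.mk t) G) ≪≫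
    ptsIso Scheme.fppfPrecoverage (Over.mk q) (Red.bc t G) ≪≫ (ptIso (bcc q t G)).symm

section

variable {k : Type u} [Field k]

/-- The step of the dévissage, on sheaves. -/
theorem llg_ext {L : Type u} [Field L] {S : ShortComplex (EtFppf.AbF (Bs L))} (hS : S.ShortExact) [Injective S.X₂]
    {E : ShortComplex (EtFppf.AbF (Bs L))} (hE : E.ShortExact) (φ : E.X₂ ⟶ S.X₃) (y : Bs L)
    (h1 : LLg S (E.f ≫ φ) y)
    (h3 : ∀ (L' : Type u) [Field L'] (q : Bs L' ⟶ Bs L) [Flat q] [LocallyOfFinitePresentation q]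
      (θ : rs (Over.mk q) E.X₃ ⟶ (SSg (Over.mk q) S).X₃) (z : Bs L'), LLg (SSg (Over.mk q) S) θ z) : LLg S φ y := by
  obtain ⟨Z, hZ1, hZ2, ⟨z, hz⟩, ψ, hψ⟩ := h1
  obtain ⟨L', iL, q, hq1, hq2⟩ := exists_point Z z
  let Y : Over (Bs L) := Over.mk (q ≫ Z.hom)
  let κ : Y ⟶ Z := Over.homMk q
  have hfl : Flat Y.hom := hq1
  have hfp : LocallyOfFinitePresentation Y.hom := hq2
  have hy : y = Y.hom (⊥ : PrimeSpectrum L') := Subsingleton.elim (α := PrimeSpectrum L) _ _
  rw [hy]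
  refine LLg.of_slice Y (⊥ : PrimeSpectrum L') ?_
  have hE' := shortExact_restr Scheme.fppfPrecoverage Y hE
  have hm : Mono ((restr Scheme.fppfPrecoverage Y).map E.f) := hE'.mono_f
  have he : Epi ((restr Scheme.fppfPrecoverage Y).map E.g) := hE'.epi_g
  have hep : Epi (E.map (restr Scheme.fppfPrecoverage Y)).g := hE'.epi_g
  have hI : Injective (rs Y S.X₂) := injective_restr Y S.X₂
  let ψ' : rs Y E.X₁ ⟶ rs Y S.X₂ := hs (r (hom E.X₁ S.X₂) κ ψ)
  let χ : rs Y E.X₂ ⟶ rs Y S.X₂ := Injective.factorThru ψ' ((restr Scheme.fppfPrecoverage Y).map E.f)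
  have hχ : (restr Scheme.fppfPrecoverage Y).map E.f ≫ χ = ψ' := Injective.comp_factorThru _ _
  have h4 : ψ' ≫ (restr Scheme.fppfPrecoverage Y).map S.g = (restr Scheme.fppfPrecoverage Y).map (E.f ≫ φ) := by
    apply K771.RedExt.hom_ext_m
    intro W s
    rw [m_comp]
    have h5 : ty S.X₃ W (m ((restr Scheme.fppfPrecoverage Y).map S.g) W (m ψ' W s)) =
        ty S.X₃ W (m ((restr Scheme.fppfPrecoverage Y).map (E.f ≫ φ)) W s) := by
      rw [ty_m, ty_m, ty_hs, ev_r, hψ]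
    exact h5
  have h6 : (restr Scheme.fppfPrecoverage Y).map E.f ≫ ((restr Scheme.fppfPrecoverage Y).map φ -
      χ ≫ (restr Scheme.fppfPrecoverage Y).map S.g) = 0 := by
    rw [Preadditive.comp_sub, ← Category.assoc, hχ, h4, ← Functor.map_comp, sub_self]
  obtain ⟨θ, hθ⟩ : ∃ θ : rs Y E.X₃ ⟶ rs Y S.X₃, (restr Scheme.fppfPrecoverage Y).map E.g ≫ θ =
      (restr Scheme.fppfPrecoverage Y).map φ - χ ≫ (restr Scheme.fppfPrecoverage Y).map S.g :=
    ⟨hE'.exact.desc _ h6, hE'.exact.g_desc _ h6⟩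
  have h7 := LLg.add (h3 L' (q ≫ Z.hom) θ (⊥ : PrimeSpectrum L')) ((restr Scheme.fppfPrecoverage Y).map E.g) χ
  have h8 : (restr Scheme.fppfPrecoverage Y).map φ = (restr Scheme.fppfPrecoverage Y).map E.g ≫ θ +
      χ ≫ (restr Scheme.fppfPrecoverage Y).map S.g := by
    rw [hθ]
    exact (sub_add_cancel _ _).symm
  have h9 : ∀ φ' : rs Y E.X₂ ⟶ rs Y S.X₃, (restr Scheme.fppfPrecoverage Y).map φ = φ' →
      LLg (SSg Y S) φ' (⊥ : PrimeSpectrum L') →
      LLg (SSg Y S) ((restr Scheme.fppfPrecoverage Y).map φ) (⊥ : PrimeSpectrum L') := fun φ' h h' => h ▸ h'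
  exact h9 _ h8 h7

theorem PP.ext (G₁ G₂ G₃ : Over (Bs k)) [GrpObj G₁] [IsCommMonObj G₁] [GrpObj G₂] [IsCommMonObj G₂]
    [GrpObj G₃] [IsCommMonObj G₃] (f : G₁ ⟶ G₂) (g : G₂ ⟶ G₃) [IsMonHom f] [IsMonHom g] (w : f ≫ g = 1)
    (hex : (CGrpSh.seq Scheme.fppfPrecoverage f g w).ShortExact) (h1 : PP G₁) (h3 : PP G₃) : PP G₂ := by
  intro L _ t S hS hI ⟨e₁⟩ φ y
  let Y : Over (Bs k) := Over.mk t
  let E : ShortComplex (EtFppf.AbF (Bs L)) := SSg Y (CGrpSh.seq Scheme.fppfPrecoverage f g w)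
  have hE : E.ShortExact := shortExact_restr Scheme.fppfPrecoverage Y hex
  refine LLg.of_iso (ptsIso Scheme.fppfPrecoverage Y G₂) ?_
  refine llg_ext hS hE _ y ?_ fun L' _ q hq1 hq2 θ z => ?_
  · refine LLg.of_iso (ptsIso Scheme.fppfPrecoverage Y G₁).symm ?_
    exact h1 L t S hS hI ⟨e₁⟩ _ y
  · refine LLg.of_iso (rsComp t q G₃).symm ?_
    exact h3 L' (q ≫ t) _ (shortExact_restr Scheme.fppfPrecoverage (Over.mk q) hS)
      (injective_restr (Over.mk q) S.X₂) ⟨e₂g (Over.mk q) e₁⟩ _ z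

end

end K778.FieldLift
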