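import Groth.Agent.GaDual.K772.DualExt
import Groth.Agent.MiscA.CurveH1Delta
import Groth.Agent.AbSch.K453.ExtLift
import Groth.Agent.AbSch.K453.SheafEx

/-! `H¹(𝓗om(F, M)) ≃ Ext¹(F, M)` if morphisms to quotients by `M` lift locally. -/

set_option autoImplicit false
universe u
open CategoryTheory CategoryTheory.Limits Opposite CategoryTheory.Abelian

noncomputable section

namespace K778.HOneExt

open K772.DualExt K453.ExtLift

variable {C : Type (u + 1)} [Category.{u} C] {J : GrothendieckTopology C}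

/-- Morphisms are global sections of the internal Hom. -/
def glob {T : C} (hT : IsTerminal T) (F Q : Sheaf J AddCommGrpCat.{u + 1}) : (F.over T ⟶ Q.over T) ≃+ (F ⟶ Q) where
  toFun k :=
    ⟨{ app := fun V => AddCommGrpCat.ofHom (comp k (hT.from V.unop))
       naturality := fun V W f => AddCommGrpCat.ext fun y => by
         change comp k (hT.from W.unop) (F.obj.map f y) = Q.obj.map f (comp k (hT.from V.unop) y)
         refine Eq.trans ?_ (comp_map k (hT.from V.unop) f.unop y)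
         exact comp_congr k (hT.hom_ext _ _) _ }⟩
  invFun φ := (J.overPullback _ T).map φ
  left_inv k := over_hom_ext fun W f y => comp_congr k (hT.hom_ext _ _) _
  right_inv φ := by
    apply Sheaf.hom_ext
    ext V y
    rfl
  map_add' k l := by
    apply Sheaf.hom_ext
    ext V y
    rfl

section Main

variable [HasSheafify J AddCommGrpCat.{u + 1}] [J.WEqualsLocallyBijective AddCommGrpCat.{u + 1}]
  [EnoughInjectives (Sheaf J AddCommGrpCat.{u + 1})] [HasExt.{u + 1} (Sheaf J AddCommGrpCat.{u + 1})]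

/-- The sequence `0 ⟶ 𝓗om(F, X₁) ⟶ 𝓗om(F, X₂) ⟶ 𝒦 ⟶ 0`. -/
def imSeq (F : Sheaf J AddCommGrpCat.{u + 1}) (S : ShortComplex (Sheaf J AddCommGrpCat.{u + 1})) :
    ShortComplex (Sheaf J AddCommGrpCat.{u + 1}) :=
  ShortComplex.mk (post F S.f) (Abelian.factorThruImage (post F S.g)) (by
    rw [← cancel_mono (Abelian.image.ι (post F S.g)), Category.assoc, Abelian.image.fac, zero_comp, post_zero])

omit [J.WEqualsLocallyBijective AddCommGrpCat.{u + 1}] [EnoughInjectives (Sheaf J AddCommGrpCat.{u + 1})]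
  [HasExt.{u + 1} (Sheaf J AddCommGrpCat.{u + 1})] in
theorem imSeq_shortExact (F : Sheaf J AddCommGrpCat.{u + 1}) (S : ShortComplex (Sheaf J AddCommGrpCat.{u + 1}))
    (hS : S.ShortExact) : (imSeq F S).ShortExact := by
  have := hS.mono_f
  have hex : (imSeq F S).Exact := by
    let ψ : imSeq F S ⟶ ShortComplex.mk (post F S.f) (post F S.g) post_zero :=
      { τ₁ := 𝟙 _
        τ₂ := 𝟙 _
        τ₃ := Abelian.image.ι (post F S.g)
        comm₁₂ := by simp [imSeq]
        comm₂₃ := by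
          change 𝟙 _ ≫ post F S.g = Abelian.factorThruImage (post F S.g) ≫ Abelian.image.ι (post F S.g)
          rw [Category.id_comp, Abelian.image.fac] }
    have h1 : Epi ψ.τ₁ := inferInstanceAs (Epi (𝟙 _))
    have h2 : IsIso ψ.τ₂ := inferInstanceAs (IsIso (𝟙 _))
    have h3 : Mono ψ.τ₃ := inferInstanceAs (Mono (Abelian.image.ι (post F S.g)))
    exact (ShortComplex.exact_iff_of_epi_of_isIso_of_mono ψ).2 (exact_post hS.exact)
  exact
    { exact := hex
      mono_f := inferInstanceAs (Mono (post F S.f))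
      epi_g := inferInstanceAs (Epi (Abelian.factorThruImage (post F S.g))) }

/-- The image sections as homomorphisms. -/
def theta {T : C} (hT : IsTerminal T) (F : Sheaf J AddCommGrpCat.{u + 1})
    (S : ShortComplex (Sheaf J AddCommGrpCat.{u + 1})) :
    ((imSeq F S).X₃.obj.obj (op T) : AddCommGrpCat.{u + 1}) →+ (F ⟶ S.X₃) :=
  (glob hT F S.X₃).toAddMonoidHom.comp ((Abelian.image.ι (post F S.g)).hom.app (op T)).hom

omit [J.WEqualsLocallyBijective AddCommGrpCat.{u + 1}] [EnoughInjectives (Sheaf J AddCommGrpCat.{u + 1})]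
  [HasExt.{u + 1} (Sheaf J AddCommGrpCat.{u + 1})] in
theorem exists_iff {T : C} (hT : IsTerminal T) (F : Sheaf J AddCommGrpCat.{u + 1})
    (S : ShortComplex (Sheaf J AddCommGrpCat.{u + 1})) (q : ((imSeq F S).X₃.obj.obj (op T) : AddCommGrpCat.{u + 1})) :
    (∃ ψ : F ⟶ S.X₂, ψ ≫ S.g = theta hT F S q) ↔
      ∃ t : ((imSeq F S).X₂.obj.obj (op T) : AddCommGrpCat.{u + 1}), (imSeq F S).g.hom.app (op T) t = q := by
  have key : ∀ t : F.over T ⟶ S.X₂.over T, (glob hT F S.X₃) ((post F S.g).hom.app (op T) t) =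
      glob hT F S.X₂ t ≫ S.g := fun t => by
    apply Sheaf.hom_ext
    ext V y
    rfl
  have hi : ∀ t : F.over T ⟶ S.X₂.over T,
      theta hT F S ((imSeq F S).g.hom.app (op T) t) = glob hT F S.X₂ t ≫ S.g := by
    intro t
    rw [← key]
    refine congrArg (glob hT F S.X₃) ?_
    change (Abelian.factorThruImage (post F S.g) ≫ Abelian.image.ι (post F S.g)).hom.app (op T) t = _
    rw [Abelian.image.fac]
  constructor
  · rintro ⟨ψ, hψ⟩
    obtain ⟨t, rfl⟩ := (glob hT F S.X₂).surjective ψ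
    refine ⟨t, injective_of_mono (Abelian.image.ι (post F S.g)) _ ((glob hT F S.X₃).injective ?_)⟩
    exact (hi t).trans hψ
  · rintro ⟨t, rfl⟩
    exact ⟨glob hT F S.X₂ t, (hi t).symm⟩

omit [EnoughInjectives (Sheaf J AddCommGrpCat.{u + 1})] [HasExt.{u + 1} (Sheaf J AddCommGrpCat.{u + 1})]
  [J.WEqualsLocallyBijective AddCommGrpCat.{u + 1}] in
theorem theta_surjective {T : C} (hT : IsTerminal T) (F : Sheaf J AddCommGrpCat.{u + 1})
    (S : ShortComplex (Sheaf J AddCommGrpCat.{u + 1}))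
    (hl : ∀ φ : F ⟶ S.X₃, ∃ R ∈ J T, ∀ ⦃V : C⦄ (f : V ⟶ T), R f → ∃ ψ : F.over V ⟶ S.X₂.over V,
      ∀ (W : C) (g : W ⟶ V) (y : F.obj.obj (op W)), S.g.hom.app (op W) (comp ψ g y) = φ.hom.app (op W) y) :
    Function.Surjective (theta hT F S) := by
  intro φ
  let s : F.over T ⟶ S.X₃.over T := (J.overPullback _ T).map φ
  let E : ShortComplex (Sheaf J AddCommGrpCat.{u + 1}) :=
    ShortComplex.mk (Abelian.image.ι (post F S.g)) (cokernel.π (post F S.g)) (by
      simp)
  have hE : E.Exact := by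
    apply ShortComplex.exact_of_f_is_kernel
    exact kernelIsKernel (cokernel.π (post F S.g))
  have hEm : Mono E.f := inferInstanceAs (Mono (Abelian.image.ι (post F S.g)))
  obtain ⟨R, hR, hl'⟩ := hl φ
  have hs : E.g.hom.app (op T) s = 0 := by
    refine K453.SheafEx.eq_zero_of_locally _ _ R hR fun V f hf => ?_
    obtain ⟨ψ, hψ⟩ := hl' f hf
    have h1 : (post F S.g).hom.app (op V) ψ = (HomSh.homSh J F S.X₃).obj.map f.op s :=
      over_hom_ext fun W g y => hψ W g y
    have h2 : E.X₃.obj.map f.op (E.g.hom.app (op T) s) = E.g.hom.app (op V) ((HomSh.homSh J F S.X₃).obj.map f.op s) :=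
      (ConcreteCategory.congr_hom (E.g.hom.naturality f.op) s).symm
    rw [h2, ← h1]
    change (post F S.g ≫ cokernel.π (post F S.g)).hom.app (op V) ψ = 0
    rw [cokernel.condition]
    rfl
  obtain ⟨q, hq⟩ := exists_of_exact hE (V := op T) s hs
  refine ⟨q, ?_⟩
  change glob hT F S.X₃ ((Abelian.image.ι (post F S.g)).hom.app (op T) q) = φ
  have h3 : (Abelian.image.ι (post F S.g)).hom.app (op T) q = s := hq
  rw [h3]
  exact (glob hT F S.X₃).apply_symm_apply φ

/-- **`H¹(𝓗om(F, M)) ≃ Ext¹(F, M)`.** -/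
theorem nonempty_equiv {T : C} (hT : IsTerminal T) (F : Sheaf J AddCommGrpCat.{u + 1})
    (S : ShortComplex (Sheaf J AddCommGrpCat.{u + 1})) (hS : S.ShortExact) [Injective S.X₂]
    (hl : ∀ φ : F ⟶ S.X₃, ∃ R ∈ J T, ∀ ⦃V : C⦄ (f : V ⟶ T), R f → ∃ ψ : F.over V ⟶ S.X₂.over V,
      ∀ (W : C) (g : W ⟶ V) (y : F.obj.obj (op W)), S.g.hom.app (op W) (comp ψ g y) = φ.hom.app (op W) y) :
    Nonempty (Sheaf.H.{u + 1} (HomSh.homSh J F S.X₁) 1 ≃+ Ext.{u + 1} F S.X₁ 1) := by
  have hS' := imSeq_shortExact F S hS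
  have hz : Subsingleton (Sheaf.H.{u + 1} (imSeq F S).X₂ 1) := subsingleton_H_one_of_injective F S.X₂
  let δ := Groth.Agent.MiscA.CurveH1.delta hT (imSeq F S) hS'
  have hδ : Function.Surjective δ := Groth.Agent.MiscA.CurveH1.delta_surjective hT (imSeq F S) hS'
  let c : ((imSeq F S).X₃.obj.obj (op T) : AddCommGrpCat.{u + 1}) →+ Ext.{u + 1} F S.X₁ 1 :=
    (conn hS F).comp (theta hT F S)
  have hc : Function.Surjective c := (conn_surjective hS F).comp (theta_surjective hT F S hl)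
  have hk : δ.ker = c.ker := by
    ext q
    rw [AddMonoidHom.mem_ker, AddMonoidHom.mem_ker]
    refine (Groth.Agent.MiscA.CurveH1.delta_eq_zero_iff hT (imSeq F S) hS' q).trans ?_
    rw [← exists_iff hT F S q]
    exact (conn_eq_zero_iff hS F (theta hT F S q)).symm
  exact ⟨(QuotientAddGroup.quotientKerEquivOfSurjective δ hδ).symm.trans
    ((QuotientAddGroup.quotientAddEquivOfEq hk).trans (QuotientAddGroup.quotientKerEquivOfSurjective c hc))⟩

end Main

end K778.HOneExt
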