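import Groth.Agent.GmDual.K778.FieldLift
import Groth.Agent.GmDual.K778.HOneExt

/-! `H¹(X, Ĝ) ≃ Ext¹(G, 𝔾_m)` if morphisms `G ⟶ Q` lift locally. -/

set_option autoImplicit false
universe u
open CategoryTheory MonoidalCategory CartesianMonoidalCategory MonObj GrpObj Limits AlgebraicGeometry Opposite

noncomputable section

namespace K778.HOneDual

open Groth.Agent.Etdl.H432.Sec K771.HomEv K778.UnitSec K778.LocLift K778.CharDict

theorem nonempty_equiv {X : Scheme.{u}} (F M : EtFppf.AbF X)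
    (h : ∀ (S : ShortComplex (EtFppf.AbF X)), S.ShortExact → Injective S.X₂ → Nonempty (S.X₁ ≅ M) →
      ∀ (φ : F ⟶ S.X₃) (y : X), LLg S φ y) :
    Nonempty (BigSite.H Scheme.fppfPrecoverage X (HomSh.homSh (EtFppf.J X) F M) 1 ≃+
      Abelian.Ext.{u + 1} F M 1) := by
  let S : ShortComplex (EtFppf.AbF X) := ShortComplex.mk (Injective.ι M) (cokernel.π (Injective.ι M)) (cokernel.condition _)
  have hS : S.ShortExact :=
    { exact := ShortComplex.exact_cokernel _
      mono_f := inferInstanceAs (Mono (Injective.ι M))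
      epi_g := inferInstanceAs (Epi (cokernel.π (Injective.ι M))) }
  have hI : Injective S.X₂ := inferInstanceAs (Injective (Injective.under M))
  refine K778.HOneExt.nonempty_equiv (T := Over.mk (𝟙 X)) Over.mkIdTerminal F S hS fun φ => ?_
  choose Z h4 h5 h6 ψ hψ using h S hS hI ⟨Iso.refl _⟩ φ
  let f : ∀ y : X, Z y ⟶ Over.mk (𝟙 X) := fun y => Over.homMk (Z y).hom (Category.comp_id _)
  have h4' : ∀ y, Flat (f y).left := h4
  have h5' : ∀ y, LocallyOfFinitePresentation (f y).left := h5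
  refine ⟨_, K778.DisjSh.mem_J Z f (fun y => ⟨y, h6 y⟩), ?_⟩
  rintro V g ⟨_, a, b, ⟨y⟩, rfl⟩
  exact ⟨r (hom F S.X₂) a (ψ y), fun W g' x => hψ y W (g' ≫ a) x⟩

end K778.HOneDual
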