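import Groth.Agent.GmDual.K778.FieldLift
import Groth.Agent.GmDual.K778.HOneDual
import Groth.Agent.AbSch.K454.ToriVan
import Groth.Agent.Sga3B.TorusBc
import Groth.Agent.Red.K212.GmTor

/-! Over a field: the torus case. -/

set_option autoImplicit false
universe u
open CategoryTheory MonoidalCategory CartesianMonoidalCategory MonObj GrpObj Limits AlgebraicGeometry Opposite

noncomputable section

namespace K778.FieldTor

open Groth.Agent.Etdl.H432.Sec K771.HomEv K453.Slice K778.HomSlice K778.UnitSec K778.LocLift K778.CharDict K778.FinExt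
open K778.FieldLift

theorem PP.tor {k : Type u} [Field k] {T : Over (Bs k)} [GrpObj T] [IsCommMonObj T] (hT : Red.IsTorus T) : PP T := by
  intro L _ t S hS hI ⟨e₁⟩ φ y
  have h1 : IsZero ((HomSh.extSh (EtFppf.J (Bs L)) (PT (Red.bc t T)) 1).obj (GM (Bs L))) :=
    K454.ToriVan.isZero_extSh_torus (Red.bc t T) (Red.Gm (Bs L)) (Groth.Agent.Sga3B.TorusBc.isTorus_bc t hT)
      (K212.GmTor.isTorus_Gm (Bs L))
  exact llg_of_isZero hS (h1.of_iso ((HomSh.extSh (EtFppf.J (Bs L)) (PT (Red.bc t T)) 1).mapIso e₁)) φ y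

/-- base change along the identity -/
def bcid {S : Scheme.{u}} (G : Over S) [GrpObj G] : Red.bc (𝟙 S) G ≅ G where
  hom := (Groth.Agent.Sga3B.BcIso.bcIdIso G).hom.hom.hom
  inv := (Groth.Agent.Sga3B.BcIso.bcIdIso G).inv.hom.hom
  hom_inv_id := congrArg (fun f => f.hom.hom) (Groth.Agent.Sga3B.BcIso.bcIdIso G).hom_inv_id
  inv_hom_id := congrArg (fun f => f.hom.hom) (Groth.Agent.Sga3B.BcIso.bcIdIso G).inv_hom_id

instance isMonHom_bcid {S : Scheme.{u}} (G : Over S) [GrpObj G] : IsMonHom (bcid G).hom :=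
  (Groth.Agent.Sga3B.BcIso.bcIdIso G).hom.hom.isMonHom_hom

/-- `H¹(k, Ĝ) ≃ Ext¹(G, 𝔾_m)` if `G` lifts locally. -/
theorem nonempty_of_PP {k : Type u} [Field k] (G : Over (Bs k)) [GrpObj G] [IsCommMonObj G] (hP : PP G) :
    Nonempty (BigSite.H Scheme.fppfPrecoverage (Bs k) (CGrpSh2.dualSh Scheme.fppfPrecoverage (PT G)) 1 ≃+
      CGrpSh.ExtS Scheme.fppfPrecoverage G (Red.Gm (Bs k)) 1) :=
  K778.HOneDual.nonempty_equiv _ _ fun S hS hI e₁ _ y =>
    LLg.of_iso (ptIso (bcid G)) (hP k (𝟙 _) S hS hI e₁ _ y)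

end K778.FieldTor
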