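import Groth.Agent.S0607
import Mathlib.RingTheory.Bialgebra.MonoidAlgebra
import Mathlib.RingTheory.HopfAlgebra.MonoidAlgebra
import Mathlib.RingTheory.HopfAlgebra.GroupLike
import Mathlib.RingTheory.Coalgebra.GroupLike

/-! The group of group-like elements of a finitely generated commutative Hopf algebra is finitely generated. -/

set_option autoImplicit false
universe u

open TensorProduct Coalgebra

namespace K778.GroupFG

variable {k : Type u} [Field k] {B : Type u} [CommRing B] [HopfAlgebra k B]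

/-- The bialgebra map from the group algebra of a subgroup of the group-like elements. -/
noncomputable def jMap (Y : Subgroup (GroupLike k B)) : MonoidAlgebra k Y →ₐc[k] B :=
  BialgHom.ofAlgHom (MonoidAlgebra.lift k B Y ((GroupLike.valMonoidHom (R := k) (A := B)).comp Y.subtype))
    (by
      ext y
      simp)
    (by
      ext y
      simp)

theorem jMap_single (Y : Subgroup (GroupLike k B)) (y : Y) : jMap Y (MonoidAlgebra.single y 1) = y.1.val := by
  change MonoidAlgebra.lift k B Y _ _ = _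
  simp

theorem jMap_injective (Y : Subgroup (GroupLike k B)) : Function.Injective (jMap Y) := by
  have h1 : LinearIndependent k (fun y : Y => y.1.val) :=
    (linearIndep_groupLikeVal (R := k) (A := B)).comp _ Subtype.val_injective
  intro a b hab
  have h2 : ∀ a : MonoidAlgebra k Y, jMap Y a = Finsupp.linearCombination k (fun y : Y => y.1.val) a.coeff := by
    intro a
    induction a using MonoidAlgebra.induction_linear with
    | zero => simp
    | add f g hf hg => rw [map_add, hf, hg, MonoidAlgebra.coeff_add, map_add]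
    | single y r =>
      have : (MonoidAlgebra.single y r : MonoidAlgebra k Y) = r • MonoidAlgebra.single y 1 := by
        rw [MonoidAlgebra.smul_single, smul_eq_mul, mul_one]
      rw [this, map_smul, jMap_single, MonoidAlgebra.coeff_smul, map_smul, MonoidAlgebra.coeff_single]
      rw [Finsupp.linearCombination_single, one_smul]
  rw [h2, h2] at hab
  exact MonoidAlgebra.coeff_injective (h1 hab)

/-- The ideal generated by `y - 1`. -/
def idl (Y : Subgroup (GroupLike k B)) : Ideal B := Ideal.span {b | ∃ y ∈ Y, b = y.val - 1}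

theorem idl_mono {Y Y' : Subgroup (GroupLike k B)} (h : Y ≤ Y') : idl Y ≤ idl Y' :=
  Ideal.span_mono (by rintro b ⟨y, hy, rfl⟩; exact ⟨y, h hy, rfl⟩)

theorem mem_of_sub_one_mem [Algebra.FiniteType k B] {Y Y' : Subgroup (GroupLike k B)} (h : Y ≤ Y')
    [Group.FG Y'] {x : GroupLike k B} (hx : x ∈ Y') (hm : x.val - 1 ∈ idl Y) : x ∈ Y := by
  classical
  have : Algebra.FiniteType k (MonoidAlgebra k Y') := MonoidAlgebra.finiteType_of_fg
  have hff := Groth.Agent.S0607.result (jMap Y') (jMap_injective Y')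
  let := ((jMap Y' : MonoidAlgebra k Y' →ₐ[k] B) : MonoidAlgebra k Y' →+* B).toAlgebra
  have hff' : Module.FaithfullyFlat (MonoidAlgebra k Y') B := hff
  let I₀ : Ideal (MonoidAlgebra k Y') := Ideal.span {a | ∃ y : Y', y.1 ∈ Y ∧ a = MonoidAlgebra.single y 1 - 1}
  have h1 : I₀.map (algebraMap (MonoidAlgebra k Y') B) = idl Y := by
    rw [Ideal.map_span]
    refine congrArg Ideal.span (Set.ext fun b => ⟨?_, ?_⟩)
    · rintro ⟨_, ⟨y, hy, rfl⟩, rfl⟩
      refine ⟨y.1, hy, ?_⟩
      change jMap Y' (MonoidAlgebra.single y 1 - 1) = _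
      rw [map_sub, jMap_single, map_one]
    · rintro ⟨y, hy, rfl⟩
      refine ⟨_, ⟨⟨y, h hy⟩, hy, rfl⟩, ?_⟩
      change jMap Y' (MonoidAlgebra.single _ 1 - 1) = _
      rw [map_sub, jMap_single, map_one]
  have h2 : (MonoidAlgebra.single (⟨x, hx⟩ : Y') 1 - 1 : MonoidAlgebra k Y') ∈ I₀ := by
    rw [← Ideal.comap_map_eq_self_of_faithfullyFlat (B := B) I₀, Ideal.mem_comap, h1]
    change jMap Y' (MonoidAlgebra.single _ 1 - 1) ∈ _
    rw [map_sub, jMap_single, map_one]
    exact hm
  let Z : Subgroup Y' := Y.subgroupOf Y'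
  let q : MonoidAlgebra k Y' →ₐ[k] MonoidAlgebra k (Y' ⧸ Z) := MonoidAlgebra.mapDomainAlgHom k k (QuotientGroup.mk' Z)
  have h3 : I₀ ≤ RingHom.ker q := by
    rw [Ideal.span_le]
    rintro _ ⟨y, hy, rfl⟩
    change q (MonoidAlgebra.single y 1 - 1) = 0
    rw [map_sub, map_one]
    change MonoidAlgebra.mapDomain _ (MonoidAlgebra.single y 1) - 1 = 0
    rw [MonoidAlgebra.mapDomain_single]
    have : QuotientGroup.mk' Z y = 1 := (QuotientGroup.eq_one_iff y).mpr hy
    rw [this]
    exact sub_self _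
  have h4 : q (MonoidAlgebra.single (⟨x, hx⟩ : Y') 1 - 1) = 0 := h3 h2
  rw [map_sub, map_one, sub_eq_zero] at h4
  change MonoidAlgebra.mapDomain _ (MonoidAlgebra.single _ 1) = 1 at h4
  rw [MonoidAlgebra.mapDomain_single, MonoidAlgebra.one_def] at h4
  have h5 : QuotientGroup.mk' Z (⟨x, hx⟩ : Y') = 1 := (MonoidAlgebra.single_left_inj one_ne_zero).mp h4
  exact (QuotientGroup.eq_one_iff (⟨x, hx⟩ : Y')).mp h5

/-- The group of group-like elements is finitely generated. -/
theorem fg [Algebra.FiniteType k B] : Group.FG (GroupLike k B) := by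
  have hN : IsNoetherianRing B := Algebra.FiniteType.isNoetherianRing k B
  let T : Set (Ideal B) := {I | ∃ Y : Subgroup (GroupLike k B), Y.FG ∧ I = idl Y}
  obtain ⟨I, ⟨Y, hY, rfl⟩, hmax⟩ := set_has_maximal_iff_noetherian.mpr hN T
    ⟨_, ⊥, ⟨∅, by simp⟩, rfl⟩
  refine ⟨?_⟩
  have : (⊤ : Subgroup (GroupLike k B)) = Y := by
    refine le_antisymm (fun x _ => ?_) le_top
    have h1 : (Y ⊔ Subgroup.zpowers x).FG := hY.sup ⟨{x}, by simp [Subgroup.zpowers_eq_closure]⟩
    have h2 : idl (Y ⊔ Subgroup.zpowers x) = idl Y := by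
      by_contra hne
      exact hmax _ ⟨_, h1, rfl⟩ (lt_of_le_of_ne (idl_mono le_sup_left) (Ne.symm hne))
    have h3 : x ∈ Y ⊔ Subgroup.zpowers x := (le_sup_right : Subgroup.zpowers x ≤ _) (Subgroup.mem_zpowers x)
    have : Group.FG ↥(Y ⊔ Subgroup.zpowers x) := (Group.fg_iff_subgroup_fg _).mpr h1
    refine mem_of_sub_one_mem (Y := Y) le_sup_left h3 ?_
    rw [← h2]
    exact Ideal.subset_span ⟨x, h3, rfl⟩
  rw [this]
  exact hY

end K778.GroupFG
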