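import Groth.Agent.GaDual.K771.HomEv
import Groth.Agent.AbSch.K453.Slice

/-! Lifting sections of the internal Hom can be tested on slices. -/

set_option autoImplicit false
universe u
open CategoryTheory AlgebraicGeometry Opposite

noncomputable section

namespace K778.HomSlice

open Groth.Agent.Etdl.H432.Sec K771.HomEv K453.Slice

variable {X : Scheme.{u}} {Y : Over X}

/-- An object over `Y` as an object over `X`. -/
abbrev dn (W : Over Y.left) : Over X := (Over.map Y.hom).obj W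

/-- The structure map. -/
abbrev dnY (W : Over Y.left) : dn W ⟶ Y := Over.homMk W.hom

/-- Restriction to the big site of `Y`. -/
abbrev rs (Y : Over X) (F : EtFppf.AbF X) : EtFppf.AbF Y.left := (restr Scheme.fppfPrecoverage Y).obj F

/-- Restriction of a section of the internal Hom. -/
def hs {F G : EtFppf.AbF X} (φ : Γs (hom F G) Y) : rs Y F ⟶ rs Y G :=
  (res Scheme.fppfPrecoverage Y).map (show F.over Y ⟶ G.over Y from φ)

/-- Sections over the slice. -/
def tx (F : EtFppf.AbF X) (W : Over Y.left) : Γs F (dn W) →+ Γs (rs Y F) W := AddMonoidHom.id (Γs F (dn W))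

/-- Sections over the slice. -/
def ty (F : EtFppf.AbF X) (W : Over Y.left) : Γs (rs Y F) W →+ Γs F (dn W) := AddMonoidHom.id (Γs F (dn W))

theorem tx_ty (F : EtFppf.AbF X) (W : Over Y.left) (x : Γs (rs Y F) W) : tx F W (ty F W x) = x := rfl

theorem ty_tx (F : EtFppf.AbF X) (W : Over Y.left) (x : Γs F (dn W)) : ty F W (tx F W x) = x := rfl

theorem ty_hs {F G : EtFppf.AbF X} (φ : Γs (hom F G) Y) (W : Over Y.left) (x : Γs (rs Y F) W) :
    ty G W (m (hs φ) W x) = ev φ (dnY W) (ty F W x) := rfl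

theorem ty_r {F : EtFppf.AbF X} {W W' : Over Y.left} (k : W' ⟶ W) (x : Γs (rs Y F) W) :
    ty F W' (r (rs Y F) k x) = r F ((Over.map Y.hom).map k) (ty F W x) := rfl

theorem tx_r {F : EtFppf.AbF X} {W W' : Over Y.left} (k : W' ⟶ W) (x : Γs F (dn W)) :
    tx F W' (r F ((Over.map Y.hom).map k) x) = r (rs Y F) k (tx F W x) := rfl

theorem ty_m {F G : EtFppf.AbF X} (φ : F ⟶ G) {W : Over Y.left} (x : Γs (rs Y F) W) :
    ty G W (m ((restr Scheme.fppfPrecoverage Y).map φ) W x) = m φ (dn W) (ty F W x) := rfl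

section up

variable {Z : Over Y.left} {W : Over X} (h : W ⟶ dn Z)

/-- The object over `Y`. -/
abbrev up : Over Y.left := Over.mk (h.left ≫ Z.hom)

/-- The map to `Z`. -/
abbrev upZ : up h ⟶ Z := Over.homMk h.left

theorem up_w : (h.left ≫ Z.hom) ≫ Y.hom = W.hom := by
  have := Over.w h
  change h.left ≫ Z.hom ≫ Y.hom = W.hom at this
  rw [Category.assoc, this]

/-- comparison -/
abbrev jd : dn (up h) ⟶ W := Over.homMk (𝟙 W.left) (by
  exact (Category.id_comp _).trans (up_w h).symm)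

/-- comparison -/
abbrev ju : W ⟶ dn (up h) := Over.homMk (𝟙 W.left) (by
  exact (Category.id_comp _).trans (up_w h))

theorem ju_jd : ju h ≫ jd h = 𝟙 W := by
  ext1
  exact Category.id_comp _

theorem jd_ju : jd h ≫ ju h = 𝟙 _ := by
  ext1
  exact Category.id_comp _

theorem ju_dnY : ju h ≫ dnY (up h) = h ≫ dnY Z := by
  ext1
  exact Category.id_comp _

end up

/-- Sections of the internal Hom from sections on the slice. -/
def desc {F I : EtFppf.AbF X} {Z : Over Y.left} (ψ : Γs (hom (rs Y F) (rs Y I)) Z) : Γs (hom F I) (dn Z) :=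
  mk (fun _ h => (r I (ju h)).comp ((ty I (up h)).comp ((ev ψ (upZ h)).comp ((tx F (up h)).comp (r F (jd h))))))
    (fun W W' h k x => by
    change r I k (r I (ju h) (ty I (up h) (ev ψ (upZ h) (tx F (up h) (r F (jd h) x))))) =
      r I (ju (k ≫ h)) (ty I _ (ev ψ (upZ (k ≫ h)) (tx F _ (r F (jd (k ≫ h)) (r F k x)))))
    let k' : up (k ≫ h) ⟶ up h := Over.homMk k.left (by
      change k.left ≫ h.left ≫ Z.hom = (k ≫ h).left ≫ Z.hom
      rw [Over.comp_left, Category.assoc])
    have e1 : k ≫ ju h = ju (k ≫ h) ≫ (Over.map Y.hom).map k' := by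
      ext1
      change k.left ≫ 𝟙 _ = 𝟙 _ ≫ k.left
      rw [Category.comp_id, Category.id_comp]
    have e2 : (Over.map Y.hom).map k' ≫ jd h = jd (k ≫ h) ≫ k := by
      ext1
      change k.left ≫ 𝟙 _ = 𝟙 _ ≫ k.left
      rw [Category.comp_id, Category.id_comp]
    have e3 : k' ≫ upZ h = upZ (k ≫ h) := by
      ext1
      rfl
    have h1 := ev_r' ψ (upZ h) k' (tx F (up h) (r F (jd h) x))
    rw [e3, ← tx_r, r_r, e2] at h1
    rw [r_r, e1, ← r_r, ← ty_r, h1, r_r])

theorem ev_desc {F I : EtFppf.AbF X} {Z : Over Y.left} (ψ : Γs (hom (rs Y F) (rs Y I)) Z) {W : Over X} (h : W ⟶ dn Z)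
    (x : Γs F W) : ev (desc ψ) h x = r I (ju h) (ty I (up h) (ev ψ (upZ h) (tx F (up h) (r F (jd h) x)))) := rfl

theorem m_desc {F I G : EtFppf.AbF X} (β : I ⟶ G) (φ : Γs (hom F G) Y) {Z : Over Y.left}
    (ψ : Γs (hom (rs Y F) (rs Y I)) Z)
    (hψ : ∀ (W : Over Y.left) (h : W ⟶ Z) (x : Γs (rs Y F) W),
      m ((restr Scheme.fppfPrecoverage Y).map β) W (ev ψ h x) = m (hs φ) W x) :
    m (HomSh.homShMap (EtFppf.J X) (𝟙 F) β) (dn Z) (desc ψ) = r (hom F G) (dnY Z) φ := by
  apply ev_ext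
  intro W h x
  rw [ev_map_right, ev_desc, ev_r, m_r, ← ty_m, hψ, ty_hs, ty_tx, ev_r', ju_dnY, r_r, ju_jd, r_id]

end K778.HomSlice
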