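import Groth.Agent.GmDual.K778.CharDict
import Groth.Agent.GaDual.K771.HomEv
import Groth.Agent.GaDual.K771.AffLocal

/-! Sections over affine test objects over an affine base: units as sections of `𝔾_m`, points of affine groups. -/

set_option autoImplicit false
universe u
open CategoryTheory MonoidalCategory CartesianMonoidalCategory MonObj GrpObj AlgebraicGeometry
open TensorProduct Opposite WithConv

noncomputable section

namespace K778.UnitSec

open Groth.Agent.Books.AffBridge Groth.Agent.Etdl.H432.Sec K778.CharDict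

variable {R : Type u} [CommRing R]

/-- `𝔾_m` as an fppf sheaf. -/
abbrev GM (X : Scheme.{u}) : EtFppf.AbF X := CGrpSh2.Gm Scheme.fppfPrecoverage X

/-- The sheaf of points. -/
abbrev PT {X : Scheme.{u}} (G : Over X) [GrpObj G] [IsCommMonObj G] : EtFppf.AbF X :=
  CGrpSh.pts Scheme.fppfPrecoverage G

section pts

variable {X : Scheme.{u}} {G : Over X} [GrpObj G] [IsCommMonObj G]

/-- A point as a section. -/
def ps {W : Over X} (x : W ⟶ G) : Γs (PT G) W := ULift.up (Additive.ofMul x)

/-- A section as a point. -/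
def sp {W : Over X} (x : Γs (PT G) W) : W ⟶ G := x.down.toMul

theorem ps_sp {W : Over X} (x : Γs (PT G) W) : ps (sp x) = x := rfl

theorem sp_ps {W : Over X} (x : W ⟶ G) : sp (ps x) = x := rfl

theorem ps_injective {W : Over X} : Function.Injective (ps : (W ⟶ G) → _) := fun x y h => by
  rw [← sp_ps x, h, sp_ps]

theorem ps_mul {W : Over X} (x y : W ⟶ G) : ps (x * y) = ps x + ps y := rfl

theorem ps_one {W : Over X} : ps (1 : W ⟶ G) = 0 := rfl

theorem sp_add {W : Over X} (x y : Γs (PT G) W) : sp (x + y) = sp x * sp y := rfl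

theorem sp_zero {W : Over X} : sp (0 : Γs (PT G) W) = 1 := rfl

theorem r_ps {W W' : Over X} (k : W' ⟶ W) (x : W ⟶ G) : r (PT G) k (ps x) = ps (k ≫ x) := rfl

theorem sp_r {W W' : Over X} (k : W' ⟶ W) (x : Γs (PT G) W) : sp (r (PT G) k x) = k ≫ sp x := rfl

end pts

section units

variable {B B' : Type u} [CommRing B] [Algebra R B] [CommRing B'] [Algebra R B']

/-- A unit as a section of `𝔾_m`. -/
def us (b : Bˣ) : Γs (GM (Bs R)) (SpecOver R B) := ps (gmE.symm b)

theorem us_mul (b b' : Bˣ) : us (R := R) (b * b') = us b + us b' := by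
  unfold us
  rw [map_mul, ps_mul]

theorem us_injective : Function.Injective (us (R := R) (B := B)) := fun _ _ h =>
  gmE.symm.injective (ps_injective h)

theorem us_surjective (s : Γs (GM (Bs R)) (SpecOver R B)) : ∃ b : Bˣ, us b = s :=
  ⟨gmE (sp s), by rw [us, MulEquiv.symm_apply_apply, ps_sp]⟩

theorem r_us (f : B →ₐ[R] B') (b : Bˣ) : r (GM (Bs R)) (specMap R f) (us b) = us (Units.map f.toMonoidHom b) := by
  rw [us, r_ps]
  refine congrArg ps ?_
  apply gmE_ext
  rw [gmE_nat, MulEquiv.apply_symm_apply, MulEquiv.apply_symm_apply]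
  rfl

end units

/-- Affine objects over an affine base. -/
theorem exists_iso_specOver (W : Over (Bs R)) [IsAffine W.left] : ∃ (B : Type u) (_ : CommRing B) (_ : Algebra R B),
    Nonempty (SpecOver R B ≅ W) := by
  obtain ⟨B, iB, jB, ⟨e⟩⟩ := Groth.Agent.Sga3B.AffTest.exists_iso_sp W
  exact ⟨B, iB, jB, ⟨e⟩⟩

/-- Sections agree if they agree on all `Spec B`. -/
theorem eq_of_spec (F : EtFppf.AbF (Bs R)) {T : Over (Bs R)} (s t : Γs F T)
    (h : ∀ (B : Type u) [CommRing B] [Algebra R B] (g : SpecOver R B ⟶ T), r F g s = r F g t) : s = t := by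
  refine K771.AffLocal.eq_of_affine F s t fun V g hV => ?_
  obtain ⟨B, iB, jB, ⟨e⟩⟩ := exists_iso_specOver V
  have h1 := h B (e.hom ≫ g)
  rw [← r_r, ← r_r] at h1
  have h2 := congrArg (r F e.inv) h1
  rwa [r_r, r_r, r_r, r_r, e.inv_hom_id, Category.id_comp] at h2

section prod

variable (A D : Type u) [CommRing A] [Algebra R A] [CommRing D] [Algebra R D]

/-- The product of two affine objects. -/
def θ : SpecOver R A ⊗ SpecOver R D ⟶ SpecOver R (A ⊗[R] D) :=
  Over.homMk (pullbackSpecIso R A D).hom (by
    change (pullbackSpecIso R A D).hom ≫ Spec.map (CommRingCat.ofHom (algebraMap R (A ⊗[R] D))) = _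
    rw [pullbackSpecIso_hom_base]
    rfl)

theorem θ_inl : θ (R := R) A D ≫ specMap R Algebra.TensorProduct.includeLeft = fst _ _ := by
  ext1
  exact pullbackSpecIso_hom_fst R A D

theorem θ_inr : θ (R := R) A D ≫ specMap R Algebra.TensorProduct.includeRight = snd _ _ := by
  ext1
  exact pullbackSpecIso_hom_snd R A D

variable {A D}

theorem lift_θ {B : Type u} [CommRing B] [Algebra R B] (f : A →ₐ[R] B) (t : D →ₐ[R] B) :
    CartesianMonoidalCategory.lift (specMap R f) (specMap R t) ≫ θ A D =
      specMap R (Algebra.TensorProduct.lift f t (fun _ _ => .all _ _)) := by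
  obtain ⟨u, hu⟩ := (specEquiv R).surjective (CartesianMonoidalCategory.lift (specMap R f) (specMap R t) ≫ θ A D)
  change specMap R u = _ at hu
  rw [← hu]
  congr 1
  apply Algebra.TensorProduct.ext
  · apply specMap_injective
    rw [specMap_comp, hu, Category.assoc, θ_inl, lift_fst]
    congr 1
    ext x
    simp
  · have h1 : specMap R (u.comp Algebra.TensorProduct.includeRight) = specMap R t := by
      rw [specMap_comp, hu, Category.assoc, θ_inr, lift_snd]
    have h2 := specMap_injective R h1
    ext x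
    have h3 := DFunLike.congr_fun h2 x
    simpa using h3

end prod

end K778.UnitSec
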