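import Groth.Agent.GmDual.K778.HomSlice
import Groth.Agent.GmDual.K778.DisjSh
import Groth.Agent.GmDual.K778.UnitSec
import Groth.Agent.AbSch.K453.ExtShLES
import Groth.Agent.GaDual.K771.RedExt

/-! `𝓔xt¹(F, G) = 0` if and only if morphisms to quotients by `G` lift locally, on all slices. -/

set_option autoImplicit false
universe u
open CategoryTheory CategoryTheory.Limits AlgebraicGeometry Opposite

noncomputable section

namespace K778.LocLift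

open Groth.Agent.Etdl.H432.Sec K771.HomEv K453.Slice K778.HomSlice K778.UnitSec

variable {X : Scheme.{u}}

/-- `φ : F ⟶ S.X₃` lifts to `S.X₂` on an fppf neighbourhood of `x`. -/
def LLg (S : ShortComplex (EtFppf.AbF X)) {F : EtFppf.AbF X} (φ : F ⟶ S.X₃) (x : X) : Prop :=
  ∃ (Z : Over X) (_ : Flat Z.hom) (_ : LocallyOfFinitePresentation Z.hom), x ∈ Set.range Z.hom ∧
    ∃ ψ : Γs (hom F S.X₂) Z, ∀ (W : Over X) (h : W ⟶ Z) (y : Γs F W), m S.g W (ev ψ h y) = m φ W y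

theorem LLg.mk' {S : ShortComplex (EtFppf.AbF X)} {F : EtFppf.AbF X} {φ : F ⟶ S.X₃} {x : X} {Z : Over X}
    (h1 : Flat Z.hom) (h2 : LocallyOfFinitePresentation Z.hom) (h3 : x ∈ Set.range Z.hom) (ψ : Γs (hom F S.X₂) Z)
    (hψ : m (HomSh.homShMap (EtFppf.J X) (𝟙 F) S.g) Z ψ = ofHom φ Z) : LLg S φ x := by
  refine ⟨Z, h1, h2, h3, ψ, fun W h y => ?_⟩
  have h4 := congrArg (fun q : Γs (hom F S.X₃) Z => ev q h y) hψ
  exact h4

theorem LLg.of_iso {S : ShortComplex (EtFppf.AbF X)} {F F' : EtFppf.AbF X} {φ : F ⟶ S.X₃} {x : X} (e : F' ≅ F)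
    (h : LLg S (e.hom ≫ φ) x) : LLg S φ x := by
  obtain ⟨Z, h1, h2, h3, ψ, hψ⟩ := h
  refine ⟨Z, h1, h2, h3, m (HomSh.homShMap (EtFppf.J X) e.inv (𝟙 _)) Z ψ, fun W h y => ?_⟩
  rw [ev_map_left, hψ, ← m_comp, e.inv_hom_id_assoc]

theorem LLg.of_iso' {S : ShortComplex (EtFppf.AbF X)} {F F' : EtFppf.AbF X} {φ : F' ⟶ S.X₃} {x : X} (e : F' ≅ F)
    (h : LLg S (e.inv ≫ φ) x) : LLg S φ x :=
  LLg.of_iso e.symm h

/-- Localisation on the base. -/
theorem LLg.of_slice {S : ShortComplex (EtFppf.AbF X)} {F : EtFppf.AbF X} {φ : F ⟶ S.X₃} (Y : Over X)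
    [Flat Y.hom] [LocallyOfFinitePresentation Y.hom] (y : Y.left)
    (h : LLg (S.map (restr Scheme.fppfPrecoverage Y)) ((restr Scheme.fppfPrecoverage Y).map φ) y) :
    LLg S φ (Y.hom y) := by
  obtain ⟨Z, h1, h2, ⟨z, hz⟩, ψ, hψ⟩ := h
  refine LLg.mk' (Z := dn Z) (inferInstanceAs (Flat (Z.hom ≫ Y.hom)))
    (inferInstanceAs (LocallyOfFinitePresentation (Z.hom ≫ Y.hom))) ⟨z, ?_⟩ (desc ψ) ?_
  · change (Z.hom ≫ Y.hom) z = _
    rw [Scheme.Hom.comp_apply, hz]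
  · exact m_desc S.g (ofHom φ Y) ψ hψ

/-- **Criterion**: local lifting on all slices implies `𝓔xt¹ = 0`. -/
theorem isZero_of_llg (F G : EtFppf.AbF X)
    (H : ∀ (Y : Over X) (S : ShortComplex (EtFppf.AbF Y.left)), S.ShortExact → Nonempty (S.X₁ ≅ rs Y G) →
      ∀ (φ : rs Y F ⟶ S.X₃) (y : Y.left), LLg S φ y) : IsZero ((HomSh.extSh (EtFppf.J X) F 1).obj G) := by
  let S : ShortComplex (EtFppf.AbF X) := ShortComplex.mk (Injective.ι G) (cokernel.π (Injective.ι G)) (cokernel.condition _)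
  have hS : S.ShortExact :=
    { exact := ShortComplex.exact_cokernel _
      mono_f := inferInstanceAs (Mono (Injective.ι G))
      epi_g := inferInstanceAs (Epi (cokernel.π (Injective.ι G))) }
  have hI : Injective S.X₂ := inferInstanceAs (Injective (Injective.under G))
  obtain ⟨δ, w₁, w₂, h1, h2⟩ := K453.ExtShLES.exists_δR (EtFppf.J X) F hS
  have hδ : Epi δ := K453.ExtShLES.epi_of_injective (EtFppf.J X) F S δ w₂ h2
  have hepi : Epi (HomSh.homShMap (EtFppf.J X) (𝟙 F) S.g) := by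
    rw [K453.SheafEx.epi_iff_locally]
    intro Y φ
    have h3 : ∀ y : Y.left, ∃ (Z : Over X) (f : Z ⟶ Y), Flat f.left ∧ LocallyOfFinitePresentation f.left ∧
        y ∈ Set.range f.left ∧ ∃ ψ : Γs (hom F S.X₂) Z, m (HomSh.homShMap (EtFppf.J X) (𝟙 F) S.g) Z ψ =
          r (hom F S.X₃) f φ := by
      intro y
      obtain ⟨Z, h1, h2, h3, ψ, hψ⟩ := H Y (S.map (restr Scheme.fppfPrecoverage Y)) (shortExact_restr _ Y hS)
        ⟨Iso.refl _⟩ (hs φ) y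
      exact ⟨dn Z, dnY Z, h1, h2, h3, desc ψ, m_desc S.g φ ψ hψ⟩
    choose Z f h4 h5 h6 h7 using h3
    have : ∀ y, Flat (f y).left := h4
    have : ∀ y, LocallyOfFinitePresentation (f y).left := h5
    refine ⟨_, K778.DisjSh.mem_J Z f (fun y => ⟨y, h6 y⟩), ?_⟩
    rintro V g ⟨_, a, b, ⟨y⟩, rfl⟩
    obtain ⟨ψ, hψ⟩ := h7 y
    refine ⟨r (hom F S.X₂) a ψ, ?_⟩
    have h8 : m (HomSh.homShMap (EtFppf.J X) (𝟙 F) S.g) V (r (hom F S.X₂) a ψ) = r (hom F S.X₃) (a ≫ f y) φ := by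
      rw [m_r, hψ, r_r]
    exact h8
  have hz : δ = 0 := by
    rw [← cancel_epi (HomSh.homShMap (EtFppf.J X) (𝟙 F) S.g), w₁, comp_zero]
  exact (IsZero.of_epi_eq_zero δ hz)

/-- The converse, globally. -/
theorem llg_of_isZero {F : EtFppf.AbF X} {S : ShortComplex (EtFppf.AbF X)} (hS : S.ShortExact)
    (h : IsZero ((HomSh.extSh (EtFppf.J X) F 1).obj S.X₁)) (φ : F ⟶ S.X₃) (x : X) : LLg S φ x := by
  obtain ⟨δ, w₁, w₂, h1, h2⟩ := K453.ExtShLES.exists_δR (EtFppf.J X) F hS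
  have hepi : Epi (HomSh.homShMap (EtFppf.J X) (𝟙 F) S.g) := h1.epi_f (h.eq_of_tgt _ _)
  obtain ⟨Z, f, ψ, h3, h4, h5, h6⟩ := exists_lift (HomSh.homShMap (EtFppf.J X) (𝟙 F) S.g) (ofHom φ (Over.mk (𝟙 X))) x
  have e : f.left = Z.hom := (Category.comp_id _).symm.trans (Over.w f)
  rw [e] at h3 h4 h5
  exact LLg.mk' h3 h4 h5 ψ h6

end K778.LocLift
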