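import Mathlib.LinearAlgebra.Charpoly.BaseChange
import Mathlib.RingTheory.IsTensorProduct
import Mathlib.RingTheory.Norm.Defs
import Mathlib.RingTheory.Norm.Basic
import Mathlib.Algebra.Category.Ring.Constructions
import Mathlib.RingTheory.Spectrum.Prime.FreeLocus
import Mathlib.RingTheory.Localization.Free
import Mathlib.RingTheory.Localization.BaseChange
import Mathlib.RingTheory.RingHom.Finite
import Mathlib.RingTheory.RingHom.Flat

/-! Norm of a finite free ring map, as a function of the ring map; base change along pushouts. -/

set_option autoImplicit false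
universe u
open CategoryTheory TensorProduct

namespace K778.NormAlg

/-- Norm and base change. -/
theorem norm_algebraMap_of_isPushout {A B A' B' : Type*} [CommRing A] [CommRing B] [CommRing A'] [CommRing B']
    [Algebra A B] [Algebra A A'] [Algebra A B'] [Algebra A' B'] [Algebra B B'] [IsScalarTower A B B']
    [IsScalarTower A A' B'] [Algebra.IsPushout A A' B B'] [Module.Free A B] [Module.Finite A B] (b : B) :
    Algebra.norm A' (algebraMap B B' b) = algebraMap A A' (Algebra.norm A b) := by
  rw [Algebra.norm_apply, Algebra.norm_apply, ← LinearMap.det_baseChange (A := A'),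
    ← LinearMap.det_conj ((Algebra.lmul A B b).baseChange A')
      (Algebra.IsPushout.equiv A A' B B').toLinearEquiv]
  congr 1
  ext x
  obtain ⟨y, rfl⟩ := (Algebra.IsPushout.equiv A A' B B').surjective x
  simp only [LinearMap.comp_apply, LinearEquiv.coe_coe, AlgEquiv.toLinearEquiv_apply]
  rw [show (Algebra.IsPushout.equiv A A' B B').toLinearEquiv.symm
    ((Algebra.IsPushout.equiv A A' B B') y) = y from
      (Algebra.IsPushout.equiv A A' B B').symm_apply_apply y]
  induction y using TensorProduct.induction_on with
  | zero => simp
  | add x y hx hy => rw [map_add, map_add, hx, hy, map_add, map_add]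
  | tmul a c =>
    simp [Algebra.IsPushout.equiv_tmul]
    ring

section Def

variable {A B : Type u} [CommRing A] [CommRing B]

/-- `φ` makes `B` a finite free `A`-module. -/
def FF (φ : A →+* B) : Prop := letI := φ.toAlgebra; Module.Free A B ∧ Module.Finite A B

/-- The norm along a ring map. -/
noncomputable def nm (φ : A →+* B) : B →* A := letI := φ.toAlgebra; Algebra.norm A

end Def

theorem nm_eq {A B : Type u} [CommRing A] [CommRing B] [Algebra A B] (φ : A →+* B)
    (h : ∀ a, algebraMap A B a = φ a) : nm φ = Algebra.norm A := by
  have : φ = algebraMap A B := RingHom.ext fun a => (h a).symm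
  subst this
  unfold nm
  congr
  exact Algebra.algebra_ext _ _ fun r => rfl

theorem ff_iff {A B : Type u} [CommRing A] [CommRing B] [Algebra A B] (φ : A →+* B)
    (h : ∀ a, algebraMap A B a = φ a) : FF φ ↔ Module.Free A B ∧ Module.Finite A B := by
  have : φ = algebraMap A B := RingHom.ext fun a => (h a).symm
  subst this
  unfold FF
  have : (algebraMap A B).toAlgebra = (inferInstance : Algebra A B) := Algebra.algebra_ext _ _ fun r => rfl
  rw [this]

section Pushout

variable {A B A' B' : CommRingCat.{u}} {φ : A ⟶ B} {α : A ⟶ A'} {β : B ⟶ B'} {φ' : A' ⟶ B'}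

theorem ff_of_isPushout (h : IsPushout φ α β φ') (hφ : FF φ.hom) : FF φ'.hom := by
  algebraize [φ.hom, α.hom, β.hom, φ'.hom, φ'.hom.comp α.hom]
  have e : algebraMap A B' = (algebraMap B B').comp (algebraMap A B) := by
    have := h.w
    exact congrArg (fun q => q.hom) this.symm
  have : IsScalarTower A B B' := IsScalarTower.of_algebraMap_eq fun a => congrArg (fun q : A →+* B' => q a) e
  have h' : Algebra.IsPushout A A' B B' := (CommRingCat.isPushout_iff_isPushout).mp h.flip
  obtain ⟨h1, h2⟩ := hφ
  have h1 : Module.Free A B := h1
  have h2 : Module.Finite A B := h2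
  exact ⟨Module.Free.of_equiv (Algebra.IsPushout.equiv A A' B B').toLinearEquiv,
    Module.Finite.equiv (Algebra.IsPushout.equiv A A' B B').toLinearEquiv⟩

theorem nm_of_isPushout (h : IsPushout φ α β φ') (hφ : FF φ.hom) (b : B) :
    nm φ'.hom (β.hom b) = α.hom (nm φ.hom b) := by
  algebraize [φ.hom, α.hom, β.hom, φ'.hom, φ'.hom.comp α.hom]
  have e : algebraMap A B' = (algebraMap B B').comp (algebraMap A B) := by
    have := h.w
    exact congrArg (fun q => q.hom) this.symm
  have : IsScalarTower A B B' := IsScalarTower.of_algebraMap_eq fun a => congrArg (fun q : A →+* B' => q a) e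
  have h' : Algebra.IsPushout A A' B B' := (CommRingCat.isPushout_iff_isPushout).mp h.flip
  obtain ⟨h1, h2⟩ := hφ
  have h1 : Module.Free A B := h1
  have h2 : Module.Finite A B := h2
  exact norm_algebraMap_of_isPushout b

end Pushout

theorem free_baseChange_of_away {A B A' : Type*} [CommRing A] [CommRing B] [CommRing A'] [Algebra A B]
    [Algebra A A'] (r : A) (hr : IsUnit (algebraMap A A' r))
    (h : Module.Free (Localization (Submonoid.powers r)) (LocalizedModule.Away r B)) :
    Module.Free A' (A' ⊗[A] B) := by
  letI : Algebra (Localization (Submonoid.powers r)) A' :=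
    (IsLocalization.Away.lift (S := Localization (Submonoid.powers r)) r hr).toAlgebra
  haveI : IsScalarTower A (Localization (Submonoid.powers r)) A' :=
    IsScalarTower.of_algebraMap_eq (fun a => (IsLocalization.Away.lift_eq _ _ _).symm)
  have e1 := LocalizedModule.equivTensorProduct (Submonoid.powers r) B
  have : Module.Free (Localization (Submonoid.powers r)) (Localization (Submonoid.powers r) ⊗[A] B) :=
    Module.Free.of_equiv e1
  exact Module.Free.of_equiv
    (AlgebraTensorModule.cancelBaseChange A (Localization (Submonoid.powers r)) A' A' B)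

/-- A finite flat algebra over a Noetherian ring is free near each prime. -/
theorem exists_away {A B : Type u} [CommRing A] [CommRing B] [IsNoetherianRing A] (φ : A →+* B)
    (h1 : φ.Finite) (h2 : φ.Flat) (p : Ideal A) [p.IsPrime] :
    ∃ r, r ∉ p ∧ letI := φ.toAlgebra; Module.Free (Localization (Submonoid.powers r)) (LocalizedModule.Away r B) := by
  algebraize [φ]
  have : Module.Finite A B := h1
  have : Module.Flat A B := h2
  have hfp : Module.FinitePresentation A B := Module.finitePresentation_of_finite A B
  have hfree : Module.Free (Localization.AtPrime p) (LocalizedModule p.primeCompl B) := by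
    have : (⟨p, inferInstance⟩ : PrimeSpectrum A) ∈ Module.freeLocus A B := by
      rw [Module.freeLocus_eq_univ]; trivial
    exact this
  obtain ⟨r, hr, h, -⟩ := Module.FinitePresentation.exists_free_localizedModule_powers p.primeCompl
    (LocalizedModule.mkLinearMap p.primeCompl B) (Localization.AtPrime p)
  exact ⟨r, hr, h⟩

theorem ff_of_isPushout_away {A B A' B' : CommRingCat.{u}} {φ : A ⟶ B} {α : A ⟶ A'} {β : B ⟶ B'} {φ' : A' ⟶ B'}
    (h : IsPushout φ α β φ') (hφ : φ.hom.Finite) (r : A) (hr : IsUnit (α.hom r))
    (hfree : letI := φ.hom.toAlgebra; Module.Free (Localization (Submonoid.powers r)) (LocalizedModule.Away r B)) :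
    FF φ'.hom := by
  algebraize [φ.hom, α.hom, β.hom, φ'.hom, φ'.hom.comp α.hom]
  have e : algebraMap A B' = (algebraMap B B').comp (algebraMap A B) := by
    have := h.w
    exact congrArg (fun q => q.hom) this.symm
  have : IsScalarTower A B B' := IsScalarTower.of_algebraMap_eq fun a => congrArg (fun q : A →+* B' => q a) e
  have h' : Algebra.IsPushout A A' B B' := (CommRingCat.isPushout_iff_isPushout).mp h.flip
  have h1 : Module.Free A' (A' ⊗[A] B) := free_baseChange_of_away r hr hfree
  have h2 : Module.Finite A B := hφ
  exact ⟨Module.Free.of_equiv (Algebra.IsPushout.equiv A A' B B').toLinearEquiv,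
    Module.Finite.equiv (Algebra.IsPushout.equiv A A' B B').toLinearEquiv⟩

end K778.NormAlg
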