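import Groth.Agent.GmDual.K778.NormSch
import Groth.Prelude.Def_GmPts

/-! The norm map of a finite flat morphism of Noetherian schemes on the multiplicative group. -/

set_option autoImplicit false
universe u
open CategoryTheory CategoryTheory.Limits AlgebraicGeometry TopologicalSpace Opposite MonObj MonoidalCategory
  CartesianMonoidalCategory

namespace K778.NormMap

open K778.NormAlg K778.NormSch CGrpSh3

variable (K : Precoverage Scheme.{u}) {X X' : Scheme.{u}} (f : X' ⟶ X)
  [(QuotSh.J K X).Subcanonical] [(QuotSh.J K X').Subcanonical]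

theorem normPt_comp (N : pushGm K f ⟶ CGrpSh2.Gm K X) {V T : Over X} (g : V ⟶ T)
    (t' : (Over.pullback f).obj T ⟶ Red.Gm X') :
    g ≫ normPt K f N T t' = normPt K f N V ((Over.pullback f).map g ≫ t') := by
  have h := N.hom.naturality g.op
  have h2 := ConcreteCategory.congr_hom h (ULift.up (Additive.ofMul t'))
  exact (congrArg (fun z => z.down.toMul) h2).symm

theorem isNm_of_isNormMap (N : pushGm K f ⟶ CGrpSh2.Gm K X) (hN : IsNormMap K f N) (T : Over X)
    (t' : (Over.pullback f).obj T ⟶ Red.Gm X') :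
    IsNm f T (Red.gmFn t') (Red.gmFn (normPt K f N T t')) := by
  intro V g hV
  have := hV.1
  rw [← GmPts.gmFn_comp, normPt_comp]
  let _ : Algebra Γ(V.left, ⊤) Γ(((Over.pullback f).obj V).left, ⊤) := (pr f V).appTop.hom.toAlgebra
  obtain ⟨h1, h2⟩ := (ff_iff (A := Γ(V.left, ⊤)) (B := Γ(((Over.pullback f).obj V).left, ⊤))
    (pr f V).appTop.hom (fun _ => rfl)).mp hV.2
  rw [hN V (fun _ => rfl), nm_eq (A := Γ(V.left, ⊤)) (B := Γ(((Over.pullback f).obj V).left, ⊤))
    (pr f V).appTop.hom (fun _ => rfl), GmPts.gmFn_comp]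

variable [IsLocallyNoetherian X] [IsFinite f] [Flat f]

theorem unique (N N' : pushGm K f ⟶ CGrpSh2.Gm K X) (hN : IsNormMap K f N) (hN' : IsNormMap K f N') :
    N = N' := by
  refine Sheaf.hom_ext (NatTrans.ext (funext fun T => AddCommGrpCat.ext fun x => ?_))
  apply ULift.ext
  change (normPt K f N (unop T) x.down.toMul) = (normPt K f N' (unop T) x.down.toMul)
  exact GmPts.gmFn_injective (IsNm.unique f (isNm_of_isNormMap K f N hN _ _) (isNm_of_isNormMap K f N' hN' _ _))

/-- The norm of points. -/
noncomputable def nPt (T : Over X) : ((Over.pullback f).obj T ⟶ Red.Gm X') →* (T ⟶ Red.Gm X) :=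
  (GmPts.equiv T).symm.toMonoidHom.comp ((Units.map (NHom f T)).comp (GmPts.equiv _).toMonoidHom)

theorem gmFn_nPt (T : Over X) (t' : (Over.pullback f).obj T ⟶ Red.Gm X') :
    Red.gmFn (nPt f T t') = N f T (Red.gmFn t') := GmPts.gmFn_ptOfUnit _

theorem nPt_comp {V T : Over X} (g : V ⟶ T) (t' : (Over.pullback f).obj T ⟶ Red.Gm X') :
    nPt f V ((Over.pullback f).map g ≫ t') = g ≫ nPt f T t' := by
  apply GmPts.gmFn_injective
  change Red.gmFn _ = Red.gmFn _
  rw [gmFn_nPt, GmPts.gmFn_comp, GmPts.gmFn_comp, gmFn_nPt, N_map]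

/-- The norm map. -/
noncomputable def norm : pushGm K f ⟶ CGrpSh2.Gm K X :=
  ⟨{ app := fun T => AddCommGrpCat.ofHom
      { toFun := fun x => ULift.up (Additive.ofMul (nPt f (unop T) x.down.toMul))
        map_zero' := by
          apply ULift.ext
          change Additive.ofMul (nPt f (unop T) 1) = 0
          rw [map_one]; rfl
        map_add' := fun x y => by
          apply ULift.ext
          change Additive.ofMul (nPt f (unop T) (x.down.toMul * y.down.toMul)) = _
          rw [map_mul]; rfl }
     naturality := fun T T' g => AddCommGrpCat.ext fun x => ULift.ext _ _ (by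
      exact congrArg Additive.ofMul (nPt_comp f g.unop x.down.toMul)) }⟩

theorem isNormMap_norm : IsNormMap K f (norm K f) := by
  intro T _ _ _ _ h t'
  have h1 : Red.gmFn (normPt K f (norm K f) T t') = N f T (Red.gmFn t') := gmFn_nPt f T t'
  have hg : Good f T := ⟨inferInstance, (ff_iff _ h).mpr ⟨inferInstance, inferInstance⟩⟩
  rw [h1, N_of_good f hg, nm_eq _ h]

end K778.NormMap
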