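import Groth.Agent.GmDual.K778.NormAlg
import Groth.Prelude.Def_CGrpSh3
import Mathlib.AlgebraicGeometry.Morphisms.Affine
import Mathlib.AlgebraicGeometry.Morphisms.Finite
import Mathlib.AlgebraicGeometry.Morphisms.Flat
import Mathlib.AlgebraicGeometry.Noetherian

/-! Norm of functions along base changes of a finite flat morphism of Noetherian schemes. -/

set_option autoImplicit false
universe u
open CategoryTheory CategoryTheory.Limits AlgebraicGeometry TopologicalSpace Opposite

namespace K778.NormSch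

open K778.NormAlg

/-! ### gluing of functions -/

theorem mm {T : Scheme.{u}} {A B C : (T.Opens)ᵒᵖ} (p : A ⟶ B) (q : B ⟶ C) (r : A ⟶ C) (x : T.presheaf.obj A) :
    T.presheaf.map q (T.presheaf.map p x) = T.presheaf.map r x := by
  rw [Subsingleton.elim r (p ≫ q), T.presheaf.map_comp]
  rfl

theorem mm_id {T : Scheme.{u}} {A : (T.Opens)ᵒᵖ} (p : A ⟶ A) (x : T.presheaf.obj A) :
    T.presheaf.map p x = x := by
  rw [Subsingleton.elim p (𝟙 A), T.presheaf.map_id]
  rfl

theorem glue_appTop (T : Scheme.{u}) {ι : Type*} (U : ι → T.Opens) (hU : ⊤ ≤ ⨆ i, U i)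
    (s : ∀ i, Γ((U i).toScheme, ⊤))
    (h : ∀ i j, (T.homOfLE (inf_le_left : U i ⊓ U j ≤ U i)).appTop (s i) =
      (T.homOfLE (inf_le_right : U i ⊓ U j ≤ U j)).appTop (s j)) :
    ∃ t : Γ(T, ⊤), ∀ i, (U i).ι.appTop t = s i := by
  have e (i : ι) : (U i).ι ''ᵁ ⊤ = U i := (U i).ι_image_top
  obtain ⟨t, ht⟩ := (TopCat.Sheaf.existsUnique_gluing' T.sheaf U ⊤
    (fun i => homOfLE le_top) hU (fun i => T.presheaf.map (homOfLE (e i).ge).op (s i)) (fun i j => by
      have h1 := h i j
      rw [Scheme.homOfLE_appTop, Scheme.homOfLE_appTop] at h1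
      have e' : U i ⊓ U j ≤ (U i ⊓ U j).ι ''ᵁ ⊤ := ((U i ⊓ U j).ι_image_top).ge
      have h2 := congrArg (fun x => T.presheaf.map (homOfLE e').op x) h1
      have hl := (mm (T := T) (homOfLE (e i).ge).op (Opens.infLELeft (U i) (U j)).op
        (homOfLE (inf_le_left.trans (e i).ge)).op (s i))
      have hr := (mm (T := T) (homOfLE (e j).ge).op (Opens.infLERight (U i) (U j)).op
        (homOfLE (inf_le_right.trans (e j).ge)).op (s j))
      exact hl.trans (((mm _ _ _ _).symm.trans (h2.trans (mm _ _ _ _))).trans hr.symm))).exists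
  refine ⟨t, fun i => ?_⟩
  have h2 := congrArg (fun x => T.presheaf.map (homOfLE (e i).le).op x) (ht i)
  rw [Scheme.Opens.ι_appTop]
  exact ((mm _ _ _ _).symm.trans h2).trans ((mm _ _ (𝟙 _) _).trans (mm_id _ _))

theorem ext_appTop (T : Scheme.{u}) {ι : Type*} (U : ι → T.Opens) (hU : ⊤ ≤ ⨆ i, U i)
    (s t : Γ(T, ⊤)) (h : ∀ i, (U i).ι.appTop s = (U i).ι.appTop t) : s = t := by
  refine TopCat.Sheaf.eq_of_locally_eq' T.sheaf U ⊤ (fun i => homOfLE le_top) hU s t fun i => ?_
  have e : U i ≤ (U i).ι ''ᵁ ⊤ := (U i).ι_image_top.ge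
  have h1 := congrArg (fun x => T.presheaf.map (homOfLE e).op x) (h i)
  rw [Scheme.Opens.ι_appTop] at h1
  exact (mm _ _ _ _).symm.trans (h1.trans (mm _ _ _ _))

variable {X X' : Scheme.{u}} (f : X' ⟶ X)

/-- The projection `T ×_X X' ⟶ T`. -/
noncomputable abbrev pr (T : Over X) : ((Over.pullback f).obj T).left ⟶ T.left := pullback.fst T.hom f

theorem isPullback_map {V T : Over X} (g : V ⟶ T) :
    IsPullback ((Over.pullback f).map g).left (pr f V) (pr f T) g.left := by
  refine IsPullback.of_right (h₁₂ := pullback.snd T.hom f) (v₁₃ := f) (h₂₂ := T.hom) ?_ ?_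
    (IsPullback.of_hasPullback T.hom f).flip
  · have e1 : ((Over.pullback f).map g).left ≫ pullback.snd T.hom f = pullback.snd V.hom f := by
      dsimp only [Over.pullback]
      exact pullback.lift_snd _ _ _
    rw [e1, Over.w]
    exact (IsPullback.of_hasPullback V.hom f).flip
  · dsimp only [Over.pullback]
    exact pullback.lift_fst _ _ _

theorem isPullback_map' {V T : Over X} (g : V ⟶ T) :
    IsPullback (pr f V) ((Over.pullback f).map g).left g.left (pr f T) := (isPullback_map f g).flip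

/-- The affine test objects over which `X'` is finite free. -/
def Good (T : Over X) : Prop := IsAffine T.left ∧ FF (pr f T).appTop.hom

/-- The relation: `a` is the norm of `b`. -/
def IsNm (T : Over X) (b : Γ(((Over.pullback f).obj T).left, ⊤)) (a : Γ(T.left, ⊤)) : Prop :=
  ∀ (V : Over X) (g : V ⟶ T), Good f V →
    g.left.appTop a = nm (pr f V).appTop.hom (((Over.pullback f).map g).left.appTop b)

theorem comp_appTop_apply {A B C : Scheme.{u}} (a : A ⟶ B) (b : B ⟶ C) (x : Γ(C, ⊤)) :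
    (a ≫ b).appTop x = a.appTop (b.appTop x) := by
  rw [Scheme.Hom.comp_appTop]; rfl

theorem IsNm.map {V T : Over X} (g : V ⟶ T) {b : Γ(((Over.pullback f).obj T).left, ⊤)} {a : Γ(T.left, ⊤)}
    (h : IsNm f T b a) : IsNm f V (((Over.pullback f).map g).left.appTop b) (g.left.appTop a) := by
  intro U k hU
  have := h U (k ≫ g) hU
  rw [Over.comp_left, comp_appTop_apply, Functor.map_comp, Over.comp_left, comp_appTop_apply] at this
  exact this

section Affine

variable [IsAffineHom f]

theorem isPushout_map {V T : Over X} (g : V ⟶ T) [IsAffine V.left] [IsAffine T.left] :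
    IsPushout (pr f T).appTop g.left.appTop ((Over.pullback f).map g).left.appTop (pr f V).appTop := by
  have : IsAffineHom (pullback.fst T.hom f) := inferInstance
  have : IsAffine ((Over.pullback f).obj T).left := isAffine_of_isAffineHom (pullback.fst T.hom f)
  exact isPushout_appTop_of_isPullback (isPullback_map f g)

theorem Good.of_map {V T : Over X} (g : V ⟶ T) [IsAffine V.left] (hT : Good f T) : Good f V := by
  have := hT.1
  exact ⟨inferInstance, ff_of_isPushout (isPushout_map f g) hT.2⟩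

theorem nm_map {V T : Over X} (g : V ⟶ T) [IsAffine V.left] (hT : Good f T)
    (b : Γ(((Over.pullback f).obj T).left, ⊤)) :
    nm (pr f V).appTop.hom (((Over.pullback f).map g).left.appTop b) =
      g.left.appTop (nm (pr f T).appTop.hom b) := by
  have := hT.1
  exact nm_of_isPushout (isPushout_map f g) hT.2 b

theorem isNm_of_good {T : Over X} (hT : Good f T) (b : Γ(((Over.pullback f).obj T).left, ⊤)) :
    IsNm f T b (nm (pr f T).appTop.hom b) := by
  intro V g hV
  have := hV.1
  exact (nm_map f g hT b).symm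

end Affine

/-- The morphism `V ⟶ T` over `X` given by an open of `T`. -/
noncomputable abbrev opn {T : Over X} (V : T.left.Opens) : Over X := Over.mk (V.ι ≫ T.hom)

noncomputable abbrev opnι {T : Over X} (V : T.left.Opens) : opn V ⟶ T := Over.homMk V.ι

section Cover

variable [IsLocallyNoetherian X] [IsFinite f] [Flat f]

theorem exists_affine {Z : Scheme.{u}} (z : Z) (O : Z.Opens) (hz : z ∈ O) :
    ∃ U : Z.Opens, IsAffineOpen U ∧ z ∈ U ∧ U ≤ O := by
  obtain ⟨_, ⟨U, hU, rfl⟩, hx, hUW⟩ := (Z.isBasis_affineOpens).exists_subset_of_mem_open hz O.2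
  exact ⟨U, hU, hx, hUW⟩

theorem exists_good_base (x : X) : ∃ T : Over X, Good f T ∧ IsOpenImmersion T.hom ∧ x ∈ Set.range T.hom := by
  obtain ⟨W0, hW0, hx, -⟩ := exists_affine (Z := X) x ⊤ trivial
  let T0 : Over X := Over.mk W0.ι
  have hT0 : IsAffine T0.left := hW0
  have hN : IsNoetherianRing Γ(T0.left, ⊤) := by
    have h := IsLocallyNoetherian.component_noetherian (X := X) ⟨W0, hW0⟩
    exact isNoetherianRing_of_ringEquiv _ (W0.topIso.symm.commRingCatIsoToRingEquiv)
  have hfin : (pr f T0).appTop.hom.Finite := by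
    have : IsFinite (pullback.fst T0.hom f) := inferInstance
    exact Scheme.Hom.finite_appTop (pullback.fst T0.hom f)
  have haff : IsAffine ((Over.pullback f).obj T0).left := isAffine_of_isAffineHom (pullback.fst T0.hom f)
  have hflat : (pr f T0).appTop.hom.Flat := by
    have : Flat (pullback.fst T0.hom f) := inferInstance
    have : IsAffine (pullback T0.hom f) := haff
    exact Scheme.Hom.flat_appTop (pullback.fst T0.hom f)
  let x0 : T0.left := (⟨x, hx⟩ : W0)
  let p : Ideal Γ(T0.left, ⊤) := (IsLocalRing.maximalIdeal (T0.left.presheaf.stalk x0)).comap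
    (T0.left.presheaf.germ ⊤ x0 trivial).hom
  have hp : p.IsPrime := Ideal.IsPrime.comap _
  obtain ⟨r, hr, hfree⟩ := exists_away (pr f T0).appTop.hom hfin hflat p
  let V : T0.left.Opens := T0.left.basicOpen r
  have hxV : x0 ∈ V := by
    rw [Scheme.mem_basicOpen_top]
    by_contra hcon
    exact hr ((IsLocalRing.mem_maximalIdeal _).mpr hcon)
  have hV : IsAffineOpen V := (isAffineOpen_top T0.left).basicOpen r
  have hVa : IsAffine (opn V).left := hV
  refine ⟨opn V, ⟨hVa, ff_of_isPushout_away (isPushout_map f (opnι V)) hfin r ?_ hfree⟩, ?_, ?_⟩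
  · change IsUnit (V.ι.appTop r)
    have h0 : V.ι ''ᵁ ⊤ ≤ T0.left.basicOpen r := V.ι_image_top.le
    have h1 := T0.left.toRingedSpace.isUnit_res_basicOpen (U := ⊤) r
    have h2 := h1.map (T0.left.presheaf.map (homOfLE h0).op).hom
    rw [Scheme.Opens.ι_appTop]
    have h3 := mm (T := T0.left) (homOfLE (le_top : T0.left.basicOpen r ≤ ⊤)).op (homOfLE h0).op
      (homOfLE (le_top : V.ι ''ᵁ ⊤ ≤ ⊤)).op r
    exact (h3 ▸ h2 : IsUnit (T0.left.presheaf.map (homOfLE (le_top : V.ι ''ᵁ ⊤ ≤ ⊤)).op r))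
  · have : IsOpenImmersion (V.ι ≫ W0.ι) := inferInstance
    exact this
  · exact ⟨⟨x0, hxV⟩, rfl⟩

theorem exists_good (T : Over X) (t : T.left) : ∃ U : T.left.Opens, t ∈ U ∧ Good f (opn U) := by
  obtain ⟨T1, hT1, himm, y, hy⟩ := exists_good_base f (T.hom t)
  let W : X.Opens := T1.hom.opensRange
  obtain ⟨U, hU, hx, hUW⟩ := exists_affine (Z := T.left) t (T.hom ⁻¹ᵁ W) ⟨y, hy⟩
  have hUa : IsAffine (opn U).left := hU
  refine ⟨U, hx, ?_⟩
  have hr : Set.range (U.ι ≫ T.hom) ⊆ Set.range T1.hom := by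
    rintro _ ⟨z, rfl⟩
    exact hUW z.2
  exact Good.of_map f (Over.homMk (IsOpenImmersion.lift T1.hom (U.ι ≫ T.hom) hr)
    (IsOpenImmersion.lift_fac _ _ _) : opn U ⟶ T1) hT1

theorem IsNm.unique {T : Over X} {b : Γ(((Over.pullback f).obj T).left, ⊤)} {a a' : Γ(T.left, ⊤)}
    (h : IsNm f T b a) (h' : IsNm f T b a') : a = a' := by
  choose U hU hg using exists_good f T
  refine ext_appTop T.left U (fun t _ => Opens.mem_iSup.mpr ⟨t, hU t⟩) a a' fun t => ?_
  exact (h (opn (U t)) (opnι (U t)) (hg t)).trans (h' (opn (U t)) (opnι (U t)) (hg t)).symm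

omit [IsLocallyNoetherian X] [Flat f] in
theorem isNm_of_local {T : Over X} {b : Γ(((Over.pullback f).obj T).left, ⊤)} {a : Γ(T.left, ⊤)}
    {ι : Type*} (U : ι → T.left.Opens) (hU : ⊤ ≤ ⨆ i, U i)
    (h : ∀ i, IsNm f (opn (U i)) (((Over.pullback f).map (opnι (U i))).left.appTop b) ((U i).ι.appTop a)) :
    IsNm f T b a := by
  intro V g hV
  have hVa := hV.1
  have key : ∀ (Y : Over X) (m : Y ⟶ T) (hY : Good f Y) (i : ι) (hi : Set.range m.left ⊆ U i),
      m.left.appTop a = nm (pr f Y).appTop.hom (((Over.pullback f).map m).left.appTop b) := by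
    intro Y m hY i hi
    have hr : Set.range m.left ⊆ Set.range (U i).ι := by simpa using hi
    let m' : Y ⟶ opn (U i) := Over.homMk (IsOpenImmersion.lift (U i).ι m.left hr) (by
      change IsOpenImmersion.lift (U i).ι m.left hr ≫ (U i).ι ≫ T.hom = Y.hom
      rw [IsOpenImmersion.lift_fac_assoc, Over.w])
    have hm : m' ≫ opnι (U i) = m := by
      ext1
      exact IsOpenImmersion.lift_fac _ _ _
    have h1 := h i Y m' hY
    rw [← comp_appTop_apply, ← comp_appTop_apply, ← Over.comp_left, ← Functor.map_comp, hm] at h1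
    rw [← h1, ← hm]
    rfl
  have hex : ∀ v : V.left, ∃ Z : V.left.Opens, IsAffineOpen Z ∧ v ∈ Z ∧ ∃ i, Z ≤ g.left ⁻¹ᵁ (U i) := by
    intro v
    obtain ⟨i, hi⟩ := Opens.mem_iSup.mp (hU (show g.left v ∈ (⊤ : T.left.Opens) from trivial))
    obtain ⟨Z, hZ, hv, hle⟩ := exists_affine v (g.left ⁻¹ᵁ (U i)) hi
    exact ⟨Z, hZ, hv, i, hle⟩
  choose Z hZ hv i hle using hex
  refine ext_appTop V.left Z (fun v _ => Opens.mem_iSup.mpr ⟨v, hv v⟩) _ _ fun v => ?_
  have hZa : IsAffine (opn (Z v)).left := hZ v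
  have h1 := key (opn (Z v)) (opnι (Z v) ≫ g) (Good.of_map f (opnι (Z v)) hV) (i v) (by
    rintro _ ⟨z, rfl⟩
    exact hle v z.2)
  rw [Over.comp_left, comp_appTop_apply, Functor.map_comp, Over.comp_left, comp_appTop_apply,
    nm_map f (opnι (Z v)) hV] at h1
  exact h1

theorem exists_isNm (T : Over X) (b : Γ(((Over.pullback f).obj T).left, ⊤)) : ∃ a, IsNm f T b a := by
  choose U hU hg using exists_good f T
  have hc : ⊤ ≤ ⨆ t, U t := fun t _ => Opens.mem_iSup.mpr ⟨t, hU t⟩
  let s : ∀ t, Γ((U t).toScheme, ⊤) := fun t =>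
    nm (pr f (opn (U t))).appTop.hom (((Over.pullback f).map (opnι (U t))).left.appTop b)
  have hs : ∀ t, IsNm f (opn (U t)) (((Over.pullback f).map (opnι (U t))).left.appTop b) (s t) :=
    fun t => isNm_of_good f (hg t) _
  obtain ⟨a, ha⟩ := glue_appTop T.left U hc s (fun t t' => by
    let W : Over X := opn (U t ⊓ U t')
    let g₁ : W ⟶ opn (U t) := Over.homMk (T.left.homOfLE (inf_le_left : U t ⊓ U t' ≤ U t))
      (Scheme.homOfLE_ι_assoc _ _ _)
    let g₂ : W ⟶ opn (U t') := Over.homMk (T.left.homOfLE (inf_le_right : U t ⊓ U t' ≤ U t'))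
      (Scheme.homOfLE_ι_assoc _ _ _)
    have e₁ : g₁ ≫ opnι (U t) = opnι (U t ⊓ U t') := by
      ext1; exact Scheme.homOfLE_ι _ (inf_le_left : U t ⊓ U t' ≤ U t)
    have e₂ : g₂ ≫ opnι (U t') = opnι (U t ⊓ U t') := by
      ext1; exact Scheme.homOfLE_ι _ (inf_le_right : U t ⊓ U t' ≤ U t')
    have h₁ := (hs t).map f g₁
    have h₂ := (hs t').map f g₂
    rw [← comp_appTop_apply, ← Over.comp_left, ← Functor.map_comp, e₁] at h₁
    rw [← comp_appTop_apply, ← Over.comp_left, ← Functor.map_comp, e₂] at h₂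
    exact IsNm.unique f h₁ h₂)
  refine ⟨a, isNm_of_local f U hc fun t => ?_⟩
  rw [ha t]
  exact hs t

/-- The norm of functions along `T ×_X X' ⟶ T`. -/
noncomputable def N (T : Over X) (b : Γ(((Over.pullback f).obj T).left, ⊤)) : Γ(T.left, ⊤) :=
  (exists_isNm f T b).choose

theorem isNm_N (T : Over X) (b : Γ(((Over.pullback f).obj T).left, ⊤)) : IsNm f T b (N f T b) :=
  (exists_isNm f T b).choose_spec

theorem N_eq_iff {T : Over X} {b : Γ(((Over.pullback f).obj T).left, ⊤)} {a : Γ(T.left, ⊤)} :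
    N f T b = a ↔ IsNm f T b a :=
  ⟨fun h => h ▸ isNm_N f T b, fun h => IsNm.unique f (isNm_N f T b) h⟩

theorem N_map {V T : Over X} (g : V ⟶ T) (b : Γ(((Over.pullback f).obj T).left, ⊤)) :
    N f V (((Over.pullback f).map g).left.appTop b) = g.left.appTop (N f T b) :=
  (N_eq_iff f).mpr ((isNm_N f T b).map f g)

theorem N_one (T : Over X) : N f T 1 = 1 := (N_eq_iff f).mpr fun V g hV => by
  rw [map_one, map_one, map_one]

theorem N_mul (T : Over X) (b b' : Γ(((Over.pullback f).obj T).left, ⊤)) :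
    N f T (b * b') = N f T b * N f T b' := (N_eq_iff f).mpr fun V g hV => by
  rw [map_mul, map_mul, map_mul, isNm_N f T b V g hV, isNm_N f T b' V g hV]

/-- The norm as a homomorphism of monoids. -/
noncomputable def NHom (T : Over X) : Γ(((Over.pullback f).obj T).left, ⊤) →* Γ(T.left, ⊤) where
  toFun := N f T
  map_one' := N_one f T
  map_mul' := N_mul f T

theorem N_of_good {T : Over X} (hT : Good f T) (b : Γ(((Over.pullback f).obj T).left, ⊤)) :
    N f T b = nm (pr f T).appTop.hom b := (N_eq_iff f).mpr (isNm_of_good f hT b)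

end Cover

end K778.NormSch
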