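import Groth.Agent.GmDual.K778.NormMap
import Groth.Agent.GmDual.K778.DisjSh
import Groth.Agent.Etbase.FinEtPush
import Mathlib.LinearAlgebra.Matrix.Determinant.Basic
import Mathlib.LinearAlgebra.StdBasis
import Mathlib.AlgebraicGeometry.Morphisms.FlatMono

/-! The norm map on objects over which `f` splits: product over the sections. -/

set_option autoImplicit false
universe u
open CategoryTheory CategoryTheory.Limits AlgebraicGeometry TopologicalSpace Opposite MonObj MonoidalCategory
  CartesianMonoidalCategory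

namespace K778.NormSplit

open K778.NormAlg K778.NormSch CGrpSh3 Groth.Agent.Etbase.FinEtSplit Groth.Agent.Etbase.FinEtPush

theorem norm_pi {A : Type*} [CommRing A] {I : Type*} [Fintype I] (x : I → A) :
    Algebra.norm A x = ∏ i, x i := by
  classical
  rw [Algebra.norm_eq_matrix_det (Pi.basisFun A I)]
  have : Algebra.leftMulMatrix (Pi.basisFun A I) x = Matrix.diagonal x := by
    ext i j
    rw [Algebra.leftMulMatrix_eq_repr_mul, Pi.basisFun_repr, Pi.basisFun_apply]
    by_cases h : i = j
    · subst h; simp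
    · simp [h]
  rw [this, Matrix.det_diagonal]

theorem nm_eq_prod {A B : Type u} [CommRing A] [CommRing B] (φ : A →+* B) {I : Type*} [Fintype I]
    (σ : I → (B →+* A)) (hσ : ∀ i a, σ i (φ a) = a)
    (hb : Function.Bijective (fun (b : B) (i : I) => σ i b)) (b : B) : nm φ b = ∏ i, σ i b := by
  algebraize [φ]
  let e : B ≃ₐ[A] (I → A) := AlgEquiv.ofBijective
    { toFun := fun b i => σ i b
      map_one' := by ext; simp
      map_zero' := by ext; simp
      map_mul' := fun x y => by ext; simp
      map_add' := fun x y => by ext; simp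
      commutes' := fun a => by ext i; exact hσ i a } hb
  have h1 : Algebra.norm A (e b) = Algebra.norm A b := Algebra.norm_eq_of_algEquiv e b
  rw [norm_pi] at h1
  exact h1.symm

variable {X X' : Scheme.{u}} {f : X' ⟶ X}

/-- The section of `T ×_X X' ⟶ T` given by a lift of the structure map. -/
noncomputable def cc {T : Over X} {σ : T.left ⟶ X'} (hσ : σ ≫ f = T.hom) :
    Over.mk σ ⟶ (Over.pullback f).obj T :=
  Over.homMk (pullback.lift (𝟙 _) σ (by rw [hσ, Category.id_comp])) (pullback.lift_snd _ _ _)

theorem cc_pr {T : Over X} {σ : T.left ⟶ X'} (hσ : σ ≫ f = T.hom) : (cc hσ).left ≫ pr f T = 𝟙 _ :=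
  pullback.lift_fst _ _ _

theorem map_left_fst {V T : Over X} (g : V ⟶ T) :
    ((Over.pullback f).map g).left ≫ pr f T = pr f V ≫ g.left := (isPullback_map f g).w

theorem cc_nat {V T : Over X} (g : V ⟶ T) {σ : T.left ⟶ X'} (hσ : σ ≫ f = T.hom)
    (hσ' : (g.left ≫ σ) ≫ f = V.hom) :
    cc hσ' ≫ (Over.pullback f).map g = (Over.homMk g.left : Over.mk (g.left ≫ σ) ⟶ Over.mk σ) ≫ cc hσ := by
  ext1
  refine pullback.hom_ext (f := T.hom) (g := f) ?_ ?_
  · have h1 := map_left_fst (f := f) g
    change ((cc hσ').left ≫ ((Over.pullback f).map g).left) ≫ pr f T = (g.left ≫ (cc hσ).left) ≫ pr f T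
    rw [Category.assoc, h1, ← Category.assoc, cc_pr, Category.assoc, cc_pr, Category.id_comp]
    exact (Category.comp_id _).symm
  · have e1 := Over.w (cc hσ' ≫ (Over.pullback f).map g)
    have e2 := Over.w ((Over.homMk g.left : Over.mk (g.left ≫ σ) ⟶ Over.mk σ) ≫ cc hσ)
    exact e1.trans e2.symm

theorem isOpenImmersion_cc [Etale f] {T : Over X} {σ : T.left ⟶ X'} (hσ : σ ≫ f = T.hom) :
    IsOpenImmersion (cc hσ).left := by
  have h0 : Etale (pullback.fst T.hom f) := inferInstance
  have h1 : Etale ((cc hσ).left ≫ pullback.fst T.hom f) := by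
    rw [cc_pr]; infer_instance
  have h2 : Etale (cc hσ).left :=
    MorphismProperty.of_postcomp (W := @Etale) (W' := @Etale) (cc hσ).left (pullback.fst T.hom f) h0 h1
  have h3 : Mono (cc hσ).left := by
    have : Mono ((cc hσ).left ≫ pullback.fst T.hom f) := by rw [cc_pr]; infer_instance
    exact mono_of_mono (cc hσ).left (pullback.fst T.hom f)
  exact IsOpenImmersion.of_flat_of_mono _

variable {T : Over X} {n : ℕ} {s : Fin n → (T.left ⟶ X')} (h : IsSplit f T.hom s)

include h in
theorem cc_surj (z : ((Over.pullback f).obj T).left) : ∃ i, z ∈ Set.range (cc (h.w i)).left := by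
  obtain ⟨j, p, hp⟩ := pure_surj h T.hom (𝟙 _) (Category.id_comp _) z
  refine ⟨j, p, ?_⟩
  rw [← hp]
  have : (cc (h.w j)).left = pureLift (h.w j) T.hom (𝟙 _) (Category.id_comp _) := by
    apply pullback.hom_ext
    · rw [pureLift_fst]; exact cc_pr _
    · rw [pureLift_snd]; exact (pullback.lift_snd _ _ _).trans (Category.id_comp _).symm
  rw [this]

theorem cc_eq {i j : Fin n} {Z : Scheme.{u}} (a b : Z ⟶ T.left)
    (e : a ≫ (cc (h.w i)).left = b ≫ (cc (h.w j)).left) (z : Z) : i = j := by
  have : ∀ j, (cc (h.w j)).left = pureLift (h.w j) T.hom (𝟙 _) (Category.id_comp _) := by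
    intro j
    apply pullback.hom_ext
    · rw [pureLift_fst]; exact cc_pr _
    · rw [pureLift_snd]; exact (pullback.lift_snd _ _ _).trans (Category.id_comp _).symm
  rw [this, this] at e
  exact pure_eq h T.hom (𝟙 _) (Category.id_comp _) a b e z

theorem cc_disj [Etale f] {i j : Fin n} (hij : i ≠ j) :
    Disjoint (Set.range (cc (h.w i)).left) (Set.range (cc (h.w j)).left) := by
  have := isOpenImmersion_cc (h.w i)
  have := isOpenImmersion_cc (h.w j)
  rw [Set.disjoint_left]
  rintro _ ⟨x, hx⟩ ⟨y, hy⟩
  obtain ⟨z, hz1, hz2⟩ := Scheme.Pullback.exists_preimage_pullback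
    (f := (cc (h.w i)).left) (g := (cc (h.w j)).left) x y (hx.trans hy.symm)
  exact hij (cc_eq h _ _ pullback.condition z)

theorem bijective_cc [Etale f] :
    Function.Bijective (fun (b : Γ(((Over.pullback f).obj T).left, ⊤)) (i : Fin n) => (cc (h.w i)).left.appTop b) := by
  have him := fun i => isOpenImmersion_cc (h.w i)
  let U : Fin n → ((Over.pullback f).obj T).left.Opens := fun i => (cc (h.w i)).left.opensRange
  have hU : ⊤ ≤ ⨆ i, U i := fun z _ => by
    obtain ⟨i, hi⟩ := cc_surj h z
    exact Opens.mem_iSup.mpr ⟨i, hi⟩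
  constructor
  · intro b b' hbb
    refine ext_appTop _ U hU _ _ fun i => ?_
    have e : (U i).ι = (cc (h.w i)).left.isoOpensRange.inv ≫ (cc (h.w i)).left :=
      ((cc (h.w i)).left.isoOpensRange_inv_comp).symm
    rw [e, comp_appTop_apply, comp_appTop_apply]
    exact congrArg _ (congrFun hbb i)
  · intro a
    obtain ⟨b, hb⟩ := glue_appTop _ U hU (fun i => (cc (h.w i)).left.isoOpensRange.inv.appTop (a i)) (fun i j => by
      by_cases hij : i = j
      · subst hij; rfl
      · have : U i ⊓ U j = ⊥ := by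
          ext z
          simp only [Opens.coe_inf, Opens.coe_bot, Set.mem_inter_iff, Set.mem_empty_iff_false, iff_false]
          rintro ⟨h1, h2⟩
          exact Set.disjoint_left.mp (cc_disj h hij) h1 h2
        have : IsEmpty (U i ⊓ U j : (((Over.pullback f).obj T).left.Opens)).toScheme := by
          rw [this]
          exact ⟨fun z => z.2⟩
        exact Subsingleton.elim _ _)
    refine ⟨b, funext fun i => ?_⟩
    have e : (cc (h.w i)).left = (cc (h.w i)).left.isoOpensRange.hom ≫ (U i).ι :=
      ((cc (h.w i)).left.isoOpensRange_hom_ι).symm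
    change (cc (h.w i)).left.appTop b = a i
    have h1 := congrArg ((cc (h.w i)).left.isoOpensRange.hom.appTop) (hb i)
    rw [← comp_appTop_apply, ← comp_appTop_apply, Iso.hom_inv_id, ← e] at h1
    rw [h1]
    rfl

end K778.NormSplit
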