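import Groth.Agent.GmDual.K778.NormSplit

/-! Extension by zero of sections along a section of a finite étale morphism. -/

set_option autoImplicit false
universe u
open CategoryTheory CategoryTheory.Limits AlgebraicGeometry TopologicalSpace Opposite MonObj MonoidalCategory
  CartesianMonoidalCategory

namespace K778.ShSec

open K778.NormAlg K778.NormSch K778.NormSplit CGrpSh3 Groth.Agent.Etbase.FinEtSplit Groth.Agent.Etbase.FinEtPush

variable {X X' : Scheme.{u}} {f : X' ⟶ X} [Etale f] [IsSeparated f]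
  (H : BigSite.Ab Scheme.fppfPrecoverage X')

omit [Etale f] [IsSeparated f] in
theorem isPullback_cc {V' V : Over X} (h : V' ⟶ V) {τ : V.left ⟶ X'} {τ' : V'.left ⟶ X'} (hτ : τ ≫ f = V.hom)
    (hτ' : τ' ≫ f = V'.hom) (e : h.left ≫ τ = τ') :
    IsPullback h.left (cc hτ').left (cc hτ).left ((Over.pullback f).map h).left := by
  subst e
  refine IsPullback.of_bot (h₃₁ := h.left) (v₂₁ := pr f V') (v₂₂ := pr f V) ?_ ?_ (isPullback_map f h)
  · rw [cc_pr, cc_pr]
    exact IsPullback.id_vert h.left
  · exact congrArg (fun q => q.left) (cc_nat h hτ hτ').symm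

/-- `y` is supported on the section `τ` with value `x`. -/
def Supp {V : Over X} {τ : V.left ⟶ X'} (hτ : τ ≫ f = V.hom) (x : H.obj.obj (op (Over.mk τ)))
    (y : H.obj.obj (op ((Over.pullback f).obj V))) : Prop :=
  H.obj.map (cc hτ).op y = x ∧ ∀ (Z : Over X') (c : Z ⟶ (Over.pullback f).obj V),
    Disjoint (Set.range c.left) (Set.range (cc hτ).left) → H.obj.map c.op y = 0

theorem isClosed_range_cc {V : Over X} {τ : V.left ⟶ X'} (hτ : τ ≫ f = V.hom) :
    IsClosed (Set.range (cc hτ).left) := by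
  have h0 : IsSeparated (pullback.fst V.hom f) := inferInstance
  have h1 : IsClosedImmersion ((cc hτ).left ≫ pullback.fst V.hom f) := by
    rw [cc_pr]; infer_instance
  have h2 : IsClosedImmersion (cc hτ).left := IsClosedImmersion.of_comp (cc hτ).left (pullback.fst V.hom f)
  exact (cc hτ).left.isClosedEmbedding.isClosed_range

theorem existsUnique_supp {V : Over X} {τ : V.left ⟶ X'} (hτ : τ ≫ f = V.hom) (x : H.obj.obj (op (Over.mk τ))) :
    ∃! y, Supp H hτ x y := by
  let U : ((Over.pullback f).obj V).left.Opens := ⟨(Set.range (cc hτ).left)ᶜ, (isClosed_range_cc hτ).isOpen_compl⟩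
  let C : Over X' := Over.mk (U.ι ≫ ((Over.pullback f).obj V).hom)
  let co : C ⟶ (Over.pullback f).obj V := Over.homMk U.ι
  let Yi : Bool → Over X' := fun b => if b then Over.mk τ else C
  let c : ∀ b, Yi b ⟶ (Over.pullback f).obj V := fun b => match b with
    | true => cc hτ
    | false => co
  have him : ∀ b, IsOpenImmersion (c b).left := by
    rintro (_ | _)
    · exact (inferInstance : IsOpenImmersion U.ι)
    · exact isOpenImmersion_cc hτ
  have hcov : ∀ y, ∃ b, y ∈ Set.range (c b).left := by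
    intro y
    by_cases hy : y ∈ Set.range (cc hτ).left
    · exact ⟨true, hy⟩
    · exact ⟨false, ⟨y, hy⟩, rfl⟩
  have hdis : Disjoint (Set.range co.left) (Set.range (cc hτ).left) := by
    rw [Set.disjoint_left]
    rintro _ ⟨z, rfl⟩
    exact z.2
  have hd : ∀ i j, i ≠ j → Disjoint (Set.range (c i).left) (Set.range (c j).left) := by
    rintro (_ | _) (_ | _) hij
    · exact absurd rfl hij
    · exact hdis
    · exact hdis.symm
    · exact absurd rfl hij
  have hx := DisjSh.existsUnique_of_disjoint H Yi c hcov hd (fun b => match b with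
    | true => x
    | false => 0)
  obtain ⟨y, hy, hyu⟩ := hx
  refine ⟨y, ⟨hy true, fun Z d hZ => ?_⟩, fun y' hy' => hyu y' ?_⟩
  · have hr : Set.range d.left ⊆ Set.range U.ι := by
      rintro _ ⟨z, rfl⟩
      have : d.left z ∈ U := fun hz => Set.disjoint_left.mp hZ ⟨z, rfl⟩ hz
      simpa using this
    let d' : Z ⟶ C := Over.homMk (IsOpenImmersion.lift U.ι d.left hr) (by
      change IsOpenImmersion.lift U.ι d.left hr ≫ U.ι ≫ ((Over.pullback f).obj V).hom = Z.hom
      rw [IsOpenImmersion.lift_fac_assoc, Over.w])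
    have hd' : d' ≫ co = d := by
      ext1
      exact IsOpenImmersion.lift_fac _ _ _
    have h1 : H.obj.map co.op y = 0 := hy false
    rw [← hd', op_comp, H.obj.map_comp, ConcreteCategory.comp_apply, h1, map_zero]
  · rintro (_ | _)
    · exact hy'.2 C co hdis
    · exact hy'.1

/-- Extension by zero. -/
noncomputable def sh {V : Over X} {τ : V.left ⟶ X'} (hτ : τ ≫ f = V.hom) :
    H.obj.obj (op (Over.mk τ)) →+ H.obj.obj (op ((Over.pullback f).obj V)) where
  toFun x := (existsUnique_supp H hτ x).choose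
  map_zero' := by
    refine ((existsUnique_supp H hτ 0).unique (existsUnique_supp H hτ 0).choose_spec.1 ⟨map_zero _, fun Z c _ => map_zero _⟩)
  map_add' x x' := by
    obtain ⟨h1, h2⟩ := (existsUnique_supp H hτ x).choose_spec.1
    obtain ⟨h1', h2'⟩ := (existsUnique_supp H hτ x').choose_spec.1
    refine ((existsUnique_supp H hτ (x + x')).unique (existsUnique_supp H hτ (x + x')).choose_spec.1
      ⟨by rw [map_add, h1, h1'], fun Z c hc => by rw [map_add, h2 Z c hc, h2' Z c hc, add_zero]⟩)

theorem supp_sh {V : Over X} {τ : V.left ⟶ X'} (hτ : τ ≫ f = V.hom) (x : H.obj.obj (op (Over.mk τ))) :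
    Supp H hτ x (sh H hτ x) := (existsUnique_supp H hτ x).choose_spec.1

theorem Supp.eq_sh {V : Over X} {τ : V.left ⟶ X'} {hτ : τ ≫ f = V.hom} {x : H.obj.obj (op (Over.mk τ))}
    {y : H.obj.obj (op ((Over.pullback f).obj V))} (h : Supp H hτ x y) : y = sh H hτ x :=
  (existsUnique_supp H hτ x).unique h (supp_sh H hτ x)

theorem sh_nat {V' V : Over X} (h : V' ⟶ V) {τ : V.left ⟶ X'} {τ' : V'.left ⟶ X'} (hτ : τ ≫ f = V.hom)
    (hτ' : τ' ≫ f = V'.hom) (e : h.left ≫ τ = τ') (x : H.obj.obj (op (Over.mk τ))) :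
    H.obj.map ((Over.pullback f).map h).op (sh H hτ x) =
      sh H hτ' (H.obj.map (Over.homMk h.left e : Over.mk τ' ⟶ Over.mk τ).op x) := by
  apply Supp.eq_sh
  constructor
  · have h1 : cc hτ' ≫ (Over.pullback f).map h = (Over.homMk h.left e : Over.mk τ' ⟶ Over.mk τ) ≫ cc hτ := by
      subst e
      exact cc_nat h hτ hτ'
    rw [← ConcreteCategory.comp_apply, ← H.obj.map_comp, ← op_comp, h1, op_comp, H.obj.map_comp,
      ConcreteCategory.comp_apply, (supp_sh H hτ x).1]
  · intro Z c hc
    rw [← ConcreteCategory.comp_apply, ← H.obj.map_comp, ← op_comp]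
    refine (supp_sh H hτ x).2 Z _ ?_
    rw [Set.disjoint_left]
    rintro _ ⟨z, rfl⟩ ⟨v, hv⟩
    have hp := isPullback_cc h hτ hτ' e
    obtain ⟨w, hw1, hw2⟩ := Scheme.Pullback.exists_preimage_pullback
      (f := (cc hτ).left) (g := ((Over.pullback f).map h).left) v (c.left z) hv
    refine Set.disjoint_left.mp hc ⟨z, rfl⟩ ⟨hp.isoPullback.inv w, ?_⟩
    rw [← Scheme.Hom.comp_apply, IsPullback.isoPullback_inv_snd, hw2]

section Split

variable {H}
variable {T : Over X} {n : ℕ} {s : Fin n → (T.left ⟶ X')} (h : IsSplit f T.hom s)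

theorem map_cc_sh (i j : Fin n) (hij : i ≠ j) (x : H.obj.obj (op (Over.mk (s j)))) :
    H.obj.map (cc (h.w i)).op (sh H (h.w j) x) = 0 :=
  (supp_sh H (h.w j) x).2 _ _ (cc_disj h hij)

theorem map_cc_sh_self (j : Fin n) (x : H.obj.obj (op (Over.mk (s j)))) :
    H.obj.map (cc (h.w j)).op (sh H (h.w j) x) = x := (supp_sh H (h.w j) x).1

omit [IsSeparated f] in
theorem ext_cc (y y' : H.obj.obj (op ((Over.pullback f).obj T)))
    (hy : ∀ i, H.obj.map (cc (h.w i)).op y = H.obj.map (cc (h.w i)).op y') : y = y' := by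
  have him := fun i => isOpenImmersion_cc (h.w i)
  exact DisjSh.ext_of_cover H (fun i => Over.mk (s i)) (fun i => cc (h.w i)) (cc_surj h) y y' hy

theorem sum_sh (y : H.obj.obj (op ((Over.pullback f).obj T))) :
    ∑ j, sh H (h.w j) (H.obj.map (cc (h.w j)).op y) = y := by
  classical
  refine ext_cc h _ _ fun i => ?_
  rw [map_sum, Finset.sum_eq_single i]
  · exact map_cc_sh_self h i _
  · intro j _ hj
    exact map_cc_sh h i j hj.symm _
  · intro hi
    exact absurd (Finset.mem_univ i) hi

end Split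

end K778.ShSec
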