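import Mathlib.RingTheory.Coalgebra.Convolution
import Mathlib.RingTheory.Bialgebra.Convolution
import Mathlib.RingTheory.HopfAlgebra.Convolution
import Mathlib.RingTheory.Bialgebra.TensorProduct
import Mathlib.RingTheory.Finiteness.Projective
import Mathlib.LinearAlgebra.Dual.Lemmas

/-! Symmetric multiplicative 2-cocycles of a finite projective Hopf algebra become coboundaries over a finite
locally free extension: the dual of the coalgebra twisted by the cocycle. -/

set_option autoImplicit false
universe u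

open TensorProduct Coalgebra WithConv

namespace K778.TwCoalg

section Defs

variable {R : Type u} [CommRing R] {A : Type u} [CommRing A]

/-- The value of a 2-cochain at a pair of points. -/
noncomputable def val₂ [Algebra R A] {B : Type u} [CommRing B] [Algebra R B] (f g : A →ₐ[R] B) :
    A ⊗[R] A →ₐ[R] B := Algebra.TensorProduct.lift f g (fun _ _ => .all _ _)

variable [Bialgebra R A]

/-- Normalised symmetric multiplicative 2-cocycles. -/
structure IsCoc (c : A ⊗[R] A) : Prop where
  assoc : ∀ (B : Type u) [CommRing B] [Algebra R B] (f g h : WithConv (A →ₐ[R] B)),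
    val₂ (f * g).ofConv h.ofConv c * val₂ f.ofConv g.ofConv c = val₂ f.ofConv (g * h).ofConv c * val₂ g.ofConv h.ofConv c
  symm : ∀ (B : Type u) [CommRing B] [Algebra R B] (f g : A →ₐ[R] B), val₂ f g c = val₂ g f c
  norm : ∀ (B : Type u) [CommRing B] [Algebra R B] (f : A →ₐ[R] B),
    val₂ (1 : WithConv (A →ₐ[R] B)).ofConv f c = 1

theorem val₂_tmul {B : Type u} [CommRing B] [Algebra R B] (f g : A →ₐ[R] B) (a b : A) :
    val₂ f g (a ⊗ₜ[R] b) = f a * g b := Algebra.TensorProduct.lift_tmul _ _ _ _ _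

theorem conv_eq {B : Type u} [CommRing B] [Algebra R B] (f g : WithConv (A →ₐ[R] B)) (a : A) :
    (f * g).ofConv a = val₂ f.ofConv g.ofConv (comul (R := R) a) := AlgHom.convMul_apply f g a

/-- The comultiplication twisted by `c`. -/
noncomputable def twComul (c : A ⊗[R] A) : A →ₗ[R] A ⊗[R] A := LinearMap.mulLeft R c ∘ₗ comul

theorem twComul_apply (c : A ⊗[R] A) (a : A) : twComul c a = c * comul (R := R) a := rfl

/-- The three points of `A ⊗ (A ⊗ A)`. -/
noncomputable def p₁ : WithConv (A →ₐ[R] A ⊗[R] (A ⊗[R] A)) := toConv Algebra.TensorProduct.includeLeft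
noncomputable def p₂ : WithConv (A →ₐ[R] A ⊗[R] (A ⊗[R] A)) :=
  toConv (Algebra.TensorProduct.includeRight.comp Algebra.TensorProduct.includeLeft)
noncomputable def p₃ : WithConv (A →ₐ[R] A ⊗[R] (A ⊗[R] A)) :=
  toConv (Algebra.TensorProduct.includeRight.comp Algebra.TensorProduct.includeRight)

theorem p₂₃ (z : A ⊗[R] A) : val₂ (p₂ (R := R) (A := A)).ofConv p₃.ofConv z = (1 : A) ⊗ₜ[R] z := by
  induction z with
  | zero => rw [map_zero, TensorProduct.tmul_zero]
  | add x y hx hy => rw [map_add, hx, hy, TensorProduct.tmul_add]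
  | tmul a b =>
    rw [val₂_tmul]
    change ((1 : A) ⊗ₜ[R] (a ⊗ₜ[R] (1 : A))) * ((1 : A) ⊗ₜ[R] ((1 : A) ⊗ₜ[R] b)) = _
    simp

theorem p₁₂ (z : A ⊗[R] A) : val₂ (p₁ (R := R) (A := A)).ofConv p₂.ofConv z =
    TensorProduct.assoc R A A A (z ⊗ₜ[R] (1 : A)) := by
  induction z with
  | zero => rw [map_zero, TensorProduct.zero_tmul, map_zero]
  | add x y hx hy => rw [map_add, hx, hy, TensorProduct.add_tmul, map_add]
  | tmul a b =>
    rw [val₂_tmul]
    change (a ⊗ₜ[R] ((1 : A) ⊗ₜ[R] (1 : A))) * ((1 : A) ⊗ₜ[R] (b ⊗ₜ[R] (1 : A))) = _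
    simp

theorem p₁_₂₃ (z : A ⊗[R] A) : val₂ (p₁ (R := R) (A := A)).ofConv (p₂ (R := R) (A := A) * p₃).ofConv z =
    (comul (R := R) (A := A)).lTensor A z := by
  induction z with
  | zero => rw [map_zero, map_zero]
  | add x y hx hy => rw [map_add, hx, hy, map_add]
  | tmul a b =>
    rw [val₂_tmul, conv_eq, p₂₃]
    change (a ⊗ₜ[R] ((1 : A) ⊗ₜ[R] (1 : A))) * ((1 : A) ⊗ₜ[R] _) = _
    rw [← Algebra.TensorProduct.one_def]
    simp

theorem p₁₂_₃ (z : A ⊗[R] A) : val₂ (p₁ (R := R) (A := A) * p₂).ofConv (p₃).ofConv z =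
    TensorProduct.assoc R A A A ((comul (R := R) (A := A)).rTensor A z) := by
  induction z with
  | zero => rw [map_zero, map_zero, map_zero]
  | add x y hx hy => rw [map_add, hx, hy, map_add, map_add]
  | tmul a b =>
    rw [val₂_tmul, conv_eq, p₁₂, LinearMap.rTensor_tmul]
    change _ * ((1 : A) ⊗ₜ[R] ((1 : A) ⊗ₜ[R] b)) = _
    generalize comul (R := R) a = w
    induction w with
    | zero => simp
    | add x y hx hy => rw [TensorProduct.add_tmul, map_add, add_mul, hx, hy, TensorProduct.add_tmul, map_add]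
    | tmul x y => simp

/-- `TensorProduct.assoc` is multiplicative. -/
theorem assoc_mul (x y : (A ⊗[R] A) ⊗[R] A) : TensorProduct.assoc R A A A (x * y) =
    TensorProduct.assoc R A A A x * TensorProduct.assoc R A A A y :=
  map_mul (Algebra.TensorProduct.assoc R R R A A A) x y

theorem rTensor_twComul (c z : A ⊗[R] A) : (twComul c).rTensor A z = (c ⊗ₜ[R] (1 : A)) * (comul (R := R)).rTensor A z := by
  induction z with
  | zero => simp
  | add x y hx hy => rw [map_add, hx, hy, map_add, mul_add]
  | tmul a b =>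
    rw [LinearMap.rTensor_tmul, LinearMap.rTensor_tmul, Algebra.TensorProduct.tmul_mul_tmul, one_mul]
    rfl

theorem lTensor_twComul (c z : A ⊗[R] A) : (twComul c).lTensor A z = ((1 : A) ⊗ₜ[R] c) * (comul (R := R)).lTensor A z := by
  induction z with
  | zero => simp
  | add x y hx hy => rw [map_add, hx, hy, map_add, mul_add]
  | tmul a b =>
    rw [LinearMap.lTensor_tmul, LinearMap.lTensor_tmul, Algebra.TensorProduct.tmul_mul_tmul, one_mul]
    rfl

theorem lTensor_mul (x y : A ⊗[R] A) : (comul (R := R) (A := A)).lTensor A (x * y) =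
    (comul (R := R) (A := A)).lTensor A x * (comul (R := R) (A := A)).lTensor A y :=
  map_mul (Algebra.TensorProduct.map (AlgHom.id R A) (Bialgebra.comulAlgHom R A)) x y

theorem rTensor_mul (x y : A ⊗[R] A) : (comul (R := R) (A := A)).rTensor A (x * y) =
    (comul (R := R) (A := A)).rTensor A x * (comul (R := R) (A := A)).rTensor A y :=
  map_mul (Algebra.TensorProduct.map (Bialgebra.comulAlgHom R A) (AlgHom.id R A)) x y

variable {c : A ⊗[R] A} (hc : IsCoc c)

include hc

theorem tw_coassoc (a : A) : TensorProduct.assoc R A A A ((twComul c).rTensor A (twComul c a)) =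
    (twComul c).lTensor A (twComul c a) := by
  have h1 := hc.assoc _ (p₁ (R := R) (A := A)) p₂ p₃
  rw [p₁₂_₃, p₁₂, p₁_₂₃, p₂₃] at h1
  rw [rTensor_twComul, lTensor_twComul, twComul_apply, assoc_mul, lTensor_mul, rTensor_mul, assoc_mul,
    Coalgebra.coassoc_apply, ← mul_assoc, mul_comm (TensorProduct.assoc R A A A (c ⊗ₜ[R] 1)), h1, ← mul_assoc,
    mul_comm ((1 : A) ⊗ₜ[R] c)]

omit hc in
theorem val₂_one (z : A ⊗[R] A) : val₂ (1 : WithConv (A →ₐ[R] A)).ofConv (AlgHom.id R A) z =
    TensorProduct.lid R A ((counit (R := R) (A := A)).rTensor A z) := by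
  induction z with
  | zero => simp
  | add x y hx hy => rw [map_add, hx, hy, map_add, map_add]
  | tmul a b =>
    rw [val₂_tmul, LinearMap.rTensor_tmul, TensorProduct.lid_tmul, Algebra.smul_def]
    rfl

theorem tw_counit_left (a : A) : (counit (R := R) (A := A)).rTensor A (twComul c a) = (1 : R) ⊗ₜ[R] a := by
  apply (TensorProduct.lid R A).injective
  rw [← val₂_one, twComul_apply, map_mul, hc.norm, one_mul, val₂_one, Coalgebra.rTensor_counit_comul]

omit hc in
theorem val₂_comm {B : Type u} [CommRing B] [Algebra R B] (f g : A →ₐ[R] B) (z : A ⊗[R] A) :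
    val₂ f g (TensorProduct.comm R A A z) = val₂ g f z := by
  induction z with
  | zero => simp
  | add x y hx hy => rw [map_add, map_add, hx, hy, map_add]
  | tmul a b =>
    rw [TensorProduct.comm_tmul, val₂_tmul, val₂_tmul, mul_comm]

omit hc in
theorem val₂_id (z : A ⊗[R] A) : val₂ (Algebra.TensorProduct.includeLeft : A →ₐ[R] A ⊗[R] A)
    Algebra.TensorProduct.includeRight z = z := by
  induction z with
  | zero => simp
  | add x y hx hy => rw [map_add, hx, hy]
  | tmul a b =>
    rw [val₂_tmul]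
    simp

theorem tw_comm [IsCocomm R A] (a : A) : TensorProduct.comm R A A (twComul c a) = twComul c a := by
  have h1 : TensorProduct.comm R A A c = c := by
    rw [← val₂_id (TensorProduct.comm R A A c), val₂_comm, ← hc.symm, val₂_id]
  have h2 : TensorProduct.comm R A A (c * comul (R := R) a) =
      TensorProduct.comm R A A c * TensorProduct.comm R A A (comul (R := R) a) :=
    map_mul (Algebra.TensorProduct.comm R A A) _ _
  rw [twComul_apply, h2, h1, Coalgebra.comm_comul]

end Defs

section Alg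

variable {R : Type u} [CommRing R] {A : Type u} [CommRing A] [Bialgebra R A]

/-- `A` with the comultiplication twisted by `c`. -/
@[nolint unusedArguments]
def Tw (_ : A ⊗[R] A) : Type u := A

variable (c : A ⊗[R] A)

noncomputable instance : AddCommGroup (Tw c) := inferInstanceAs (AddCommGroup A)
noncomputable instance : Module R (Tw c) := inferInstanceAs (Module R A)

variable [hc : Fact (IsCoc c)]

noncomputable instance coalg [IsCocomm R A] : Coalgebra R (Tw c) where
  comul := (show A →ₗ[R] A ⊗[R] A from twComul c)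
  counit := (show A →ₗ[R] R from counit)
  coassoc := LinearMap.ext fun a => tw_coassoc hc.out a
  rTensor_counit_comp_comul := LinearMap.ext fun a => tw_counit_left hc.out a
  lTensor_counit_comp_comul := LinearMap.ext fun a => by
    have h1 := tw_counit_left hc.out (show A from a)
    have h2 := tw_comm hc.out (show A from a)
    change (counit (R := R) (A := A)).lTensor A (twComul c a) = (show A from a) ⊗ₜ[R] (1 : R)
    rw [← h2, LinearMap.lTensor_comm, h1]
    rfl

instance cocomm [IsCocomm R A] : IsCocomm R (Tw c) where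
  comm_comp_comul := LinearMap.ext fun a => tw_comm hc.out a

end Alg

section Ev

variable {R : Type u} [CommRing R] {B : Type u} [CommRing B] [Algebra R B]

/-- Evaluation of a functional, with coefficients. -/
noncomputable def ev {V : Type u} [AddCommGroup V] [Module R V] (B : Type u) [CommRing B] [Algebra R B]
    (f : V →ₗ[R] R) : V ⊗[R] B →ₗ[R] B := (TensorProduct.lid R B).toLinearMap ∘ₗ f.rTensor B

theorem ev_tmul {V : Type u} [AddCommGroup V] [Module R V] (f : V →ₗ[R] R) (v : V) (b : B) :
    ev B f (v ⊗ₜ[R] b) = f v • b := by simp [ev]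

theorem ev_rTensor {V W : Type u} [AddCommGroup V] [Module R V] [AddCommGroup W] [Module R W] (f : W →ₗ[R] R)
    (ψ : V →ₗ[R] W) (z : V ⊗[R] B) : ev B f (ψ.rTensor B z) = ev B (f ∘ₗ ψ) z := by
  induction z with
  | zero => simp
  | add x y hx hy => rw [map_add, map_add, hx, hy, map_add]
  | tmul a b => rw [LinearMap.rTensor_tmul, ev_tmul, ev_tmul]; rfl

variable {A : Type u} [CommRing A] [Algebra R A]

/-- The product of two functionals. -/
noncomputable def prodFun (f g : A →ₗ[R] R) : A ⊗[R] A →ₗ[R] R := LinearMap.mul' R R ∘ₗ TensorProduct.map f g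

theorem prodFun_tmul (f g : A →ₗ[R] R) (v w : A) : prodFun f g (v ⊗ₜ[R] w) = f v * g w := by simp [prodFun]

/-- The two maps `A ⊗ B → (A ⊗ A) ⊗ B`. -/
noncomputable def inl₂ : A ⊗[R] B →ₐ[R] (A ⊗[R] A) ⊗[R] B :=
  Algebra.TensorProduct.map (Algebra.TensorProduct.includeLeft : A →ₐ[R] A ⊗[R] A) (AlgHom.id R B)
noncomputable def inr₂ : A ⊗[R] B →ₐ[R] (A ⊗[R] A) ⊗[R] B :=
  Algebra.TensorProduct.map (Algebra.TensorProduct.includeRight : A →ₐ[R] A ⊗[R] A) (AlgHom.id R B)

theorem ev_mul (f g : A →ₗ[R] R) (x y : A ⊗[R] B) :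
    ev B (prodFun f g) (inl₂ x * inr₂ y) = ev B f x * ev B g y := by
  induction x with
  | zero => rw [map_zero, zero_mul, map_zero, map_zero, zero_mul]
  | add x y hx hy => rw [map_add, add_mul, map_add, map_add, hx, hy, add_mul]
  | tmul a c =>
    induction y with
    | zero => rw [map_zero, mul_zero, map_zero, map_zero, mul_zero]
    | add x y hx hy => rw [map_add, mul_add, map_add, map_add, hx, hy, mul_add]
    | tmul b d =>
      rw [inl₂, inr₂, Algebra.TensorProduct.map_tmul, Algebra.TensorProduct.map_tmul,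
        Algebra.TensorProduct.tmul_mul_tmul,
        Algebra.TensorProduct.includeLeft_apply, Algebra.TensorProduct.includeRight_apply,
        Algebra.TensorProduct.tmul_mul_tmul, ev_tmul, ev_tmul, ev_tmul, prodFun_tmul, mul_one, one_mul,
        smul_mul_smul_comm]
      rfl

/-- Dual bases. -/
theorem exists_dualBasis (R A : Type u) [CommRing R] [CommRing A] [Algebra R A] [Module.Finite R A]
    [Module.Projective R A] : ∃ (n : ℕ) (a : Fin n → A) (φ : Fin n → A →ₗ[R] R), ∀ x, ∑ i, φ i x • a i = x := by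
  classical
  obtain ⟨n, f, g, -, -, h⟩ := Module.Finite.exists_comp_eq_id_of_projective R A
  refine ⟨n, fun i => f (Pi.single i 1), fun i => LinearMap.proj i ∘ₗ g, fun x => ?_⟩
  have h1 := LinearMap.congr_fun h x
  conv_rhs => rw [← show f (g x) = x from h1, LinearMap.pi_apply_eq_sum_univ f (g x)]
  refine Finset.sum_congr rfl fun i _ => ?_
  change g x i • f _ = g x i • f _
  refine congrArg (fun t => g x i • f t) ?_
  funext j
  rw [Pi.single_apply]
  simp only [eq_comm]

theorem eq_of_ev {n : ℕ} {a : Fin n → A} {φ : Fin n → A →ₗ[R] R} (h : ∀ x, ∑ i, φ i x • a i = x)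
    (z w : (A ⊗[R] A) ⊗[R] B) (hzw : ∀ i j, ev B (prodFun (φ i) (φ j)) z = ev B (prodFun (φ i) (φ j)) w) : z = w := by
  have key : ∀ z : (A ⊗[R] A) ⊗[R] B, z = ∑ i, ∑ j, (a i ⊗ₜ[R] a j) ⊗ₜ[R] ev B (prodFun (φ i) (φ j)) z := by
    intro z
    induction z with
    | zero => simp
    | add x y hx hy =>
      simp only [map_add, TensorProduct.tmul_add, Finset.sum_add_distrib]
      rw [← hx, ← hy]
    | tmul x b =>
      induction x with
      | zero => simp
      | add x y hx hy =>
        simp only [map_add, TensorProduct.tmul_add, TensorProduct.add_tmul, Finset.sum_add_distrib]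
        rw [← hx, ← hy]
      | tmul x y =>
        have h1 : ∀ i j, (a i ⊗ₜ[R] a j) ⊗ₜ[R] ev B (prodFun (φ i) (φ j)) ((x ⊗ₜ[R] y) ⊗ₜ[R] b) =
            ((φ i x • a i) ⊗ₜ[R] (φ j y • a j)) ⊗ₜ[R] b := by
          intro i j
          rw [ev_tmul, prodFun_tmul, TensorProduct.tmul_smul, TensorProduct.smul_tmul_smul, TensorProduct.smul_tmul']
        have h2 : ∀ i, ∑ j, ((φ i x • a i) ⊗ₜ[R] (φ j y • a j)) ⊗ₜ[R] b = ((φ i x • a i) ⊗ₜ[R] y) ⊗ₜ[R] b := by
          intro i
          rw [← TensorProduct.sum_tmul, ← TensorProduct.tmul_sum, h]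
        simp only [h1, h2]
        rw [← TensorProduct.sum_tmul, ← TensorProduct.sum_tmul, h]
  rw [key z, key w]
  simp only [hzw]

end Ev

end K778.TwCoalg
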